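import Groth.Prelude.Def_GrSyz
import Mathlib.RingTheory.MvPolynomial.Homogeneous
import Mathlib.Data.Sym.Card
import Mathlib.LinearAlgebra.Dimension.Finrank
import Mathlib.LinearAlgebra.Dimension.Free
import Mathlib.LinearAlgebra.Dimension.StrongRankCondition
import Mathlib.LinearAlgebra.Finsupp.VectorSpace
import Mathlib.RingTheory.MvPolynomial.Ideal
import Mathlib.LinearAlgebra.Dimension.Constructions
import Mathlib.LinearAlgebra.FreeModule.StrongRankCondition
import Mathlib.LinearAlgebra.FiniteDimensional.Basic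
import Mathlib.Algebra.Order.Antidiag.FinsuppEquiv

/-!
# The standard grading of a polynomial ring, indexed by the integers: basic facts

* `mem_stdGr_nat`, `stdGr_neg`, `mem_stdGr_zero`: the pieces;
* `mem_irrel_iff`: the irrelevant ideal is the ideal of polynomials without constant term;
* `irrel_eq_span`: it is generated by the variables;
* `finrank_stdGr`: the dimension of the pieces.
-/

set_option autoImplicit false
universe u v

open GrSyz MvPolynomial

namespace K860.Basic

variable {k : Type u} [CommRing k] {σ : Type v}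

theorem weight_one (d : σ →₀ ℕ) : Finsupp.weight (fun _ : σ => (1 : ℤ)) d = (d.degree : ℤ) := by
  rw [Finsupp.weight_apply, Finsupp.sum, Finsupp.degree_apply]
  simp

theorem mem_stdGr (n : ℤ) (p : MvPolynomial σ k) :
    p ∈ stdGr k σ n ↔ ∀ d : σ →₀ ℕ, coeff d p ≠ 0 → (d.degree : ℤ) = n := by
  rw [mem_stdGr_iff]
  refine ⟨fun h d hd => ?_, fun h d hd => ?_⟩
  · rw [← weight_one]; exact h hd
  · rw [weight_one]; exact h d hd

theorem mem_stdGr_nat (n : ℕ) (p : MvPolynomial σ k) :
    p ∈ stdGr k σ (n : ℤ) ↔ p ∈ homogeneousSubmodule σ k n := by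
  rw [mem_stdGr, mem_homogeneousSubmodule]
  refine ⟨fun h d hd => ?_, fun h d hd => ?_⟩
  · have := h d hd
    rw [Finsupp.weight_apply, Finsupp.sum]
    have e : d.degree = n := by exact_mod_cast this
    simpa [Finsupp.degree_apply] using e
  · have := h hd
    rw [Finsupp.weight_apply, Finsupp.sum] at this
    have e : d.degree = n := by simpa [Finsupp.degree_apply] using this
    exact_mod_cast e

theorem stdGr_nat (n : ℕ) : stdGr k σ (n : ℤ) = homogeneousSubmodule σ k n := by
  ext p; exact mem_stdGr_nat n p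

theorem stdGr_neg {n : ℤ} (hn : n < 0) : stdGr k σ n = ⊥ := by
  rw [eq_bot_iff]
  intro p hp
  rw [mem_stdGr] at hp
  rw [Submodule.mem_bot]
  ext d
  by_contra h
  have := hp d (by simpa using h)
  omega

theorem eq_zero_of_neg {n : ℤ} (hn : n < 0) {p : MvPolynomial σ k} (hp : p ∈ stdGr k σ n) : p = 0 := by
  rw [stdGr_neg hn] at hp
  exact (Submodule.mem_bot k).1 hp

theorem X_mem (a : σ) : (X a : MvPolynomial σ k) ∈ stdGr k σ 1 := by
  have := (mem_stdGr_nat (k := k) (σ := σ) 1 (X a)).2 ((mem_homogeneousSubmodule _ _).2 (isHomogeneous_X k a))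
  simpa using this

theorem C_mem (c : k) : (C c : MvPolynomial σ k) ∈ stdGr k σ 0 := by
  have := (mem_stdGr_nat (k := k) (σ := σ) 0 (C c)).2 ((mem_homogeneousSubmodule _ _).2 (isHomogeneous_C σ c))
  simpa using this

theorem one_mem' : (1 : MvPolynomial σ k) ∈ stdGr k σ 0 := by
  simpa using C_mem (σ := σ) (1 : k)

theorem mem_stdGr_zero {p : MvPolynomial σ k} (hp : p ∈ stdGr k σ 0) : p = C (constantCoeff p) := by
  classical
  rw [mem_stdGr] at hp
  ext d
  rw [coeff_C]
  split_ifs with h
  · subst h; rfl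
  · by_contra h'
    have := hp d h'
    exact h ((Finsupp.degree_eq_zero_iff d).1 (by exact_mod_cast this)).symm

theorem mul_mem' {a b : ℤ} {p q : MvPolynomial σ k} (hp : p ∈ stdGr k σ a) (hq : q ∈ stdGr k σ b) :
    p * q ∈ stdGr k σ (a + b) := SetLike.mul_mem_graded hp hq

/-- a homogeneous polynomial of positive degree has no constant term -/
theorem constantCoeff_eq_zero {n : ℤ} (hn : n ≠ 0) {p : MvPolynomial σ k} (hp : p ∈ stdGr k σ n) :
    constantCoeff p = 0 := by
  rw [mem_stdGr] at hp
  by_contra h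
  have := hp 0 (by rwa [constantCoeff_eq] at h)
  simp at this
  exact hn this.symm

theorem irrel_le : (irrel (stdGr k σ)).toIdeal ≤ RingHom.ker (constantCoeff (R := k) (σ := σ)) := by
  change Ideal.span _ ≤ _
  rw [Ideal.span_le]
  rintro p ⟨n, hn, hp⟩
  exact constantCoeff_eq_zero hn.ne' hp

theorem span_X_le : Ideal.span (Set.range (X : σ → MvPolynomial σ k)) ≤ (irrel (stdGr k σ)).toIdeal := by
  rw [Ideal.span_le]
  rintro _ ⟨a, rfl⟩
  exact Ideal.subset_span ⟨1, one_pos, X_mem a⟩

theorem mem_span_X_iff (p : MvPolynomial σ k) :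
    p ∈ Ideal.span (Set.range (X : σ → MvPolynomial σ k)) ↔ constantCoeff p = 0 := by
  rw [← Set.image_univ, mem_ideal_span_X_image]
  constructor
  · intro h
    by_contra h'
    obtain ⟨i, _, hi⟩ := h 0 (by rwa [mem_support_iff, ← constantCoeff_eq])
    exact hi rfl
  · intro h m hm
    by_contra h'
    push Not at h'
    have : m = 0 := by
      ext i
      exact h' i (Set.mem_univ i)
    subst this
    rw [mem_support_iff, ← constantCoeff_eq] at hm
    exact hm h

theorem mem_irrel_iff (p : MvPolynomial σ k) :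
    p ∈ (irrel (stdGr k σ)).toIdeal ↔ constantCoeff p = 0 :=
  ⟨fun h => irrel_le h, fun h => span_X_le ((mem_span_X_iff p).2 h)⟩

theorem irrel_eq_span :
    (irrel (stdGr k σ)).toIdeal = Ideal.span (Set.range (X : σ → MvPolynomial σ k)) := by
  ext p
  rw [mem_irrel_iff, mem_span_X_iff]

/-- a homogeneous element of the irrelevant ideal of degree `≤ 0` vanishes -/
theorem eq_zero_of_mem_irrel {n : ℤ} (hn : n ≤ 0) {p : MvPolynomial σ k} (hp : p ∈ stdGr k σ n)
    (hp' : p ∈ (irrel (stdGr k σ)).toIdeal) : p = 0 := by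
  rcases hn.lt_or_eq with h | rfl
  · exact eq_zero_of_neg h hp
  · rw [mem_stdGr_zero hp, (mem_irrel_iff p).1 hp', C_0]

/-- a homogeneous polynomial of degree nonzero lies in the irrelevant ideal -/
theorem mem_irrel_of_ne {n : ℤ} (hn : n ≠ 0) {p : MvPolynomial σ k} (hp : p ∈ stdGr k σ n) :
    p ∈ (irrel (stdGr k σ)).toIdeal := (mem_irrel_iff p).2 (constantCoeff_eq_zero hn hp)

section Rank

variable (k) [Nontrivial k]

theorem finrank_homogeneous (n d : ℕ) :
    Module.finrank k (homogeneousSubmodule (Fin n) k d) = n.multichoose d := by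
  classical
  have h : homogeneousSubmodule (Fin n) k d =
    AddMonoidAlgebra.supported k k {m : Fin n →₀ ℕ | m.degree = d} :=
    homogeneousSubmodule_eq_finsupp_supported (Fin n) k d
  have e : {m : Fin n →₀ ℕ | m.degree = d} =
      (((Finset.univ : Finset (Fin n)).finsuppAntidiag d : Finset (Fin n →₀ ℕ)) : Set (Fin n →₀ ℕ)) := by
    ext m
    simp [Finset.mem_finsuppAntidiag, Finsupp.degree_eq_sum]
  rw [h, (AddMonoidAlgebra.supportedEquivFinsupp (R := k) (S := k)
    {m : Fin n →₀ ℕ | m.degree = d}).finrank_eq]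
  rw [Module.finrank, rank_finsupp_self, Cardinal.toNat_lift]
  change Nat.card {m : Fin n →₀ ℕ | m.degree = d} = _
  rw [Nat.card_coe_set_eq, e, Set.ncard_coe_finset, Finset.card_finsuppAntidiag_nat_eq_multichoose,
    Finset.card_univ, Fintype.card_fin]

theorem finrank_stdGr (r : ℕ) (d : ℤ) :
    (Module.finrank k (stdGr k (Fin (r + 1)) d) : ℤ) =
      if 0 ≤ d then (((r + d.toNat).choose r : ℕ) : ℤ) else 0 := by
  split_ifs with h
  · obtain ⟨n, rfl⟩ := Int.eq_ofNat_of_zero_le h
    rw [stdGr_nat, finrank_homogeneous, Int.toNat_natCast, Nat.multichoose_eq]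
    norm_cast
    rw [show r + 1 + n - 1 = r + n by omega]
    exact (Nat.choose_symm_add).symm
  · rw [stdGr_neg (by omega), Nat.cast_eq_zero]
    exact Module.finrank_zero_of_subsingleton

omit [Nontrivial k] in
theorem finite_stdGr (n : ℕ) (d : ℤ) : Module.Finite k (stdGr k (Fin n) d) := by
  classical
  rcases lt_or_ge d 0 with h | h
  · rw [stdGr_neg h]
    infer_instance
  · obtain ⟨m, rfl⟩ := Int.eq_ofNat_of_zero_le h
    rw [stdGr_nat]
    have h : homogeneousSubmodule (Fin n) k m =
      AddMonoidAlgebra.supported k k {a : Fin n →₀ ℕ | a.degree = m} :=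
      homogeneousSubmodule_eq_finsupp_supported (Fin n) k m
    have e : {a : Fin n →₀ ℕ | a.degree = m} =
        (((Finset.univ : Finset (Fin n)).finsuppAntidiag m : Finset (Fin n →₀ ℕ)) : Set (Fin n →₀ ℕ)) := by
      ext a
      simp [Finset.mem_finsuppAntidiag, Finsupp.degree_eq_sum]
    have hf : Finite {a : Fin n →₀ ℕ | a.degree = m} := by
      rw [e]; infer_instance
    rw [h]
    exact Module.Finite.equiv (AddMonoidAlgebra.supportedEquivFinsupp (R := k) (S := k)
      {a : Fin n →₀ ℕ | a.degree = m}).symm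

end Rank

end K860.Basic
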