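import Groth.Agent.GrSyz.K860.KosPoly
import Mathlib.LinearAlgebra.Dimension.Finite

/-!
# Graded Betti numbers and Koszul homology

For a graded free resolution `F` of `M` over `k[x_0, …, x_{N-1}]`:
* `syz F p`, `sp F p` : the syzygy modules and their pieces, with the exact sequences `mses_zero`, `mses_succ`;
* `betti_equiv` : if `F` is minimal then the Koszul homology of `M` in bidegree `(i, j)` is `k ^ F.betti i j`;
* `van_iff_betti`, `betti_eq_finrank`, `isGenLE_iff`, `hasLengthLE_numVars`, `betti_eq_betti`.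
-/

set_option autoImplicit false
set_option linter.unusedSectionVars false
universe u v w

open GrSyz MvPolynomial

namespace K860.Betti

open Kos _root_.K860.Comp Basic KosPoly

section Res

variable {k : Type u} [CommRing k] {R : Type u} [CommRing R] [Algebra k R] {𝒜 : ℤ → Submodule k R} [GradedAlgebra 𝒜]
  {M : Type u} [AddCommGroup M] [Module k M] [Module R M] [IsScalarTower k R M]
  {ℳ : ℤ → Submodule k M} [DirectSum.Decomposition ℳ] [SetLike.GradedSMul 𝒜 ℳ] (F : FreeRes 𝒜 ℳ)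

/-- the syzygy module, inside the `p`-th term -/
abbrev syz (p : ℕ) : Submodule R (Fin (F.rk p) → R) := LinearMap.range (F.dLin p)

/-- pieces of the syzygy module -/
abbrev sp (p : ℕ) (j : ℤ) : Submodule k ↥(syz F p) :=
  (fp 𝒜 (F.deg p) j).comap ((syz F p).subtype.restrictScalars k)

theorem mem_syz_zero {v : Fin (F.rk 0) → R} : v ∈ syz F 0 ↔ F.augLin v = 0 := by
  rw [← LinearMap.mem_ker, F.exact_zero]

theorem mem_syz_succ {p : ℕ} {v : Fin (F.rk (p + 1)) → R} : v ∈ syz F (p + 1) ↔ F.dLin p v = 0 := by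
  rw [← LinearMap.mem_ker, F.exact_succ]

theorem dLin_dLin (p : ℕ) (v) : F.dLin p (F.dLin (p + 1) v) = 0 :=
  (mem_syz_succ F).1 ⟨v, rfl⟩

theorem augLin_dLin (v) : F.augLin (F.dLin 0 v) = 0 := (mem_syz_zero F).1 ⟨v, rfl⟩

theorem exists_lift_aug {j : ℤ} {m : M} (hm : m ∈ ℳ j) : ∃ v ∈ fp 𝒜 (F.deg 0) j, F.augLin v = m := by
  obtain ⟨v, rfl⟩ := F.aug_surjective m
  refine ⟨fcmp 𝒜 (F.deg 0) j v, fcmp_mem _ _ _ _, ?_⟩
  have := cmp_linearCombination (𝒜 := 𝒜) (ℳ := ℳ) F.aug_mem j v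
  rw [← this]
  exact cmp_of_mem hm

theorem exists_lift_d {p : ℕ} {j : ℤ} {v : Fin (F.rk p) → R} (hv : v ∈ syz F p) (hv' : v ∈ fp 𝒜 (F.deg p) j) :
    ∃ w ∈ fp 𝒜 (F.deg (p + 1)) j, F.dLin p w = v := by
  obtain ⟨w, rfl⟩ := hv
  refine ⟨fcmp 𝒜 (F.deg (p + 1)) j w, fcmp_mem _ _ _ _, ?_⟩
  have := fcmp_mulVec (F.d_mem p) j w
  rw [Matrix.mulVecLin_apply, ← this]
  exact fcmp_of_mem hv'

theorem dLin_mem {p : ℕ} {j : ℤ} {w : Fin (F.rk (p + 1)) → R} (hw : w ∈ fp 𝒜 (F.deg (p + 1)) j) :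
    F.dLin p w ∈ fp 𝒜 (F.deg p) j := mulVec_mem (F.d_mem p) hw

theorem augLin_mem {j : ℤ} {w : Fin (F.rk 0) → R} (hw : w ∈ fp 𝒜 (F.deg 0) j) : F.augLin w ∈ ℳ j :=
  linearCombination_mem F.aug_mem hw

theorem mses_zero : MSES (sp F 0) (fp 𝒜 (F.deg 0)) ℳ (syz F 0).subtype F.augLin where
  φ_mem _ _ hz := hz
  ψ_mem _ _ hz := augLin_mem F hz
  inj _ _ _ h := Subtype.ext h
  zero z := (mem_syz_zero F).1 z.2
  exact _ z hz h := ⟨⟨z, (mem_syz_zero F).2 h⟩, hz, rfl⟩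
  surj _ _ hz := exists_lift_aug F hz

theorem mses_succ (p : ℕ) : MSES (sp F (p + 1)) (fp 𝒜 (F.deg (p + 1))) (sp F p) (syz F (p + 1)).subtype
    (F.dLin p).rangeRestrict where
  φ_mem _ _ hz := hz
  ψ_mem _ _ hz := dLin_mem F hz
  inj _ _ _ h := Subtype.ext h
  zero z := Subtype.ext ((mem_syz_succ F).1 z.2)
  exact _ z hz h := ⟨⟨z, (mem_syz_succ F).2 (Subtype.ext_iff.1 h)⟩, hz, rfl⟩
  surj _ z hz := by
    obtain ⟨w, hw, e⟩ := exists_lift_d F z.2 hz
    exact ⟨w, hw, Subtype.ext e⟩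

theorem mem_of_isMinimal {𝔪 : Ideal R} (hF : F.IsMinimal 𝔪) {p : ℕ} {v : Fin (F.rk p) → R} (hv : v ∈ syz F p)
    (a : Fin (F.rk p)) : v a ∈ 𝔪 := by
  obtain ⟨w, rfl⟩ := hv
  rw [Matrix.mulVecLin_apply, Matrix.mulVec, dotProduct]
  exact sum_mem fun b _ => Ideal.mul_mem_right _ _ (hF p a b)

end Res

section Poly

variable {k : Type u} [CommRing k] {N : ℕ}
  {M : Type u} [AddCommGroup M] [Module k M] [Module (MvPolynomial (Fin N) k) M]
  [IsScalarTower k (MvPolynomial (Fin N) k) M]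
  {ℳ : ℤ → Submodule k M} [DirectSum.Decomposition ℳ] [SetLike.GradedSMul (stdGr k (Fin N)) ℳ]
  (F : FreeRes (stdGr k (Fin N)) ℳ)

theorem xs_smul_mem_sp (p : ℕ) (t : ℕ) (j : ℤ) (m : ↥(syz F p)) (hm : m ∈ sp F p j) :
    xs k N t • m ∈ sp F p (j + 1) :=
  xs_smul_mem_fr k N (F.deg p) t j m.1 hm

/-- naturality of the bottom coordinate -/
theorem co_φ {S : Type*} [CommRing S] [Algebra k S] {M' : Type*} [AddCommGroup M'] [Module k M'] [Module S M']
    [IsScalarTower k S M'] {M : Type*} [AddCommGroup M] [Module k M] [Module S M] [IsScalarTower k S M]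
    {M'' : Type*} [AddCommGroup M''] [Module k M''] [Module S M''] [IsScalarTower k S M'']
    {ℳ' : ℤ → Submodule k M'} {ℳ : ℤ → Submodule k M} {ℳ'' : ℤ → Submodule k M''}
    {φ : M' →ₗ[S] M} {ψ : M →ₗ[S] M''} (T : MSES ℳ' ℳ ℳ'' φ ψ) (x : ℕ → S) :
    ∀ (s : ℕ) (z : (kos x ℳ' s).C), co x ℳ s ((T.kos x s).φ z) = φ (co x ℳ' s z)
  | 0, _ => rfl
  | s + 1, (_, v) => co_φ T x s v

/-- the map on homology in degree zero vanishes when the map of modules lands in `𝔪 F` -/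
theorem exists_of_zero {M' : Type*} [AddCommGroup M'] [Module k M'] [Module (MvPolynomial (Fin N) k) M']
    [IsScalarTower k (MvPolynomial (Fin N) k) M']
    {M'' : Type*} [AddCommGroup M''] [Module k M''] [Module (MvPolynomial (Fin N) k) M'']
    [IsScalarTower k (MvPolynomial (Fin N) k) M'']
    {ℳ' : ℤ → Submodule k M'} {ℳ'' : ℤ → Submodule k M''} {ι : Type*} {e : ι → ℤ}
    {φ : M' →ₗ[MvPolynomial (Fin N) k] (ι → MvPolynomial (Fin N) k)}
    {ψ : (ι → MvPolynomial (Fin N) k) →ₗ[MvPolynomial (Fin N) k] M''} (T : MSES ℳ' (fr k N e) ℳ'' φ ψ)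
    (h : ∀ m b, constantCoeff (φ m b) = 0) (i : ℕ) (j : ℤ) (z : (kos (xs k N) ℳ' N).C)
    (hz : z ∈ (kos (xs k N) ℳ' N).P i j) (hD : (kos (xs k N) ℳ' N).D z = 0) :
    ∃ y ∈ (kos (xs k N) (fr k N e) N).P (i + 1) j,
      (kos (xs k N) (fr k N e) N).D y = (T.kos (xs k N) N).φ z := by
  rcases Nat.eq_zero_or_pos i with rfl | hi
  · rw [Nat.cast_zero] at hz ⊢
    have h1 := (T.kos (xs k N) N).φ_mem _ _ _ hz
    obtain ⟨h2, h3⟩ := (mem_P_zero_iff _ _ _ _ _).1 h1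
    refine DC.mem_B.1 ((mem_B_zero_iff _ _ (xs_smul_mem_fr k N e) N j _).2 ⟨mem_I_top_iff.2 ⟨h2, fun b => ?_⟩, h3⟩)
    rw [co_φ T (xs k N) N z]
    exact h _ b
  · exact (T.kos (xs k N) N).exists_φ_of_van (van_fr k N e i j (by exact_mod_cast hi)) z hz hD

variable {F}

theorem constantCoeff_syz (hF : F.IsMinimal (irrel (stdGr k (Fin N))).toIdeal) (p : ℕ) (m : ↥(syz F p))
    (b : Fin (F.rk p)) : constantCoeff ((syz F p).subtype m b) = 0 :=
  (mem_irrel_iff _).1 (mem_of_isMinimal F hF m.2 b)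

theorem fr_zero_equiv (p : ℕ) (j : ℤ) :
    Nonempty ((kos (xs k N) (fr k N (F.deg p)) N).H 0 j ≃ₗ[k] (Fin (F.betti p j) → k)) := by
  obtain ⟨E⟩ := H_zero_fr k N (F.deg p) j
  have e : {b : Fin (F.rk p) // F.deg p b = j} ≃ Fin (F.betti p j) := by
    refine Fintype.equivFinOfCardEq ?_
    rw [Fintype.card_subtype]
    rfl
  exact ⟨E.trans (LinearEquiv.funCongrLeft k k e.symm)⟩

theorem syz_zero (hF : F.IsMinimal (irrel (stdGr k (Fin N))).toIdeal) (j : ℤ) (p : ℕ) :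
    Nonempty ((kos (xs k N) (sp F p) N).H 0 j ≃ₗ[k] (Fin (F.betti (p + 1) j) → k)) := by
  obtain ⟨E⟩ := ((mses_succ F p).kos (xs k N) N).equiv_ψ (isCx_kos (xs_smul_mem_sp F (p + 1)) N)
    (isCx_kos (xs_smul_mem_fr k N (F.deg (p + 1))) N) (i := 0) (j := j)
    (exists_of_zero (mses_succ F p) (constantCoeff_syz hF (p + 1)) 0 j)
    (van_of_neg _ _ _ (by simp))
  obtain ⟨E'⟩ := fr_zero_equiv (F := F) (p + 1) j
  exact ⟨E.symm.trans E'⟩

theorem syz_step (hF : F.IsMinimal (irrel (stdGr k (Fin N))).toIdeal) (j : ℤ) (i p : ℕ) :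
    Nonempty ((kos (xs k N) (sp F p) N).H (i + 1) j ≃ₗ[k] (kos (xs k N) (sp F (p + 1)) N).H i j) :=
  ((mses_succ F p).kos (xs k N) N).equiv_δ (isCx_kos (xs_smul_mem_sp F (p + 1)) N)
    (isCx_kos (xs_smul_mem_fr k N (F.deg (p + 1))) N) (i := (i : ℤ)) (j := j)
    (exists_of_zero (mses_succ F p) (constantCoeff_syz hF (p + 1)) i j)
    (((mses_succ F p).kos (xs k N) N).exists_ψ_of_van
      (van_fr k N (F.deg (p + 1)) ((i : ℤ) + 1) j (by positivity)))

theorem mod_zero (hF : F.IsMinimal (irrel (stdGr k (Fin N))).toIdeal) (j : ℤ) :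
    Nonempty ((kos (xs k N) ℳ N).H 0 j ≃ₗ[k] (Fin (F.betti 0 j) → k)) := by
  obtain ⟨E⟩ := ((mses_zero F).kos (xs k N) N).equiv_ψ (isCx_kos (xs_smul_mem_sp F 0) N)
    (isCx_kos (xs_smul_mem_fr k N (F.deg 0)) N) (i := 0) (j := j)
    (exists_of_zero (mses_zero F) (constantCoeff_syz hF 0) 0 j)
    (van_of_neg _ _ _ (by simp))
  obtain ⟨E'⟩ := fr_zero_equiv (F := F) 0 j
  exact ⟨E.symm.trans E'⟩

theorem mod_step (hF : F.IsMinimal (irrel (stdGr k (Fin N))).toIdeal) (j : ℤ) (i : ℕ) :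
    Nonempty ((kos (xs k N) ℳ N).H (i + 1) j ≃ₗ[k] (kos (xs k N) (sp F 0) N).H i j) :=
  ((mses_zero F).kos (xs k N) N).equiv_δ (isCx_kos (xs_smul_mem_sp F 0) N)
    (isCx_kos (xs_smul_mem_fr k N (F.deg 0)) N) (i := (i : ℤ)) (j := j)
    (exists_of_zero (mses_zero F) (constantCoeff_syz hF 0) i j)
    (((mses_zero F).kos (xs k N) N).exists_ψ_of_van
      (van_fr k N (F.deg 0) ((i : ℤ) + 1) j (by positivity)))

theorem syz_equiv (hF : F.IsMinimal (irrel (stdGr k (Fin N))).toIdeal) (j : ℤ) : ∀ (i p q : ℕ) (_ : p + i + 1 = q),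
    Nonempty ((kos (xs k N) (sp F p) N).H i j ≃ₗ[k] (Fin (F.betti q j) → k))
  | 0, p, q, h => by
    subst h
    exact syz_zero hF j p
  | i + 1, p, q, h => by
    obtain ⟨E⟩ := syz_step hF j i p
    obtain ⟨E'⟩ := syz_equiv hF j i (p + 1) q (by omega)
    rw [Nat.cast_succ]
    exact ⟨E.trans E'⟩

/-- Koszul homology is computed by the Betti numbers of a minimal resolution -/
theorem betti_equiv (hF : F.IsMinimal (irrel (stdGr k (Fin N))).toIdeal) (i : ℕ) (j : ℤ) :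
    Nonempty ((kos (xs k N) ℳ N).H i j ≃ₗ[k] (Fin (F.betti i j) → k)) := by
  rcases i with _ | i
  · exact mod_zero hF j
  · obtain ⟨E⟩ := mod_step hF j i
    obtain ⟨E'⟩ := syz_equiv hF j i 0 (i + 1) (by omega)
    rw [Nat.cast_succ]
    exact ⟨E.trans E'⟩

theorem van_iff_betti [Nontrivial k] (hF : F.IsMinimal (irrel (stdGr k (Fin N))).toIdeal) (i : ℕ) (j : ℤ) :
    (kos (xs k N) ℳ N).Van i j ↔ F.betti i j = 0 := by
  obtain ⟨E⟩ := betti_equiv hF i j
  rw [DC.van_iff, E.toEquiv.subsingleton_congr]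
  constructor
  · intro h
    by_contra hn
    have h1 : (fun _ => (0 : k) : Fin (F.betti i j) → k) = fun _ => 1 := Subsingleton.elim _ _
    exact zero_ne_one (congrFun h1 ⟨0, Nat.pos_of_ne_zero hn⟩)
  · intro h
    rw [h]
    infer_instance

theorem betti_eq_finrank [Nontrivial k] (hF : F.IsMinimal (irrel (stdGr k (Fin N))).toIdeal) (i : ℕ) (j : ℤ) :
    F.betti i j = Module.finrank k ((kos (xs k N) ℳ N).H i j) := by
  obtain ⟨E⟩ := betti_equiv hF i j
  rw [E.finrank_eq, Module.finrank_fin_fun]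

theorem betti_ne_zero_iff (F : FreeRes (stdGr k (Fin N)) ℳ) (i : ℕ) (j : ℤ) :
    F.betti i j ≠ 0 ↔ ∃ b : Fin (F.rk i), F.deg i b = j := by
  rw [FreeRes.betti, ← Nat.pos_iff_ne_zero, Finset.card_pos, Finset.Nonempty]
  simp

/-- the degrees of the generators of a minimal resolution are detected by Koszul homology -/
theorem isGenLE_iff [Nontrivial k] (hF : F.IsMinimal (irrel (stdGr k (Fin N))).toIdeal) (r : ℤ) :
    F.IsGenLE r ↔ ∀ (i : ℕ) (j : ℤ), r + i < j → (kos (xs k N) ℳ N).Van i j := by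
  constructor
  · intro h i j hj
    rw [van_iff_betti hF]
    by_contra hb
    obtain ⟨b, hb⟩ := (betti_ne_zero_iff F i j).1 hb
    have := h i b
    omega
  · intro h i b
    by_contra hb
    have := (van_iff_betti hF i (F.deg i b)).1 (h i _ (by omega))
    exact (betti_ne_zero_iff F i _).2 ⟨b, rfl⟩ this

/-- a minimal resolution has length at most the number of variables -/
theorem hasLengthLE_numVars [Nontrivial k] (hF : F.IsMinimal (irrel (stdGr k (Fin N))).toIdeal) :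
    F.HasLengthLE N := by
  intro i hi
  by_contra h
  let b : Fin (F.rk i) := ⟨0, Nat.pos_of_ne_zero h⟩
  have := (van_iff_betti hF i (F.deg i b)).1 (van_of_gt _ _ _ (by exact_mod_cast hi))
  exact (betti_ne_zero_iff F i _).2 ⟨b, rfl⟩ this

/-- `F.rk i = 0` in terms of Koszul homology -/
theorem rk_eq_zero_iff [Nontrivial k] (hF : F.IsMinimal (irrel (stdGr k (Fin N))).toIdeal) (i : ℕ) :
    F.rk i = 0 ↔ ∀ j, (kos (xs k N) ℳ N).Van i j := by
  constructor
  · intro h j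
    rw [van_iff_betti hF]
    by_contra hb
    obtain ⟨b, -⟩ := (betti_ne_zero_iff F i j).1 hb
    rw [h] at b
    exact b.elim0
  · intro h
    by_contra h'
    let b : Fin (F.rk i) := ⟨0, Nat.pos_of_ne_zero h'⟩
    exact (betti_ne_zero_iff F i _).2 ⟨b, rfl⟩ ((van_iff_betti hF i (F.deg i b)).1 (h _))

/-- the graded Betti numbers do not depend on the minimal resolution -/
theorem betti_eq_betti [Nontrivial k] {F F' : FreeRes (stdGr k (Fin N)) ℳ}
    (hF : F.IsMinimal (irrel (stdGr k (Fin N))).toIdeal) (hF' : F'.IsMinimal (irrel (stdGr k (Fin N))).toIdeal)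
    (i : ℕ) (j : ℤ) : F.betti i j = F'.betti i j := by
  rw [betti_eq_finrank hF, betti_eq_finrank hF']

end Poly

end K860.Betti
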