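import Groth.Agent.GrSyz.K860.Ungr
import Groth.Agent.Localalg.Depth
import Mathlib.RingTheory.Ideal.AssociatedPrime.Finiteness
import Mathlib.RingTheory.Regular.RegularSequence

/-!
# Depth sensitivity of the (ungraded) Koszul complex over a Noetherian ring, for a maximal ideal
-/

set_option autoImplicit false
set_option linter.unusedSectionVars false
universe u v

open Pointwise RingTheory.Sequence

namespace K860.DepthSens

open Kos

variable {k : Type u} {S : Type u} [CommRing k] [CommRing S] [Algebra k S] {N : ℕ} {x : ℕ → S} {𝔪 : Ideal S}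

theorem homSc_tp {M : Type u} [AddCommGroup M] [Module k M] [Module S M] [IsScalarTower k S M] (s : ℕ) (g : S)
    (b : ℤ) : (kos x (tp k M) s).HomSc g b := homSc_kos x _ (fun _ _ _ => Submodule.mem_top) s

/-- elements of the ideal generated by the sequence are null-homotopic -/
theorem null'_of_mem {M : Type u} [AddCommGroup M] [Module k M] [Module S M] [IsScalarTower k S M] (a : ℤ)
    {f : S} (hf : f ∈ Ideal.span (x '' {t | t < N})) : (kos x (tp k M) N).Null' f a := by
  induction hf using Submodule.span_induction with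
  | mem f hf =>
    obtain ⟨t, ht, rfl⟩ := hf
    have h1 : (kos x (tp k M) N).Null (x t) := null_kos ht
    have h2 := h1.null'.smul (homSc_tp (x := x) (k := k) (M := M) N 1 (a - 1))
    rwa [one_mul, sub_add_cancel] at h2
  | zero => exact DC.Null'.zero _ a
  | add f g _ _ h h' => exact h.add h'
  | smul c f _ h =>
    have := h.smul (homSc_tp (x := x) (k := k) (M := M) N c 0)
    rwa [zero_add] at this

variable (hx : Ideal.span (x '' {t | t < N}) = 𝔪)

section

variable {M : Type u} [AddCommGroup M] [Module k M] [Module S M] [IsScalarTower k S M]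

/-- the sequence `0 → M → M → M / y M → 0` -/
theorem mses_quot {y : S} (hy : IsSMulRegular M y) (a : ℤ) :
    MSES (fun j => (tp k M) (j - a)) (tp k M) (tp k (QuotSMulTop y M)) (y • (LinearMap.id : M →ₗ[S] M))
      (Submodule.mkQ (y • (⊤ : Submodule S M))) where
  φ_mem _ _ _ := Submodule.mem_top
  ψ_mem _ _ _ := Submodule.mem_top
  inj _ z _ h := hy (by simpa using h)
  zero z := by
    rw [Submodule.mkQ_apply, Submodule.Quotient.mk_eq_zero]
    exact Submodule.smul_mem_pointwise_smul z y ⊤ Submodule.mem_top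
  exact _ z _ h := by
    rw [Submodule.mkQ_apply, Submodule.Quotient.mk_eq_zero] at h
    obtain ⟨w, -, e⟩ := h
    exact ⟨w, Submodule.mem_top, e⟩
  surj _ z _ := by
    obtain ⟨y, rfl⟩ := Submodule.mkQ_surjective _ z
    exact ⟨y, Submodule.mem_top, rfl⟩

include hx in
/-- if `𝔪 M = M` then the Koszul homology vanishes -/
theorem van_of_smul_eq_top [Module.Finite S M] (h : 𝔪 • (⊤ : Submodule S M) = ⊤) (i j : ℤ) :
    (kos x (tp k M) N).Van i j := by
  have h1 := Groth.Agent.Localalg.Depth.sup_annihilator_eq_top h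
  obtain ⟨a, ha, b, hb, hab⟩ := Submodule.mem_sup.mp ((Ideal.eq_top_iff_one _).mp h1)
  intro z hz hD
  rw [← hx] at ha
  obtain ⟨y, hy, e⟩ := (null'_of_mem (k := k) (M := M) 0 ha).exists_D_eq_smul hz hD
  rw [add_zero] at hy
  refine ⟨y, hy, ?_⟩
  have h2 : b • z = 0 := by
    have : ∀ (s : ℕ) (z : (kos x (tp k M) s).C), b • z = 0 := by
      intro s
      induction s with
      | zero => exact fun z => Module.mem_annihilator.mp hb (z : M)
      | succ s ih => exact fun z => Prod.ext (ih z.1) (ih z.2)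
    exact this N z
  have h3 : (a + b) • z = z := by rw [hab, one_smul]
  rw [add_smul, h2, add_zero] at h3
  rw [e, h3]

end

variable [IsNoetherianRing S]

include hx in
theorem van_of_le_idealDepth : ∀ (n : ℕ) (M : Type u) [AddCommGroup M] [Module k M] [Module S M]
    [IsScalarTower k S M] [Module.Finite S M] (_ : (n : ℕ∞) ≤ LocCoh.idealDepth 𝔪 M) (i j : ℤ)
    (_ : (N : ℤ) - n < i), (kos x (tp k M) N).Van i j
  | 0, M, _, _, _, _, _, _, i, j, hi => van_of_gt N i j (by simpa using hi)
  | n + 1, M, _, _, _, _, _, h, i, j, hi => by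
    by_cases hIM : 𝔪 • (⊤ : Submodule S M) = ⊤
    · exact van_of_smul_eq_top hx hIM i j
    obtain ⟨rs, hlen, hmem, hreg⟩ := (Groth.Agent.Localalg.Depth.natCast_le_idealDepth_iff hIM 1).1
      (le_trans (by exact_mod_cast Nat.succ_le_succ (Nat.zero_le n)) h)
    obtain ⟨y, rfl⟩ := List.length_eq_one_iff.1 hlen
    have hy : IsSMulRegular M y := ((isWeaklyRegular_cons_iff M y []).1 hreg.toIsWeaklyRegular).1
    have hym : y ∈ 𝔪 := hmem y (by simp)
    have h1 := Groth.Agent.Localalg.Depth.idealDepth_quotSMulTop_add_one 𝔪 M y hym hy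
    have h2 : (n : ℕ∞) ≤ LocCoh.idealDepth 𝔪 (QuotSMulTop y M) := by
      rw [← h1] at h
      push_cast at h
      exact (ENat.add_le_add_iff_right ENat.one_ne_top).1 h
    have h3 := van_of_le_idealDepth n (QuotSMulTop y M) h2 (i + 1) (j + 0) (by push_cast at hi; omega)
    have h4 := van_pred_of_quot (mses_quot (k := k) hy 0) (x := x) (s := N) (i := i) (j := j + 0)
      (fun _ _ _ _ => Submodule.mem_top) (null'_of_mem 0 (by rw [hx]; exact hym)) h3
    simpa using h4

include hx in
theorem not_van_idealDepth (h𝔪 : 𝔪.IsMaximal) : ∀ (n : ℕ) (M : Type u) [AddCommGroup M] [Module k M]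
    [Module S M] [IsScalarTower k S M] [Module.Finite S M] (_ : LocCoh.idealDepth 𝔪 M = (n : ℕ∞)) (j : ℤ),
    ¬ (kos x (tp k M) N).Van ((N : ℤ) - n) j
  | 0, M, _, _, _, _, _, h, j => by
    have hIM : 𝔪 • (⊤ : Submodule S M) ≠ ⊤ := by
      intro h'
      rw [Groth.Agent.Localalg.Depth.idealDepth_eq_top_of_smul_eq_top h'] at h
      exact absurd h (by simp)
    have hno : ∀ y ∈ 𝔪, ¬ IsSMulRegular M y := by
      intro y hy hreg
      have h1 := Groth.Agent.Localalg.Depth.idealDepth_quotSMulTop_add_one 𝔪 M y hy hreg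
      rw [h] at h1
      simp at h1
    have hsub : (𝔪 : Set S) ⊆ ⋃ p ∈ associatedPrimes S M, (p : Set S) := by
      intro y hy
      rw [biUnion_associatedPrimes_eq_compl_regular]
      exact hno y hy
    have hfin := associatedPrimes.finite S M
    obtain ⟨p, hp, hle⟩ : ∃ p ∈ associatedPrimes S M, 𝔪 ≤ p := by
      have := (Ideal.subset_union_prime_finite hfin (f := id) ⊤ ⊤ (fun p hp _ _ => hp.isPrime) (I := 𝔪)).1
        (by simpa using hsub)
      simpa using this
    obtain ⟨hpp, m, hm⟩ := isAssociatedPrime_iff.1 hp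
    have hpm : p = 𝔪 := (h𝔪.eq_of_le hpp.ne_top hle).symm
    have hann : ∀ r : S, r ∈ 𝔪 ↔ r • m = 0 := fun r => by
      rw [← hpm, hm, Submodule.mem_colon_singleton, Submodule.mem_bot]
    rw [Nat.cast_zero, sub_zero, van_top_iff]
    intro hV
    have hm0 : m = 0 := hV m Submodule.mem_top fun t ht => by
      rw [← hann, ← hx]
      exact Ideal.subset_span ⟨t, ht, rfl⟩
    refine h𝔪.ne_top ((Ideal.eq_top_iff_one _).2 ((hann 1).2 ?_))
    rw [hm0, smul_zero]
  | n + 1, M, _, _, _, _, _, h, j => by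
    have hIM : 𝔪 • (⊤ : Submodule S M) ≠ ⊤ := by
      intro h'
      rw [Groth.Agent.Localalg.Depth.idealDepth_eq_top_of_smul_eq_top h'] at h
      exact ENat.top_ne_natCast _ h
    obtain ⟨rs, hlen, hmem, hreg⟩ := (Groth.Agent.Localalg.Depth.natCast_le_idealDepth_iff hIM 1).1
      (by rw [h]; exact_mod_cast Nat.succ_le_succ (Nat.zero_le n))
    obtain ⟨y, rfl⟩ := List.length_eq_one_iff.1 hlen
    have hy : IsSMulRegular M y := ((isWeaklyRegular_cons_iff M y []).1 hreg.toIsWeaklyRegular).1
    have hym : y ∈ 𝔪 := hmem y (by simp)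
    have h1 := Groth.Agent.Localalg.Depth.idealDepth_quotSMulTop_add_one 𝔪 M y hym hy
    have h2 : LocCoh.idealDepth 𝔪 (QuotSMulTop y M) = (n : ℕ∞) := by
      rw [h] at h1
      push_cast at h1
      exact ENat.add_left_injective_of_ne_top ENat.one_ne_top h1
    have h3 := not_van_idealDepth h𝔪 n (QuotSMulTop y M) h2 j
    intro hV
    refine h3 (van_quot (mses_quot (k := k) hy 0) (x := x) (s := N) (fun _ _ _ _ => Submodule.mem_top) ?_ ?_)
    · exact van_of_le_idealDepth hx (n + 1) M (by rw [h]) _ _ (by push_cast; omega)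
    · rw [sub_zero, show (N : ℤ) - n - 1 = N - ((n + 1 : ℕ) : ℤ) by push_cast; ring]
      exact hV

end K860.DepthSens
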