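import Groth.Agent.GrSyz.K860.Betti
import Groth.Agent.GrSyz.K860.DepthSens
import Mathlib.RingTheory.Polynomial.Basic

/-!
# The graded Auslander–Buchsbaum formula for polynomial rings over a field
-/

set_option autoImplicit false
set_option linter.unusedSectionVars false
universe u

open GrSyz MvPolynomial

namespace K860.AB

open Kos Basic KosPoly Betti DepthSens

variable {k : Type u} [Field k] {N : ℕ}

theorem span_xs : Ideal.span (xs k N '' {t | t < N}) = (irrel (stdGr k (Fin N))).toIdeal := by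
  rw [irrel_eq_span]
  congr 1
  ext p
  constructor
  · rintro ⟨t, ht, rfl⟩
    exact ⟨⟨t, ht⟩, (xs_of_lt ht).symm⟩
  · rintro ⟨a, rfl⟩
    exact ⟨a.1, a.2, xs_of_lt a.2⟩

theorem isMaximal_irrel : (irrel (stdGr k (Fin N))).toIdeal.IsMaximal := by
  have e : (irrel (stdGr k (Fin N))).toIdeal = RingHom.ker (constantCoeff (R := k) (σ := Fin N)) := by
    ext p
    rw [mem_irrel_iff]
    rfl
  rw [e]
  exact RingHom.ker_isMaximal_of_surjective _ fun c => ⟨C c, constantCoeff_C _ c⟩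

variable {M : Type u} [AddCommGroup M] [Module k M] [Module (MvPolynomial (Fin N) k) M]
  [IsScalarTower k (MvPolynomial (Fin N) k) M] [Module.Finite (MvPolynomial (Fin N) k) M]
  {ℳ : ℤ → Submodule k M} [DirectSum.Decomposition ℳ] [SetLike.GradedSMul (stdGr k (Fin N)) ℳ]
  (F : FreeRes (stdGr k (Fin N)) ℳ)

theorem rk_eq_zero_iff' (hF : F.IsMinimal (irrel (stdGr k (Fin N))).toIdeal) (i : ℕ) (j : ℤ) :
    F.rk i = 0 ↔ (kos (xs k N) (tp k M) N).Van i j := by
  rw [rk_eq_zero_iff hF, van_tp_iff (𝒜 := stdGr k (Fin N)) ℳ (xs_mem N)]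

/-- Auslander–Buchsbaum -/
theorem add_idealDepth (hF : F.IsMinimal (irrel (stdGr k (Fin N))).toIdeal)
    (ℓ : ℕ) (hℓ : F.HasLengthLE ℓ) (hℓ' : F.rk ℓ ≠ 0) :
    (ℓ : ℕ∞) + LocCoh.idealDepth (irrel (stdGr k (Fin N))).toIdeal M = (N : ℕ∞) := by
  have h1 : ¬ (kos (xs k N) (tp k M) N).Van ℓ 0 := fun h => hℓ' ((rk_eq_zero_iff' F hF ℓ 0).2 h)
  have h2 : ∀ i : ℕ, ℓ < i → (kos (xs k N) (tp k M) N).Van i 0 := fun i hi =>
    (rk_eq_zero_iff' F hF i 0).1 (hℓ i hi)
  have h3 : LocCoh.idealDepth (irrel (stdGr k (Fin N))).toIdeal M ≠ ⊤ := by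
    intro h
    exact h1 (van_of_le_idealDepth span_xs (N + 1) M (by rw [h]; exact le_top) _ _ (by push_cast; omega))
  obtain ⟨d, hd⟩ := ENat.ne_top_iff_exists.1 h3
  have h4 : (N : ℤ) - d = ℓ := by
    apply le_antisymm
    · by_contra hlt
      push Not at hlt
      have h5 := not_van_idealDepth (k := k) (x := xs k N) span_xs isMaximal_irrel d M hd.symm 0
      obtain ⟨m, hm⟩ := Int.eq_ofNat_of_zero_le (show 0 ≤ (N : ℤ) - d by omega)
      rw [hm] at h5
      exact h5 (h2 m (by omega))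
    · by_contra hlt
      push Not at hlt
      exact h1 (van_of_le_idealDepth span_xs d M hd.le _ _ hlt)
  rw [← hd]
  have : ℓ + d = N := by omega
  exact_mod_cast this

end K860.AB
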