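import Groth.Agent.GrSyz.K860.FinLen
import Groth.Agent.GrSyz.K860.Betti

/-!
# The last graded Betti numbers of modules of finite length and of Cohen–Macaulay modules
-/

set_option autoImplicit false
set_option linter.unusedSectionVars false
universe u v w

open GrSyz MvPolynomial Pointwise

namespace K860.CM

open Kos _root_.K860.Comp Basic KosPoly FinLen QuotGr

section Fin0

variable {k : Type u} [CommRing k] {N : ℕ} {M : Type v} [AddCommGroup M] [Module k M]
  [Module (MvPolynomial (Fin N) k) M] [IsScalarTower k (MvPolynomial (Fin N) k) M]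
  (ℳ : ℤ → Submodule k M) [DirectSum.Decomposition ℳ] [SetLike.GradedSMul (stdGr k (Fin N)) ℳ]

/-- the last Koszul homology of a module bounded above -/
theorem not_van_top {e : ℤ} (he : ∀ m ∈ ℳ (e + 1), m = 0) {m : M} (hm : m ∈ ℳ e) (hm0 : m ≠ 0) :
    ¬ (kos (xs k N) ℳ N).Van N (e + N) := by
  rw [van_top_iff]
  intro h
  refine hm0 (h m (by rwa [add_sub_cancel_right]) fun t _ => he _ (xs_smul_mem ℳ t e m hm))

theorem exists_top [IsArtinian (MvPolynomial (Fin N) k) M] [Nontrivial M] :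
    ∃ e : ℤ, (∀ j, e < j → ∀ m ∈ ℳ j, m = 0) ∧ ∃ m ∈ ℳ e, m ≠ 0 := by
  obtain ⟨e, he⟩ := exists_top_piece (N := N) ℳ
  obtain ⟨m, hm⟩ := exists_ne (0 : M)
  obtain ⟨j, hj⟩ : ∃ j, Comp.cmp ℳ j m ≠ 0 := by
    by_contra h
    push Not at h
    exact hm (eq_zero_of_cmp ℳ h)
  obtain ⟨e', h1, h2⟩ := Int.exists_greatest_of_bdd (P := fun j => ∃ m ∈ ℳ j, m ≠ 0)
    ⟨e, fun j ⟨m, hm, hm0⟩ => by
      by_contra h
      exact hm0 (he j (by omega) m hm)⟩ ⟨j, _, cmp_mem ℳ j m, hj⟩
  refine ⟨e', fun j hj m hm => ?_, h1⟩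
  by_contra h
  have := h2 j ⟨m, hm, h⟩
  omega

/-- homogeneous polynomials of positive degree are null-homotopic on the Koszul complex of the variables -/
theorem null'_of_mem {a : ℤ} (ha : 0 < a) {y : MvPolynomial (Fin N) k} (hy : y ∈ stdGr k (Fin N) a) :
    (kos (xs k N) ℳ N).Null' y a := by
  classical
  rw [y.as_sum]
  have h1 : ∀ d ∈ y.support, (kos (xs k N) ℳ N).Null' (monomial d (coeff d y)) a := by
    intro d hd
    have h2 : ((d.degree : ℕ) : ℤ) = a := by
      rw [mem_stdGr] at hy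
      exact hy d (mem_support_iff.1 hd)
    obtain ⟨t, ht⟩ : ∃ t, d t ≠ 0 := by
      by_contra h
      push Not at h
      have : d = 0 := Finsupp.ext h
      rw [this] at h2
      simp at h2
      omega
    have h3 : monomial d (coeff d y) = monomial (d - Finsupp.single t 1) (coeff d y) * xs k N t := by
      rw [xs_of_lt t.2, X, monomial_mul, mul_one, tsub_add_cancel_of_le]
      rw [Finsupp.single_le_iff]
      omega
    have h4 : monomial (d - Finsupp.single t 1) (coeff d y) ∈ stdGr k (Fin N) (a - 1) := by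
      rw [mem_stdGr]
      intro e he
      rw [coeff_monomial] at he
      split_ifs at he with h0
      · subst h0
        have h5 : (d - Finsupp.single t 1) + Finsupp.single t 1 = d := by
          rw [tsub_add_cancel_of_le]
          rw [Finsupp.single_le_iff]
          omega
        have h6 := congrArg Finsupp.degree h5
        rw [map_add, Finsupp.degree_single] at h6
        omega
      · exact absurd rfl he
    rw [h3, show a = (a - 1) + 1 by ring]
    have h7 : (kos (xs k N) ℳ N).Null (xs k N t) := null_kos t.2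
    refine h7.null'.smul (homSc_kos _ _ (fun j m hm => ?_) N)
    rw [add_comm]
    exact SetLike.GradedSMul.smul_mem h4 hm
  refine Finset.sum_induction _ (fun f => (kos (xs k N) ℳ N).Null' f a) (fun _ _ => DC.Null'.add)
    (DC.Null'.zero _ _) h1

end Fin0

variable {k : Type u} [Field k] [Infinite k] {N : ℕ}

/-- for a module of dimension `≤ δ` and projective dimension `≤ N - δ` the last Betti numbers attain the regularity -/
theorem not_van_of_supportDim : ∀ (δ : ℕ) (_ : δ ≤ N) (M : Type u) [AddCommGroup M] [Module k M]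
    [Module (MvPolynomial (Fin N) k) M] [IsScalarTower k (MvPolynomial (Fin N) k) M]
    [Module.Finite (MvPolynomial (Fin N) k) M]
    (ℳ : ℤ → Submodule k M) [DirectSum.Decomposition ℳ] [SetLike.GradedSMul (stdGr k (Fin N)) ℳ]
    (_ : Module.supportDim (MvPolynomial (Fin N) k) M ≤ (δ : WithBot ℕ∞))
    (_ : ∀ i : ℤ, (N : ℤ) - δ < i → ∀ j, (kos (xs k N) ℳ N).Van i j)
    (ρ : ℤ) (_ : ∀ i j : ℤ, ρ + i < j → (kos (xs k N) ℳ N).Van i j)
    (_ : ∃ i : ℤ, ¬ (kos (xs k N) ℳ N).Van i (ρ + i)), ¬ (kos (xs k N) ℳ N).Van (N - δ) (ρ + (N - δ))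
  | 0, _, M, _, _, _, _, _, ℳ, _, _, hdim, hpd, ρ, hρ, ⟨i, hi⟩ => by
    have hart : IsArtinian (MvPolynomial (Fin N) k) M := isArtinian_of_supportDim_le_zero (by simpa using hdim)
    obtain ⟨m, hm, hm0⟩ : ∃ m ∈ ℳ ρ, m ≠ 0 := by
      by_contra h
      push Not at h
      exact hi (van_of_piece _ _ _ (by rwa [add_sub_cancel_right]))
    have : Nontrivial M := ⟨m, 0, hm0⟩
    obtain ⟨e, he, m', hm', hm0'⟩ := exists_top (N := N) ℳ
    have h1 := not_van_top (N := N) ℳ (he (e + 1) (by omega)) hm' hm0'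
    have h2 : ρ ≤ e := by
      by_contra h
      exact hm0 (he ρ (by omega) m hm)
    have h3 : e ≤ ρ := by
      by_contra h
      exact h1 (hρ N (e + N) (by omega))
    obtain rfl : ρ = e := le_antisymm h2 h3
    simpa using h1
  | δ + 1, hδ, M, _, _, _, _, _, ℳ, _, _, hdim, hpd, ρ, hρ, ⟨i, hi⟩ => by
    have hsoc : ∀ m : M, (∀ t : Fin N, (X t : MvPolynomial (Fin N) k) • m = 0) → m = 0 := by
      intro m hm
      refine eq_zero_of_cmp ℳ fun j => ?_
      have h1 := hpd N (by push_cast; omega) (j + N)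
      rw [van_top_iff] at h1
      refine h1 _ (by rw [add_sub_cancel_right]; exact cmp_mem ℳ j m) fun t ht => ?_
      have h2 : Comp.cmp ℳ (1 + j) ((xs k N t) • m) = xs k N t • Comp.cmp ℳ j m := cmp_smul ℳ (xs_mem N t) j m
      rw [← h2, xs_of_lt ht, hm, map_zero]
    obtain ⟨y, hy, hreg⟩ := exists_linear_regular hsoc
    have hP : Hom ℳ (y • (⊤ : Submodule (MvPolynomial (Fin N) k) M)) := hom_smul_top (𝒜 := stdGr k (Fin N)) hy
    let _ : DirectSum.Decomposition (qgr ℳ (y • (⊤ : Submodule (MvPolynomial (Fin N) k) M))) := qdec hP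
    have : SetLike.GradedSMul (stdGr k (Fin N)) (qgr ℳ (y • (⊤ : Submodule (MvPolynomial (Fin N) k) M))) :=
      qsmul _
    have T := mses_qgr (ℳ := ℳ) hy hreg
    have hdim' : Module.supportDim (MvPolynomial (Fin N) k) (QuotSMulTop y M) ≤ (δ : WithBot ℕ∞) := by
      have h1 := Module.supportDim_quotSMulTop_succ_le_of_notMem_minimalPrimes (M := M) (x := y)
        (fun _ ↦ hreg.notMem_of_mem_minimalPrimes)
      have h2 := h1.trans hdim
      exact ENat.WithBot.lt_add_one_iff.1 (ENat.WithBot.add_one_le_natCast_iff.1 h2)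
    have hq : ∀ i j : ℤ, (kos (xs k N) ℳ N).Van i j → (kos (xs k N) ℳ N).Van (i - 1) (j - 1) →
        (kos (xs k N) (qgr ℳ (y • (⊤ : Submodule (MvPolynomial (Fin N) k) M))) N).Van i j :=
      fun i j h1 h2 => van_quot T (xs_smul_mem ℳ) h1 h2
    have hnull : (kos (xs k N) ℳ N).Null' y 1 := null'_of_mem ℳ one_pos hy
    have h4 := not_van_of_supportDim δ (by omega) (QuotSMulTop y M)
      (qgr ℳ (y • (⊤ : Submodule (MvPolynomial (Fin N) k) M))) hdim'
      (fun i hi j => hq i j (hpd i (by push_cast; omega) j) (hpd (i - 1) (by push_cast; omega) _)) ρ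
      (fun i j hj => hq i j (hρ i j hj) (hρ (i - 1) (j - 1) (by omega)))
      ⟨i, fun h => hi (van_of_quot T (xs_smul_mem ℳ) hnull h)⟩
    intro h5
    apply h4
    refine hq _ _ (hpd _ (by push_cast; omega) _) ?_
    have e1 : (N : ℤ) - δ - 1 = N - ((δ + 1 : ℕ) : ℤ) := by push_cast; ring
    have e2 : ρ + ((N : ℤ) - δ) - 1 = ρ + (N - ((δ + 1 : ℕ) : ℤ)) := by push_cast; ring
    rw [e1, e2]
    exact h5

end K860.CM
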