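import Mathlib.RingTheory.GradedAlgebra.Basic
import Mathlib.Algebra.DirectSum.Decomposition
import Mathlib.LinearAlgebra.Matrix.ToLin
import Mathlib.LinearAlgebra.Finsupp.LinearCombination
import Mathlib.Algebra.GradedMulAction
import Mathlib.Tactic.Abel

/-!
# Homogeneous components as linear maps

`cmp ℳ j : M →ₗ[k] M` : the homogeneous component of degree `j`.
`fp 𝒜 e j` : the piece of degree `j` of the free module `ι → R` with basis vectors of degrees `e b`;
`fcmp 𝒜 e j` : its component map.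
-/

set_option autoImplicit false
set_option linter.unusedSectionVars false
universe u v w

namespace K860.Comp

variable {k : Type u} [CommRing k]

section

variable {M : Type v} [AddCommGroup M] [Module k M] (ℳ : ℤ → Submodule k M) [DirectSum.Decomposition ℳ]

/-- homogeneous component -/
def cmp (j : ℤ) : M →ₗ[k] M where
  toFun m := (DirectSum.decompose ℳ m j : M)
  map_add' x y := by rw [DirectSum.decompose_add]; rfl
  map_smul' c x := by rw [DirectSum.decompose_smul]; rfl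

theorem cmp_apply (j : ℤ) (m : M) : cmp ℳ j m = (DirectSum.decompose ℳ m j : M) := rfl

theorem cmp_mem (j : ℤ) (m : M) : cmp ℳ j m ∈ ℳ j := (DirectSum.decompose ℳ m j).2

variable {ℳ}

theorem cmp_of_mem {j : ℤ} {m : M} (hm : m ∈ ℳ j) : cmp ℳ j m = m := DirectSum.decompose_of_mem_same ℳ hm

theorem cmp_of_mem_ne {i j : ℤ} {m : M} (hm : m ∈ ℳ i) (h : i ≠ j) : cmp ℳ j m = 0 :=
  DirectSum.decompose_of_mem_ne ℳ hm h

theorem cmp_of_mem' {i : ℤ} (j : ℤ) {m : M} (hm : m ∈ ℳ i) : cmp ℳ j m = if i = j then m else 0 := by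
  split_ifs with h
  · subst h; exact cmp_of_mem hm
  · exact cmp_of_mem_ne hm h

variable (ℳ) in
/-- an element is the sum of its components over any large enough finite set -/
theorem exists_sum_cmp (m : M) : ∃ J : Finset ℤ, (∀ j, j ∉ J → cmp ℳ j m = 0) ∧
    ∀ J' : Finset ℤ, J ⊆ J' → ∑ j ∈ J', cmp ℳ j m = m := by
  classical
  refine ⟨(DirectSum.decompose ℳ m).support, fun j hj => ?_, fun J' hJ => ?_⟩
  · rw [cmp_apply, DFinsupp.notMem_support_iff.1 hj]; rfl
  · rw [← Finset.sum_subset hJ fun j _ hj => ?_]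
    · exact DirectSum.sum_support_decompose ℳ m
    · rw [cmp_apply, DFinsupp.notMem_support_iff.1 hj]; rfl

variable (ℳ) in
theorem ext_cmp {m m' : M} (h : ∀ j, cmp ℳ j m = cmp ℳ j m') : m = m' := by
  obtain ⟨J, -, hJ⟩ := exists_sum_cmp ℳ (m - m')
  have h1 := hJ J subset_rfl
  rw [Finset.sum_eq_zero] at h1
  · exact (sub_eq_zero.1 h1.symm)
  · intro j _
    rw [map_sub, h, sub_self]

variable (ℳ) in
theorem eq_zero_of_cmp {m : M} (h : ∀ j, cmp ℳ j m = 0) : m = 0 :=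
  ext_cmp ℳ fun j => by rw [h, map_zero]

theorem mem_of_cmp {j : ℤ} {m : M} (h : ∀ i, i ≠ j → cmp ℳ i m = 0) : m ∈ ℳ j := by
  have : m = cmp ℳ j m := by
    refine ext_cmp ℳ fun i => ?_
    by_cases hi : i = j
    · subst hi
      rw [cmp_of_mem (cmp_mem ℳ i m)]
    · rw [h i hi, cmp_of_mem_ne (cmp_mem ℳ j m) (Ne.symm hi)]
  rw [this]
  exact cmp_mem ℳ j m

end

section Smul

variable {R : Type v} [CommRing R] [Algebra k R] (𝒜 : ℤ → Submodule k R) [GradedAlgebra 𝒜]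
variable {M : Type w} [AddCommGroup M] [Module k M] [Module R M] [IsScalarTower k R M]
  (ℳ : ℤ → Submodule k M) [DirectSum.Decomposition ℳ] [SetLike.GradedSMul 𝒜 ℳ]

omit [GradedAlgebra 𝒜] [IsScalarTower k R M] [DirectSum.Decomposition ℳ] in
theorem smul_mem' {a j : ℤ} {f : R} {m : M} (hf : f ∈ 𝒜 a) (hm : m ∈ ℳ j) : f • m ∈ ℳ (a + j) :=
  SetLike.GradedSMul.smul_mem hf hm

variable {𝒜}

theorem cmp_smul {a : ℤ} {f : R} (hf : f ∈ 𝒜 a) (j : ℤ) (m : M) :
    cmp ℳ (a + j) (f • m) = f • cmp ℳ j m := by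
  induction m using DirectSum.Decomposition.inductionOn ℳ with
  | zero => rw [smul_zero, map_zero, map_zero, smul_zero]
  | @homogeneous i m =>
    rw [cmp_of_mem' (a + j) (smul_mem' 𝒜 ℳ hf m.2), cmp_of_mem' j m.2]
    by_cases h : i = j
    · subst h; rw [if_pos rfl, if_pos rfl]
    · rw [if_neg h, if_neg (fun h' => h (by omega)), smul_zero]
  | add m m' h h' => rw [smul_add, map_add, h, h', map_add, smul_add]

theorem cmp_smul_of_eq {a : ℤ} {f : R} (hf : f ∈ 𝒜 a) {j l : ℤ} (h : a + j = l) (m : M) :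
    cmp ℳ l (f • m) = f • cmp ℳ j m := by subst h; exact cmp_smul ℳ hf j m

variable (𝒜) {ℳ}

theorem cmp_smul' {b : ℤ} {m : M} (hm : m ∈ ℳ b) (j : ℤ) (f : R) :
    cmp ℳ (j + b) (f • m) = cmp 𝒜 j f • m := by
  induction f using DirectSum.Decomposition.inductionOn 𝒜 with
  | zero => rw [zero_smul, map_zero, map_zero, zero_smul]
  | @homogeneous i f =>
    rw [cmp_of_mem' (j + b) (smul_mem' 𝒜 ℳ f.2 hm), cmp_of_mem' j f.2]
    by_cases h : i = j
    · subst h; rw [if_pos rfl, if_pos rfl]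
    · rw [if_neg h, if_neg (fun h' => h (by omega)), zero_smul]
  | add f g h h' => rw [add_smul, map_add, h, h', map_add, add_smul]

theorem cmp_smul_of_eq' {b : ℤ} {m : M} (hm : m ∈ ℳ b) {j l : ℤ} (h : j + b = l) (f : R) :
    cmp ℳ l (f • m) = cmp 𝒜 j f • m := by subst h; exact cmp_smul' 𝒜 hm j f

end Smul

section Free

variable {R : Type v} [CommRing R] [Algebra k R] (𝒜 : ℤ → Submodule k R)

/-- the pieces of the free module with basis vectors of degrees `e b` -/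
def fp {ι : Type*} (e : ι → ℤ) (j : ℤ) : Submodule k (ι → R) where
  carrier := {v | ∀ b, v b ∈ 𝒜 (j - e b)}
  zero_mem' _ := zero_mem _
  add_mem' ha hb b := add_mem (ha b) (hb b)
  smul_mem' c _ ha b := Submodule.smul_mem _ c (ha b)

theorem mem_fp {ι : Type*} {e : ι → ℤ} {j : ℤ} {v : ι → R} : v ∈ fp 𝒜 e j ↔ ∀ b, v b ∈ 𝒜 (j - e b) := Iff.rfl

variable [GradedAlgebra 𝒜]

theorem smul_mem_fp {ι : Type*} {e : ι → ℤ} {a j : ℤ} {f : R} (hf : f ∈ 𝒜 a) {v : ι → R} (hv : v ∈ fp 𝒜 e j) :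
    f • v ∈ fp 𝒜 e (a + j) := fun b => by
  have := SetLike.mul_mem_graded hf (hv b)
  rwa [show a + (j - e b) = a + j - e b by ring] at this

/-- the component map of the free module -/
def fcmp {ι : Type*} (e : ι → ℤ) (j : ℤ) : (ι → R) →ₗ[k] (ι → R) :=
  LinearMap.pi fun b => cmp 𝒜 (j - e b) ∘ₗ LinearMap.proj b

theorem fcmp_apply {ι : Type*} (e : ι → ℤ) (j : ℤ) (v : ι → R) (b : ι) :
    fcmp 𝒜 e j v b = cmp 𝒜 (j - e b) (v b) := rfl

theorem fcmp_mem {ι : Type*} (e : ι → ℤ) (j : ℤ) (v : ι → R) : fcmp 𝒜 e j v ∈ fp 𝒜 e j := fun _ => cmp_mem _ _ _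

variable {𝒜} in
theorem fcmp_of_mem {ι : Type*} {e : ι → ℤ} {j : ℤ} {v : ι → R} (hv : v ∈ fp 𝒜 e j) : fcmp 𝒜 e j v = v :=
  funext fun b => cmp_of_mem (hv b)

variable {𝒜}

/-- a homogeneous matrix commutes with the component maps -/
theorem fcmp_mulVec {ι ι' : Type*} [Fintype ι'] {e : ι → ℤ} {e' : ι' → ℤ} {A : Matrix ι ι' R}
    (hA : ∀ a b, A a b ∈ 𝒜 (e' b - e a)) (j : ℤ) (v : ι' → R) :
    fcmp 𝒜 e j (A.mulVec v) = A.mulVec (fcmp 𝒜 e' j v) := by
  funext a
  rw [fcmp_apply, Matrix.mulVec, Matrix.mulVec, dotProduct, dotProduct, map_sum]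
  refine Finset.sum_congr rfl fun b _ => ?_
  rw [fcmp_apply]
  exact cmp_smul_of_eq 𝒜 (hA a b) (by ring) (v b)

theorem mulVec_mem {ι ι' : Type*} [Fintype ι'] {e : ι → ℤ} {e' : ι' → ℤ} {A : Matrix ι ι' R}
    (hA : ∀ a b, A a b ∈ 𝒜 (e' b - e a)) {j : ℤ} {v : ι' → R} (hv : v ∈ fp 𝒜 e' j) : A.mulVec v ∈ fp 𝒜 e j := by
  intro a
  rw [Matrix.mulVec, dotProduct]
  refine sum_mem fun b _ => ?_
  have := SetLike.mul_mem_graded (hA a b) (hv b)
  rwa [show e' b - e a + (j - e' b) = j - e a by ring] at this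

variable {M : Type w} [AddCommGroup M] [Module k M] [Module R M] [IsScalarTower k R M]
  {ℳ : ℤ → Submodule k M} [DirectSum.Decomposition ℳ] [SetLike.GradedSMul 𝒜 ℳ]

theorem cmp_linearCombination {ι : Type*} [Fintype ι] {e : ι → ℤ} {g : ι → M} (hg : ∀ b, g b ∈ ℳ (e b))
    (j : ℤ) (v : ι → R) :
    cmp ℳ j (Fintype.linearCombination R g v) = Fintype.linearCombination R g (fcmp 𝒜 e j v) := by
  rw [Fintype.linearCombination_apply, Fintype.linearCombination_apply, map_sum]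
  refine Finset.sum_congr rfl fun b _ => ?_
  rw [fcmp_apply]
  exact cmp_smul_of_eq' 𝒜 (hg b) (by ring) (v b)

omit [DirectSum.Decomposition ℳ] [IsScalarTower k R M] [GradedAlgebra 𝒜] in
theorem linearCombination_mem {ι : Type*} [Fintype ι] {e : ι → ℤ} {g : ι → M} (hg : ∀ b, g b ∈ ℳ (e b))
    {j : ℤ} {v : ι → R} (hv : v ∈ fp 𝒜 e j) : Fintype.linearCombination R g v ∈ ℳ j := by
  rw [Fintype.linearCombination_apply]
  refine sum_mem fun b _ => ?_
  have := smul_mem' 𝒜 ℳ (hv b) (hg b)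
  rwa [sub_add_cancel] at this

end Free

end K860.Comp
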