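import Groth.Agent.GrSyz.K860.FinLen
import Mathlib.RingTheory.Length

/-!
# Length over the polynomial ring and dimension over the field

`length_of_nilp` : if every element is killed by a power of the irrelevant ideal and the length is finite then
the length is the dimension over the field. `nilp_of_bdd` : a graded module bounded above has this property.
`sum_finrank_le` : the sum of the dimensions of finitely many pieces is at most the length.
-/

set_option autoImplicit false
set_option linter.unusedSectionVars false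
universe u v w

open GrSyz MvPolynomial

namespace K860.Len

open Basic _root_.K860.Comp FinLen

variable {k : Type u} [Field k] {N : ℕ}

/-- every element is killed by a power of the irrelevant ideal -/
def Nilp (k : Type u) [Field k] (N : ℕ) (P : Type v) [AddCommGroup P] [Module (MvPolynomial (Fin N) k) P] : Prop :=
  ∀ x : P, ∃ s : ℕ, ∀ f ∈ (irrel (stdGr k (Fin N))).toIdeal ^ s, f • x = 0

theorem simple_of_socle {P : Type v} [AddCommGroup P] [Module k P] [Module (MvPolynomial (Fin N) k) P]
    [IsScalarTower k (MvPolynomial (Fin N) k) P] (Q : Submodule (MvPolynomial (Fin N) k) P) {x : P} (hx0 : x ≠ 0)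
    (hx : x ∈ Q) (hQ : ∀ z ∈ Q, ∃ c : k, z = c • x) {A : Type w} [Ring A] [Module A Q] [Module k A]
    [IsScalarTower k A Q] : IsSimpleModule A Q := by
  rw [isSimpleModule_iff_toSpanSingleton_surjective]
  refine ⟨⟨⟨x, hx⟩, 0, fun h => hx0 (congrArg Subtype.val h)⟩, fun y hy z => ?_⟩
  obtain ⟨c, hc⟩ := hQ y.1 y.2
  obtain ⟨d, hd⟩ := hQ z.1 z.2
  have hc0 : c ≠ 0 := by
    rintro rfl
    exact hy (Subtype.ext (by rw [hc, zero_smul]; rfl))
  refine ⟨(d * c⁻¹) • (1 : A), ?_⟩
  rw [LinearMap.toSpanSingleton_apply, smul_assoc, one_smul]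
  apply Subtype.ext
  rw [Submodule.coe_smul_of_tower, hc, hd, smul_smul, mul_assoc, inv_mul_cancel₀ hc0, mul_one]

theorem exists_socle {P : Type v} [AddCommGroup P] [Module (MvPolynomial (Fin N) k) P] (hP : Nilp k N P)
    [Nontrivial P] : ∃ x : P, x ≠ 0 ∧ ∀ f ∈ (irrel (stdGr k (Fin N))).toIdeal, f • x = 0 := by
  classical
  obtain ⟨y, hy⟩ := exists_ne (0 : P)
  have h := hP y
  let s := Nat.find h
  have hs : ∀ f ∈ (irrel (stdGr k (Fin N))).toIdeal ^ s, f • y = 0 := Nat.find_spec h
  have hs0 : s ≠ 0 := by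
    intro h0
    rw [h0, pow_zero, Ideal.one_eq_top] at hs
    exact hy (by simpa using hs 1 trivial)
  obtain ⟨t, ht⟩ := Nat.exists_eq_succ_of_ne_zero hs0
  have h1 := Nat.find_min h (show t < Nat.find h by change t < s; omega)
  push Not at h1
  obtain ⟨f, hf, hfy⟩ := h1
  refine ⟨f • y, hfy, fun g hg => ?_⟩
  rw [← mul_smul]
  refine hs _ ?_
  rw [ht, pow_succ']
  exact Ideal.mul_mem_mul hg hf

theorem length_aux : ∀ (n : ℕ) (P : Type u) [AddCommGroup P] [Module k P] [Module (MvPolynomial (Fin N) k) P]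
    [IsScalarTower k (MvPolynomial (Fin N) k) P] (_ : Nilp k N P)
    (_ : Module.length (MvPolynomial (Fin N) k) P = (n : ℕ∞)), Module.length k P = (n : ℕ∞)
  | 0, P, _, _, _, _, hP, h => by
    have : Subsingleton P := Module.length_eq_zero_iff.1 (by simpa using h)
    simp
  | n + 1, P, _, _, _, _, hP, h => by
    have : Nontrivial P := by
      rw [← Module.length_pos_iff (R := MvPolynomial (Fin N) k), h]
      exact_mod_cast Nat.succ_pos n
    obtain ⟨x, hx0, hx⟩ := exists_socle hP
    let Q : Submodule (MvPolynomial (Fin N) k) P := Submodule.span _ {x}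
    have hQ : ∀ z ∈ Q, ∃ c : k, z = c • x := by
      intro z hz
      obtain ⟨f, rfl⟩ := Submodule.mem_span_singleton.1 hz
      refine ⟨constantCoeff f, ?_⟩
      have h1 : (f - C (constantCoeff f)) • x = 0 := hx _ (by rw [mem_irrel_iff]; simp)
      rw [sub_smul, sub_eq_zero] at h1
      rw [h1, ← MvPolynomial.algebraMap_eq, algebraMap_smul]
    have hxQ : x ∈ Q := Submodule.mem_span_singleton_self x
    have h1 : IsSimpleModule (MvPolynomial (Fin N) k) Q := simple_of_socle Q hx0 hxQ hQ
    have h2 : IsSimpleModule k Q := simple_of_socle Q hx0 hxQ hQ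
    have h3 := Module.length_eq_add_of_exact Q.subtype Q.mkQ Q.subtype_injective Q.mkQ_surjective
      (LinearMap.exact_subtype_mkQ Q)
    have h4 := Module.length_eq_add_of_exact (Q.subtype.restrictScalars k) (Q.mkQ.restrictScalars k)
      Q.subtype_injective Q.mkQ_surjective (LinearMap.exact_subtype_mkQ Q)
    rw [Module.length_eq_one (MvPolynomial (Fin N) k) Q, h] at h3
    rw [Module.length_eq_one k Q] at h4
    have h5 : Module.length (MvPolynomial (Fin N) k) (P ⧸ Q) = (n : ℕ∞) := by
      have : (1 : ℕ∞) + Module.length (MvPolynomial (Fin N) k) (P ⧸ Q) = 1 + n := by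
        rw [← h3]; push_cast; ring
      exact ENat.add_right_injective_of_ne_top ENat.one_ne_top this
    have h6 : Nilp k N (P ⧸ Q) := by
      intro y
      obtain ⟨y, rfl⟩ := Q.mkQ_surjective y
      obtain ⟨s, hs⟩ := hP y
      exact ⟨s, fun f hf => by rw [← map_smul, hs f hf, map_zero]⟩
    rw [h4, length_aux n (P ⧸ Q) h6 h5]
    push_cast; ring

theorem length_of_nilp {P : Type u} [AddCommGroup P] [Module k P] [Module (MvPolynomial (Fin N) k) P]
    [IsScalarTower k (MvPolynomial (Fin N) k) P] (hP : Nilp k N P) {ℓ : ℕ}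
    (h : Module.length (MvPolynomial (Fin N) k) P = (ℓ : ℕ∞)) : Module.Finite k P ∧ Module.finrank k P = ℓ := by
  have h1 := length_aux ℓ P hP h
  have h2 : IsFiniteLength k P := Module.length_ne_top_iff.1 (by rw [h1]; exact ENat.natCast_ne_top ℓ)
  have h3 : IsNoetherian k P := (isFiniteLength_iff_isNoetherian_isArtinian.1 h2).1
  have h4 : Module.Finite k P := inferInstance
  refine ⟨h4, ?_⟩
  rw [Module.length_eq_finrank] at h1
  exact_mod_cast h1

section Gr

variable {P : Type u} [AddCommGroup P] [Module k P] [Module (MvPolynomial (Fin N) k) P]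
  [IsScalarTower k (MvPolynomial (Fin N) k) P] (𝒬 : ℤ → Submodule k P) [DirectSum.Decomposition 𝒬]
  [SetLike.GradedSMul (stdGr k (Fin N)) 𝒬]

theorem smul_mem_trunc {d : ℤ} {x : P} (hx : x ∈ trunc (N := N) 𝒬 d) {f : MvPolynomial (Fin N) k}
    (hf : f ∈ (irrel (stdGr k (Fin N))).toIdeal) : f • x ∈ trunc (N := N) 𝒬 (d + 1) := by
  rw [irrel_eq_span] at hf
  induction hf using Submodule.span_induction with
  | mem f hf =>
    obtain ⟨t, rfl⟩ := hf
    intro j hj
    have h1 : Comp.cmp 𝒬 j ((X t : MvPolynomial (Fin N) k) • x) = (X t : MvPolynomial (Fin N) k) • Comp.cmp 𝒬 (j - 1) x :=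
      cmp_smul_of_eq 𝒬 (X_mem t) (by abel) x
    rw [h1, hx (j - 1) (by omega), smul_zero]
  | zero => rw [zero_smul]; exact zero_mem _
  | add f g _ _ h1 h2 => rw [add_smul]; exact add_mem h1 h2
  | smul c f _ h1 => rw [smul_eq_mul, mul_smul]; exact Submodule.smul_mem _ _ h1

theorem pow_smul_mem_trunc (s : ℕ) : ∀ {d : ℤ} {x : P} (_ : x ∈ trunc (N := N) 𝒬 d) {f : MvPolynomial (Fin N) k}
    (_ : f ∈ (irrel (stdGr k (Fin N))).toIdeal ^ s), f • x ∈ trunc (N := N) 𝒬 (d + s) := by
  induction s with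
  | zero => intro d x hx f _; simpa using Submodule.smul_mem _ f hx
  | succ s ih =>
    intro d x hx f hf
    rw [pow_succ] at hf
    induction hf using Submodule.mul_induction_on' with
    | mem_mul_mem g hg h hh =>
      rw [mul_smul]
      have := ih (smul_mem_trunc 𝒬 hx hh) hg
      rwa [show d + 1 + (s : ℤ) = d + ((s + 1 : ℕ) : ℤ) by push_cast; ring] at this
    | add f _ g _ h1 h2 => rw [add_smul]; exact add_mem h1 h2

theorem nilp_of_bdd {e : ℤ} (he : ∀ j, e ≤ j → ∀ m ∈ 𝒬 j, m = 0) : Nilp k N P := by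
  intro x
  obtain ⟨J, hJ, -⟩ := exists_sum_cmp 𝒬 x
  obtain ⟨d, hd⟩ : ∃ d, x ∈ trunc (N := N) 𝒬 d := by
    obtain ⟨d, hd⟩ := J.bddBelow
    refine ⟨d, fun j hj => hJ j fun hj' => ?_⟩
    have := hd hj'
    omega
  refine ⟨(e - d).toNat, fun f hf => eq_zero_of_cmp 𝒬 fun j => ?_⟩
  have h1 := pow_smul_mem_trunc 𝒬 _ hd hf
  by_cases hj : j < e
  · exact h1 j (by omega)
  · exact he j (by omega) _ (cmp_mem 𝒬 j _)

/-- the dimensions of finitely many pieces sum up to at most the dimension -/
theorem sum_finrank_le [Module.Finite k P] (J : Finset ℤ) :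
    ∑ j ∈ J, Module.finrank k ↥(𝒬 j) ≤ Module.finrank k P := by
  classical
  let f : ((j : J) → ↥(𝒬 j)) →ₗ[k] P := LinearMap.lsum k (fun j : J => ↥(𝒬 j)) k fun j => (𝒬 j).subtype
  have hf : ∀ v, f v = ∑ j : J, (v j : P) := fun v => by
    simp [f, LinearMap.lsum_apply, LinearMap.sum_apply]
  have hinj : Function.Injective f := by
    rw [injective_iff_map_eq_zero]
    intro v hv
    rw [hf] at hv
    funext j
    apply Subtype.ext
    have h1 := congrArg (Comp.cmp 𝒬 j.1) hv
    rw [map_zero, map_sum, Finset.sum_eq_single j] at h1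
    · rwa [cmp_of_mem (v j).2] at h1
    · intro i _ hi
      exact cmp_of_mem_ne (v i).2 (fun h => hi (Subtype.ext h))
    · intro h; exact absurd (Finset.mem_univ j) h
  have h2 := LinearMap.finrank_le_finrank_of_injective hinj
  rw [Module.finrank_pi_fintype] at h2
  rwa [← Finset.sum_coe_sort J (fun j => Module.finrank k ↥(𝒬 j))]

end Gr

end K860.Len
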