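import Groth.Agent.GrSyz.K860.Betti
import Groth.Agent.GrSyz.K859.MinGen

/-!
# Regularity of finitely generated graded modules and vanishing of Koszul homology

* `cmp_map` : degree-preserving maps commute with components;
* `mses_of_exact` : a short exact sequence of graded modules is an `MSES`;
* `isRegLE_iff` : `reg M ≤ r` iff the Koszul homology of `M` vanishes in bidegrees `(i, j)` with `r + i < j`;
* `isRegLE_left`, `isRegLE_mid`, `isRegLE_right` : regularity in short exact sequences.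
-/

set_option autoImplicit false
set_option linter.unusedSectionVars false
universe u v w

open GrSyz MvPolynomial

namespace K860.Reg

open Kos _root_.K860.Comp Basic KosPoly Betti

section Map

variable {k : Type u} [CommRing k] {S : Type w} [CommRing S] [Algebra k S]
  {M₁ M₂ M₃ : Type v} [AddCommGroup M₁] [Module k M₁] [Module S M₁] [IsScalarTower k S M₁]
  [AddCommGroup M₂] [Module k M₂] [Module S M₂] [IsScalarTower k S M₂]
  [AddCommGroup M₃] [Module k M₃] [Module S M₃] [IsScalarTower k S M₃]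
  {ℳ₁ : ℤ → Submodule k M₁} {ℳ₂ : ℤ → Submodule k M₂} {ℳ₃ : ℤ → Submodule k M₃}
  [DirectSum.Decomposition ℳ₁] [DirectSum.Decomposition ℳ₂] [DirectSum.Decomposition ℳ₃]

theorem cmp_map {f : M₁ →ₗ[S] M₂} (hf : ∀ j m, m ∈ ℳ₁ j → f m ∈ ℳ₂ j) (j : ℤ) (m : M₁) :
    cmp ℳ₂ j (f m) = f (cmp ℳ₁ j m) := by
  classical
  obtain ⟨J, -, hJ⟩ := exists_sum_cmp ℳ₁ m
  have h1 := hJ (insert j J) (Finset.subset_insert _ _)
  conv_lhs => rw [← h1]
  rw [map_sum, map_sum, Finset.sum_eq_single j]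
  · exact cmp_of_mem (hf _ _ (cmp_mem ℳ₁ j m))
  · intro i _ hi
    exact cmp_of_mem_ne (hf _ _ (cmp_mem ℳ₁ i m)) hi
  · intro h
    exact absurd (Finset.mem_insert_self _ _) h

theorem mses_of_exact {f : M₁ →ₗ[S] M₂} {g : M₂ →ₗ[S] M₃} (hf : Function.Injective f) (hg : Function.Surjective g)
    (hfg : LinearMap.range f = LinearMap.ker g) (hfgr : ∀ j m, m ∈ ℳ₁ j → f m ∈ ℳ₂ j)
    (hggr : ∀ j m, m ∈ ℳ₂ j → g m ∈ ℳ₃ j) : MSES ℳ₁ ℳ₂ ℳ₃ f g where
  φ_mem := hfgr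
  ψ_mem := hggr
  inj j z _ hz := hf (hz.trans (map_zero f).symm)
  zero z := by
    have : f z ∈ LinearMap.ker g := hfg ▸ ⟨z, rfl⟩
    exact this
  exact j z hz hz' := by
    obtain ⟨w, rfl⟩ : z ∈ LinearMap.range f := hfg ▸ hz'
    exact ⟨cmp ℳ₁ j w, cmp_mem ℳ₁ j w, by rw [← cmp_map hfgr, cmp_of_mem hz]⟩
  surj j z hz := by
    obtain ⟨w, rfl⟩ := hg z
    exact ⟨cmp ℳ₂ j w, cmp_mem ℳ₂ j w, by rw [← cmp_map hggr, cmp_of_mem hz]⟩

end Map

section Poly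

variable {k : Type u} [Field k] {N : ℕ}

theorem exists_freeRes {M : Type u} [AddCommGroup M] [Module k M] [Module (MvPolynomial (Fin N) k) M]
    [IsScalarTower k (MvPolynomial (Fin N) k) M] [Module.Finite (MvPolynomial (Fin N) k) M]
    (ℳ : ℤ → Submodule k M) [DirectSum.Decomposition ℳ] [SetLike.GradedSMul (stdGr k (Fin N)) ℳ] :
    ∃ F : FreeRes (stdGr k (Fin N)) ℳ, F.IsMinimal (irrel (stdGr k (Fin N))).toIdeal :=
  K859.MinGen.exists_freeRes_isMinimal ℳ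

theorem isRegLE_iff {M : Type u} [AddCommGroup M] [Module k M] [Module (MvPolynomial (Fin N) k) M]
    [IsScalarTower k (MvPolynomial (Fin N) k) M] [Module.Finite (MvPolynomial (Fin N) k) M]
    (ℳ : ℤ → Submodule k M) [DirectSum.Decomposition ℳ] [SetLike.GradedSMul (stdGr k (Fin N)) ℳ] (r : ℤ) :
    IsRegLE (stdGr k (Fin N)) ℳ (irrel (stdGr k (Fin N))).toIdeal r ↔
      ∀ (i : ℕ) (j : ℤ), r + i < j → (kos (xs k N) ℳ N).Van i j := by
  constructor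
  · rintro ⟨F, hF, hr⟩
    exact (isGenLE_iff hF r).1 hr
  · intro h
    obtain ⟨F, hF⟩ := exists_freeRes (N := N) ℳ
    exact ⟨F, hF, (isGenLE_iff hF r).2 h⟩

variable {M₁ M₂ M₃ : Type u}
  [AddCommGroup M₁] [Module k M₁] [Module (MvPolynomial (Fin N) k) M₁] [IsScalarTower k (MvPolynomial (Fin N) k) M₁]
  [Module.Finite (MvPolynomial (Fin N) k) M₁]
  [AddCommGroup M₂] [Module k M₂] [Module (MvPolynomial (Fin N) k) M₂] [IsScalarTower k (MvPolynomial (Fin N) k) M₂]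
  [Module.Finite (MvPolynomial (Fin N) k) M₂]
  [AddCommGroup M₃] [Module k M₃] [Module (MvPolynomial (Fin N) k) M₃] [IsScalarTower k (MvPolynomial (Fin N) k) M₃]
  [Module.Finite (MvPolynomial (Fin N) k) M₃]
  {ℳ₁ : ℤ → Submodule k M₁} {ℳ₂ : ℤ → Submodule k M₂} {ℳ₃ : ℤ → Submodule k M₃}
  [DirectSum.Decomposition ℳ₁] [DirectSum.Decomposition ℳ₂] [DirectSum.Decomposition ℳ₃]
  [SetLike.GradedSMul (stdGr k (Fin N)) ℳ₁] [SetLike.GradedSMul (stdGr k (Fin N)) ℳ₂]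
  [SetLike.GradedSMul (stdGr k (Fin N)) ℳ₃]
  {f : M₁ →ₗ[MvPolynomial (Fin N) k] M₂} {g : M₂ →ₗ[MvPolynomial (Fin N) k] M₃}

theorem isRegLE_left (T : MSES ℳ₁ ℳ₂ ℳ₃ f g) {r : ℤ}
    (h₂ : IsRegLE (stdGr k (Fin N)) ℳ₂ (irrel (stdGr k (Fin N))).toIdeal r)
    (h₃ : IsRegLE (stdGr k (Fin N)) ℳ₃ (irrel (stdGr k (Fin N))).toIdeal (r - 1)) :
    IsRegLE (stdGr k (Fin N)) ℳ₁ (irrel (stdGr k (Fin N))).toIdeal r := by
  rw [isRegLE_iff] at *
  intro i j hj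
  refine (T.kos (xs k N) N).van_left (isCx_kos (xs_smul_mem _) _) (isCx_kos (xs_smul_mem _) _)
    (h₂ i j hj) ?_
  have := h₃ (i + 1) j (by push_cast; omega)
  exact_mod_cast this

theorem isRegLE_mid (T : MSES ℳ₁ ℳ₂ ℳ₃ f g) {r : ℤ}
    (h₁ : IsRegLE (stdGr k (Fin N)) ℳ₁ (irrel (stdGr k (Fin N))).toIdeal r)
    (h₃ : IsRegLE (stdGr k (Fin N)) ℳ₃ (irrel (stdGr k (Fin N))).toIdeal r) :
    IsRegLE (stdGr k (Fin N)) ℳ₂ (irrel (stdGr k (Fin N))).toIdeal r := by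
  rw [isRegLE_iff] at *
  intro i j hj
  exact (T.kos (xs k N) N).van_mid (isCx_kos (xs_smul_mem _) _) (isCx_kos (xs_smul_mem _) _)
    (h₁ i j hj) (h₃ i j hj)

theorem isRegLE_right (T : MSES ℳ₁ ℳ₂ ℳ₃ f g) {r : ℤ}
    (h₁ : IsRegLE (stdGr k (Fin N)) ℳ₁ (irrel (stdGr k (Fin N))).toIdeal (r + 1))
    (h₂ : IsRegLE (stdGr k (Fin N)) ℳ₂ (irrel (stdGr k (Fin N))).toIdeal r) :
    IsRegLE (stdGr k (Fin N)) ℳ₃ (irrel (stdGr k (Fin N))).toIdeal r := by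
  rw [isRegLE_iff] at *
  intro i j hj
  refine (T.kos (xs k N) N).van_right (isCx_kos (xs_smul_mem _) _) (isCx_kos (xs_smul_mem _) _)
    (h₂ i j hj) ?_
  rcases i with _ | i
  · exact van_of_neg _ _ _ (by simp)
  · have := h₁ i j (by push_cast at hj; omega)
    simpa using this

end Poly

end K860.Reg
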