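import Groth.Agent.GrSyz.K860.CM
import Groth.Agent.GrSyz.K860.Reg
import Groth.Agent.GrSyz.K860.Len
import Mathlib.LinearAlgebra.FiniteDimensional.Lemmas
import Mathlib.Data.Int.Interval

/-!
# Koszul homology modulo a weakly regular sequence of linear forms; regularity and length
-/

set_option autoImplicit false
set_option linter.unusedSectionVars false
universe u v w

open GrSyz MvPolynomial Pointwise RingTheory.Sequence

namespace K860.Cut

open Kos _root_.K860.Comp Basic KosPoly FinLen QuotGr Reg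

variable {k : Type u} [Field k] {N : ℕ}

/-- graded isomorphisms preserve vanishing -/
theorem van_of_bij {M P : Type u} [AddCommGroup M] [Module k M] [Module (MvPolynomial (Fin N) k) M]
    [IsScalarTower k (MvPolynomial (Fin N) k) M] (ℳ : ℤ → Submodule k M) [DirectSum.Decomposition ℳ]
    [SetLike.GradedSMul (stdGr k (Fin N)) ℳ]
    [AddCommGroup P] [Module k P] [Module (MvPolynomial (Fin N) k) P]
    [IsScalarTower k (MvPolynomial (Fin N) k) P] (𝒬 : ℤ → Submodule k P) [DirectSum.Decomposition 𝒬]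
    (σ : M →ₗ[MvPolynomial (Fin N) k] P) (hσ : Function.Surjective σ) (hσg : ∀ j m, m ∈ ℳ j → σ m ∈ 𝒬 j)
    (hker : LinearMap.ker σ = ⊥) (i j : ℤ) (h : (kos (xs k N) 𝒬 N).Van i j) : (kos (xs k N) ℳ N).Van i j := by
  let 𝒦 : ℤ → Submodule k ↥(⊥ : Submodule (MvPolynomial (Fin N) k) M) := fun _ => ⊥
  have T : MSES 𝒦 ℳ 𝒬 (⊥ : Submodule (MvPolynomial (Fin N) k) M).subtype σ :=
    { φ_mem := fun j z _ => by
        rw [Submodule.subtype_apply, (Submodule.mem_bot _).1 z.2]; exact zero_mem _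
      ψ_mem := hσg
      inj := fun j z _ _ => Subtype.ext (((Submodule.mem_bot _).1 z.2))
      zero := fun z => by
        rw [Submodule.subtype_apply, (Submodule.mem_bot _).1 z.2, map_zero]
      exact := fun j z _ h => by
        have : z ∈ LinearMap.ker σ := h
        rw [hker] at this
        exact ⟨0, zero_mem _, ((Submodule.mem_bot _).1 this).symm⟩
      surj := fun j z hz => by
        obtain ⟨y, rfl⟩ := hσ z
        exact ⟨Comp.cmp ℳ j y, cmp_mem ℳ j y, by rw [← cmp_map hσg, cmp_of_mem hz]⟩ }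
  refine (T.kos (xs k N) N).van_mid (isCx_kos (fun t j m hm => ?_) _) (isCx_kos (xs_smul_mem _) _) ?_ h
  · rw [(Submodule.mem_bot _).1 hm, smul_zero]; exact zero_mem _
  · exact van_of_piece _ _ _ (fun m hm => (Submodule.mem_bot _).1 hm)

/-- `κ(M) ⊆ κ(M / (ys) M)` for a weakly regular sequence `ys` of linear forms -/
theorem van_of_list : ∀ (ys : List (MvPolynomial (Fin N) k)) (M : Type u) [AddCommGroup M] [Module k M]
    [Module (MvPolynomial (Fin N) k) M] [IsScalarTower k (MvPolynomial (Fin N) k) M] (ℳ : ℤ → Submodule k M)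
    [DirectSum.Decomposition ℳ] [SetLike.GradedSMul (stdGr k (Fin N)) ℳ]
    (_ : ∀ y ∈ ys, y ∈ stdGr k (Fin N) 1) (_ : IsWeaklyRegular M ys)
    (P : Type u) [AddCommGroup P] [Module k P] [Module (MvPolynomial (Fin N) k) P]
    [IsScalarTower k (MvPolynomial (Fin N) k) P] (𝒬 : ℤ → Submodule k P) [DirectSum.Decomposition 𝒬]
    (σ : M →ₗ[MvPolynomial (Fin N) k] P) (_ : Function.Surjective σ) (_ : ∀ j m, m ∈ ℳ j → σ m ∈ 𝒬 j)
    (_ : LinearMap.ker σ = Ideal.ofList ys • (⊤ : Submodule (MvPolynomial (Fin N) k) M)) (i j : ℤ)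
    (_ : (kos (xs k N) 𝒬 N).Van i j), (kos (xs k N) ℳ N).Van i j
  | [], M, _, _, _, _, ℳ, _, _, _, _, P, _, _, _, _, 𝒬, _, σ, hσ, hσg, hker, i, j, h =>
    van_of_bij ℳ 𝒬 σ hσ hσg (by rw [hker, Ideal.ofList_nil, Submodule.bot_smul]) i j h
  | y :: ys, M, _, _, _, _, ℳ, _, _, hys, hreg, P, _, _, _, _, 𝒬, _, σ, hσ, hσg, hker, i, j, h => by
    have hy : y ∈ stdGr k (Fin N) 1 := hys y (by simp)
    rw [isWeaklyRegular_cons_iff] at hreg
    have hP : Hom ℳ (y • (⊤ : Submodule (MvPolynomial (Fin N) k) M)) := hom_smul_top (𝒜 := stdGr k (Fin N)) hy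
    let _ : DirectSum.Decomposition (qgr ℳ (y • (⊤ : Submodule (MvPolynomial (Fin N) k) M))) := qdec hP
    have : SetLike.GradedSMul (stdGr k (Fin N)) (qgr ℳ (y • (⊤ : Submodule (MvPolynomial (Fin N) k) M))) :=
      qsmul _
    have T := mses_qgr (ℳ := ℳ) hy hreg.1
    refine van_of_quot T (xs_smul_mem ℳ) (CM.null'_of_mem ℳ one_pos hy) ?_
    have hle : y • (⊤ : Submodule (MvPolynomial (Fin N) k) M) ≤ LinearMap.ker σ := by
      rw [hker, Ideal.ofList_cons, Submodule.sup_smul]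
      refine le_trans (le_of_eq ?_) le_sup_left
      rw [Submodule.ideal_span_singleton_smul]
    refine van_of_list ys (QuotSMulTop y M) (qgr ℳ (y • (⊤ : Submodule (MvPolynomial (Fin N) k) M)))
      (fun z hz => hys z (by simp [hz])) hreg.2 P 𝒬 (Submodule.liftQ _ σ hle) ?_ ?_ ?_ i j h
    · intro z
      obtain ⟨m, rfl⟩ := hσ z
      exact ⟨Submodule.mkQ _ m, rfl⟩
    · intro j z hz
      obtain ⟨m, hm, rfl⟩ := mem_qgr.1 hz
      exact hσg j m hm
    · rw [Submodule.ker_liftQ, hker, Submodule.map_smul'', Submodule.map_top, Submodule.range_mkQ,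
        Ideal.ofList_cons, Submodule.sup_smul]
      have h1 : Ideal.span {y} • (⊤ : Submodule (MvPolynomial (Fin N) k) (QuotSMulTop y M)) = ⊥ := by
        rw [Submodule.ideal_span_singleton_smul, eq_bot_iff]
        intro z hz
        obtain ⟨w, -, rfl⟩ := Submodule.mem_smul_pointwise_iff_exists _ _ _ |>.1 hz
        obtain ⟨m, rfl⟩ := Submodule.mkQ_surjective _ w
        rw [← map_smul, Submodule.mem_bot, Submodule.mkQ_apply, Submodule.Quotient.mk_eq_zero]
        exact Submodule.smul_mem_pointwise_smul _ _ _ trivial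
      rw [h1, bot_sup_eq]

section Cyc

variable {P : Type u} [AddCommGroup P] [Module k P] [Module (MvPolynomial (Fin N) k) P]
  [IsScalarTower k (MvPolynomial (Fin N) k) P] {𝒬 : ℤ → Submodule k P} [DirectSum.Decomposition 𝒬]
  [SetLike.GradedSMul (stdGr k (Fin N)) 𝒬] {π : MvPolynomial (Fin N) k →ₗ[MvPolynomial (Fin N) k] P}
  (hπ : Function.Surjective π) (hπg : ∀ j f, f ∈ stdGr k (Fin N) j → π f ∈ 𝒬 j)

include hπ hπg

theorem exists_rep {j : ℤ} {m : P} (hm : m ∈ 𝒬 j) : ∃ f ∈ stdGr k (Fin N) j, π f = m := by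
  obtain ⟨f, rfl⟩ := hπ m
  exact ⟨Comp.cmp (stdGr k (Fin N)) j f, cmp_mem _ j f, by rw [← cmp_map hπg, cmp_of_mem hm]⟩

theorem piece_neg {j : ℤ} (hj : j < 0) (m : P) (hm : m ∈ 𝒬 j) : m = 0 := by
  obtain ⟨f, hf, rfl⟩ := exists_rep hπ hπg hm
  rw [eq_zero_of_neg hj hf, map_zero]

theorem piece_succ {j : ℤ} (hj : 0 ≤ j) (h : ∀ m ∈ 𝒬 j, m = 0) (m : P) (hm : m ∈ 𝒬 (j + 1)) : m = 0 := by
  classical
  obtain ⟨f, hf, rfl⟩ := exists_rep hπ hπg hm
  rw [f.as_sum, map_sum]
  refine Finset.sum_eq_zero fun d hd => ?_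
  have h2 : ((d.degree : ℕ) : ℤ) = j + 1 := by
    rw [mem_stdGr] at hf
    exact hf d (mem_support_iff.1 hd)
  obtain ⟨t, ht⟩ : ∃ t, d t ≠ 0 := by
    by_contra h
    push Not at h
    have : d = 0 := Finsupp.ext h
    rw [this] at h2
    simp at h2
    omega
  have h3 : monomial d (coeff d f) = X t * monomial (d - Finsupp.single t 1) (coeff d f) := by
    rw [X, monomial_mul, one_mul, add_comm, tsub_add_cancel_of_le]
    rw [Finsupp.single_le_iff]
    omega
  have h4 : monomial (d - Finsupp.single t 1) (coeff d f) ∈ stdGr k (Fin N) j := by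
    rw [mem_stdGr]
    intro e he
    rw [coeff_monomial] at he
    split_ifs at he with h0
    · subst h0
      have h5 : (d - Finsupp.single t 1) + Finsupp.single t 1 = d := by
        rw [tsub_add_cancel_of_le]
        rw [Finsupp.single_le_iff]
        omega
      have h6 := congrArg Finsupp.degree h5
      rw [map_add, Finsupp.degree_single] at h6
      omega
    · exact absurd rfl he
  rw [h3, ← smul_eq_mul, map_smul, h _ (hπg _ _ h4), smul_zero]

theorem piece_ge {j : ℤ} (hj : 0 ≤ j) (h : ∀ m ∈ 𝒬 j, m = 0) (n : ℕ) : ∀ m ∈ 𝒬 (j + n), m = 0 := by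
  induction n with
  | zero => simpa using h
  | succ n ih =>
    intro m hm
    refine piece_succ hπ hπg (j := j + n) (by omega) ih m ?_
    rwa [show j + (n : ℤ) + 1 = j + ((n + 1 : ℕ) : ℤ) by push_cast; ring]

end Cyc

section Lin

variable {M : Type u} [AddCommGroup M] [Module k M] [Module (MvPolynomial (Fin N) k) M]
  [IsScalarTower k (MvPolynomial (Fin N) k) M] {ℳ : ℤ → Submodule k M} [DirectSum.Decomposition ℳ]
  [SetLike.GradedSMul (stdGr k (Fin N)) ℳ] {π : MvPolynomial (Fin N) k →ₗ[MvPolynomial (Fin N) k] M}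
  (hπ : Function.Surjective π) (hπg : ∀ j f, f ∈ stdGr k (Fin N) j → π f ∈ ℳ j)

include hπ hπg

/-- the part of degree one of `(ys) M` -/
theorem cmp_one_mem {ys : List (MvPolynomial (Fin N) k)} (hys : ∀ y ∈ ys, y ∈ stdGr k (Fin N) 1) {m : M}
    (hm : m ∈ Ideal.ofList ys • (⊤ : Submodule (MvPolynomial (Fin N) k) M)) :
    ∃ f ∈ Submodule.span k {y | y ∈ ys}, π f = Comp.cmp ℳ 1 m := by
  have key : ∀ f ∈ Ideal.ofList ys, ∀ m : M, Comp.cmp ℳ 1 (f • m) ∈
      (Submodule.span k {y | y ∈ ys}).map (π.restrictScalars k) := by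
    intro f hf
    induction hf using Submodule.span_induction with
    | mem y hy =>
      intro m
      have h1 : Comp.cmp ℳ 1 (y • m) = y • Comp.cmp ℳ 0 m := cmp_smul_of_eq ℳ (hys y hy) (by norm_num) m
      obtain ⟨g, hg, hg'⟩ := exists_rep hπ hπg (cmp_mem ℳ 0 m)
      refine ⟨constantCoeff g • y, Submodule.smul_mem _ _ (Submodule.subset_span hy), ?_⟩
      change π (constantCoeff g • y) = _
      rw [h1, ← hg', ← map_smul, smul_eq_mul]
      congr 1
      conv_rhs => rw [mem_stdGr_zero hg]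
      rw [mul_comm, C_mul']
    | zero => intro m; rw [zero_smul, map_zero]; exact zero_mem _
    | add f g _ _ h1 h2 => intro m; rw [add_smul, map_add]; exact add_mem (h1 m) (h2 m)
    | smul c f _ h1 =>
      intro m
      rw [smul_eq_mul, mul_comm, mul_smul]
      exact h1 _
  have : Comp.cmp ℳ 1 m ∈ (Submodule.span k {y | y ∈ ys}).map (π.restrictScalars k) := by
    induction hm using Submodule.smul_induction_on' with
    | smul f hf m _ => exact key f hf m
    | add m _ m' _ h1 h2 => rw [map_add]; exact add_mem h1 h2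
  exact this

end Lin

theorem piece_bound {r : ℕ} {M : Type u} [AddCommGroup M] [Module k M] [Module (MvPolynomial (Fin (r + 1)) k) M]
    [IsScalarTower k (MvPolynomial (Fin (r + 1)) k) M]
    {ℳ : ℤ → Submodule k M} [DirectSum.Decomposition ℳ] [SetLike.GradedSMul (stdGr k (Fin (r + 1))) ℳ]
    (π : MvPolynomial (Fin (r + 1)) k →ₗ[MvPolynomial (Fin (r + 1)) k] M) (hπ : Function.Surjective π)
    (hπg : ∀ j f, f ∈ stdGr k (Fin (r + 1)) j → π f ∈ ℳ j)
    (hlin : ∀ x : MvPolynomial (Fin (r + 1)) k, x ∈ stdGr k (Fin (r + 1)) 1 → π x = 0 → x = 0)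
    (ys : List (MvPolynomial (Fin (r + 1)) k)) (hys : ∀ y ∈ ys, y ∈ stdGr k (Fin (r + 1)) 1)
    {P : Type u} [AddCommGroup P] [Module k P] [Module (MvPolynomial (Fin (r + 1)) k) P]
    [IsScalarTower k (MvPolynomial (Fin (r + 1)) k) P]
    {𝒬 : ℤ → Submodule k P} [DirectSum.Decomposition 𝒬] [SetLike.GradedSMul (stdGr k (Fin (r + 1))) 𝒬]
    (σ : M →ₗ[MvPolynomial (Fin (r + 1)) k] P) (hσ : Function.Surjective σ) (hσg : ∀ j m, m ∈ ℳ j → σ m ∈ 𝒬 j)
    (hker : LinearMap.ker σ = Ideal.ofList ys • (⊤ : Submodule (MvPolynomial (Fin (r + 1)) k) M))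
    (ℓ : ℕ) (hℓ : Module.length (MvPolynomial (Fin (r + 1)) k) P = (ℓ : ℕ∞)) (e : ℤ)
    (he : (ℓ : ℤ) < e + (r + 1 - ys.length)) : ∀ m ∈ 𝒬 e, m = 0 := by
  classical
  have hτ : Function.Surjective (σ ∘ₗ π) := hσ.comp hπ
  have hτg : ∀ j f, f ∈ stdGr k (Fin (r + 1)) j → (σ ∘ₗ π) f ∈ 𝒬 j := fun j f hf => hσg j _ (hπg j f hf)
  -- finite length
  have hfl : IsFiniteLength (MvPolynomial (Fin (r + 1)) k) P :=
    Module.length_ne_top_iff.1 (by rw [hℓ]; exact ENat.natCast_ne_top ℓ)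
  have hart : IsArtinian (MvPolynomial (Fin (r + 1)) k) P := (isFiniteLength_iff_isNoetherian_isArtinian.1 hfl).2
  obtain ⟨b, hb⟩ := exists_top_piece (N := r + 1) 𝒬
  obtain ⟨hfin, hfr⟩ := Len.length_of_nilp (Len.nilp_of_bdd 𝒬 hb) hℓ
  by_contra hne
  push Not at hne
  obtain ⟨m, hm, hm0⟩ := hne
  have he0 : 0 ≤ e := by
    by_contra h
    exact hm0 (piece_neg hτ hτg (by omega) m hm)
  -- all the pieces of degree `0, …, e` are nonzero
  have h1 : ∀ j : ℤ, 0 ≤ j → j ≤ e → 1 ≤ Module.finrank k ↥(𝒬 j) := by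
    intro j hj hje
    rw [Nat.one_le_iff_ne_zero]
    intro h
    have : Subsingleton ↥(𝒬 j) := Module.finrank_zero_iff.1 h
    have h2 : ∀ m ∈ 𝒬 j, m = 0 := fun m hm => by
      have := Subsingleton.elim (⟨m, hm⟩ : ↥(𝒬 j)) 0
      exact congrArg Subtype.val this
    obtain ⟨n, hn⟩ := Int.eq_ofNat_of_zero_le (show 0 ≤ e - j by omega)
    refine hm0 (piece_ge hτ hτg hj h2 n m ?_)
    rwa [show j + (n : ℤ) = e by omega]
  -- the piece of degree one
  have h2 : r + 1 ≤ Module.finrank k ↥(𝒬 1) + ys.length := by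
    let g : ↥(stdGr k (Fin (r + 1)) 1) →ₗ[k] ↥(𝒬 1) :=
      ((σ ∘ₗ π).restrictScalars k).restrict (fun f hf => hτg 1 f hf)
    have := finite_stdGr k (r + 1) 1
    have hrn := LinearMap.finrank_range_add_finrank_ker g
    have hr1 : Module.finrank k ↥(stdGr k (Fin (r + 1)) 1) = r + 1 := by
      have := finrank_stdGr (k := k) r 1
      rw [if_pos (by norm_num)] at this
      have h' : Nat.choose (r + (1 : ℤ).toNat) r = r + 1 := by simp
      rw [h'] at this
      exact_mod_cast this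
    rw [hr1] at hrn
    have h3 : Module.finrank k ↥(LinearMap.range g) ≤ Module.finrank k ↥(𝒬 1) := Submodule.finrank_le _
    have h4 : Module.finrank k ↥(LinearMap.ker g) ≤ ys.length := by
      have h5 : (LinearMap.ker g).map (stdGr k (Fin (r + 1)) 1).subtype ≤ Submodule.span k {y | y ∈ ys} := by
        rintro _ ⟨f, hf, rfl⟩
        have h6 : σ (π f.1) = 0 := congrArg Subtype.val hf
        have h7 : π f.1 ∈ Ideal.ofList ys • (⊤ : Submodule (MvPolynomial (Fin (r + 1)) k) M) := by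
          rw [← hker]; exact h6
        obtain ⟨f', hf', e'⟩ := cmp_one_mem hπ hπg hys h7
        rw [cmp_of_mem (hπg 1 _ f.2)] at e'
        have h8 : f' ∈ stdGr k (Fin (r + 1)) 1 := (Submodule.span_le.2 fun y hy => hys y hy) hf'
        have h9 : f.1 - f' = 0 := hlin _ (sub_mem f.2 h8) (by rw [map_sub, e', sub_self])
        rw [Submodule.subtype_apply, sub_eq_zero.1 h9]
        exact hf'
      have hfy : ({y | y ∈ ys} : Set (MvPolynomial (Fin (r + 1)) k)) = ↑ys.toFinset := by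
        ext; simp
      have h6 : Module.finrank k ↥((LinearMap.ker g).map (stdGr k (Fin (r + 1)) 1).subtype) =
          Module.finrank k ↥(LinearMap.ker g) :=
        LinearEquiv.finrank_eq (Submodule.equivMapOfInjective _ (Submodule.injective_subtype _) _).symm
      rw [hfy] at h5
      rw [← h6]
      have : Module.Finite k ↥(Submodule.span k (ys.toFinset : Set (MvPolynomial (Fin (r + 1)) k))) :=
        Module.Finite.span_of_finite k ys.toFinset.finite_toSet
      exact (Submodule.finrank_mono h5).trans ((finrank_span_finset_le_card _).trans (List.toFinset_card_le _))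
    omega
  have h3 := Len.sum_finrank_le 𝒬 (insert 1 (Finset.Icc 0 e))
  rw [hfr] at h3
  rcases eq_or_lt_of_le he0 with he0' | he0'
  · have h4 : (insert 1 (Finset.Icc 0 e) : Finset ℤ) = {1, 0} := by
      rw [← he0']; rfl
    rw [h4, Finset.sum_pair (by norm_num)] at h3
    omega
  · have h4 : (1 : ℤ) ∈ Finset.Icc 0 e := Finset.mem_Icc.2 ⟨by norm_num, by omega⟩
    rw [Finset.insert_eq_of_mem h4, ← Finset.add_sum_erase _ _ h4] at h3
    have h5 : ((Finset.Icc 0 e).erase 1).card • 1 ≤ ∑ j ∈ (Finset.Icc 0 e).erase 1, Module.finrank k ↥(𝒬 j) :=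
      Finset.card_nsmul_le_sum _ _ _ fun j hj => by
        have := Finset.mem_Icc.1 (Finset.mem_of_mem_erase hj)
        exact h1 j this.1 this.2
    rw [Finset.card_erase_of_mem h4, Int.card_Icc, smul_eq_mul, mul_one] at h5
    omega

end K860.Cut
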