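import Groth.Agent.GrSyz.K860.Sys
import Groth.Agent.Ega3B.CoefSysPre
import Groth.Agent.CohqA.FlatCpxLocal

/-!
# Exactness of the Čech complex of a presheaf in terms of a system of modules
-/

set_option autoImplicit false
set_option linter.unusedVariables false
set_option linter.unusedSectionVars false
universe u v w

open Finset CategoryTheory Opposite TopologicalSpace

namespace K860.ExCmp

open Groth.Agent.Ega3B.Cube Groth.Agent.Ega3B.CubeData Groth.Agent.Ega3B.CombRes Groth.Agent.Ega3B.CoefSys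
open Groth.Agent.CohqA.FlatCpx FSys

variable {J : Type} [LinearOrder J] [Fintype J] {X : TopCat.{u}} (U : J → Opens X)
  (G : (Opens X)ᵒᵖ ⥤ AddCommGrpCat.{u})
variable {R : Type w} [CommRing R] (F : Sys.{w, u} R J)
variable (P : ∀ s, AddSubgroup (F.X s)) (hP : ∀ {s t : Finset J} (h : s ⊆ t) (y : F.X s), y ∈ P s → F.ρ h y ∈ P t)
  (θ : ∀ s : Finset J, s.Nonempty → (P s ≃+ G.obj (op (s.inf U))))
  (hθ : ∀ {s t : Finset J} (hs : s.Nonempty) (ht : t.Nonempty) (h : s ⊆ t) (y : P s),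
    θ t ht ⟨F.ρ h y.1, hP h y.1 y.2⟩ = G.map (homOfLE (Finset.inf_mono h : t.inf U ≤ s.inf U)).op (θ s hs y))

/-- homogeneous cochains -/
def HC (n : ℕ) : AddSubgroup (∀ s, F.X s) where
  carrier := {c | c ∈ F.C n ∧ ∀ s, c s ∈ P s}
  zero_mem' := ⟨zero_mem _, fun s => zero_mem _⟩
  add_mem' h h' := ⟨add_mem h.1 h'.1, fun s => add_mem (h.2 s) (h'.2 s)⟩
  neg_mem' h := ⟨neg_mem h.1, fun s => neg_mem (h.2 s)⟩

include hP in
theorem d_memP {c : ∀ s, F.X s} (hc : ∀ s, c s ∈ P s) (t : Finset J) : F.d c t ∈ P t := by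
  rw [Sys.d_apply]
  refine sum_mem fun i hi => zsmul_mem ?_ _
  rw [Sys.tot_of F (erase_subset i t)]
  exact hP _ _ (hc _)

/-- the cochain of the presheaf attached to a homogeneous cochain -/
noncomputable def toK (n : ℕ) (c : ∀ s, F.X s) (hc : ∀ s, c s ∈ P s) : (cech U).K n G :=
  fun b => θ b.1 b.2.1 ⟨c b.1, hc b.1⟩

include hθ in
theorem toK_d (n : ℕ) (c : ∀ s, F.X s) (hc : ∀ s, c s ∈ P s) (hcn : c ∈ F.C (n + 1)) :
    (cech U).δ n G (toK U G F P θ n c hc) = toK U G F P θ (n + 1) (F.d c) (d_memP F P hP hc) := by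
  funext b
  refine Eq.trans (congrFun (cech_δ_eq U G n (toK U G F P θ n c hc)) b) ?_
  refine Eq.trans (dl_apply _ n _ b) ?_
  change _ = θ b.1 b.2.1 ⟨F.d c b.1, d_memP F P hP hc b.1⟩
  have h1 : (⟨F.d c b.1, d_memP F P hP hc b.1⟩ : P b.1) = ∑ i ∈ b.1, sgn i b.1 •
      (⟨F.ρ (erase_subset i b.1) (c (b.1.erase i)), hP _ _ (hc _)⟩ : P b.1) := by
    apply Subtype.ext
    rw [AddSubgroup.val_finsetSum]
    change F.d c b.1 = _
    rw [Sys.d_apply]
    refine sum_congr rfl fun i _ => ?_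
    rw [Sys.tot_of F (erase_subset i b.1)]
    rfl
  rw [h1, map_sum]
  refine sum_congr rfl fun i hi => ?_
  rw [map_zsmul]
  congr 1
  have hb := b.2.2
  have hne : (b.1.erase i).Nonempty := by
    rw [← card_pos, card_erase_of_mem hi]
    omega
  have hcard : (b.1.erase i).card = n + 1 := by
    rw [card_erase_of_mem hi]
    omega
  rw [hθ hne b.2.1 (erase_subset i b.1) ⟨c (b.1.erase i), hc _⟩]
  have h5 := evx_of (R := ℤ) (S := NE) (k := 1) (M := fun s => G.obj (op (s.inf U)))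
    (⟨hne, hcard⟩ : NE (b.1.erase i) ∧ (b.1.erase i).card = n + 1) (toK U G F P θ n c hc)
  exact congrArg (G.map (homOfLE (Finset.inf_mono (erase_subset i b.1) : b.1.inf U ≤ (b.1.erase i).inf U)).op) h5

theorem toK_inj (n : ℕ) {c c' : ∀ s, F.X s} (hc : ∀ s, c s ∈ P s) (hc' : ∀ s, c' s ∈ P s)
    (h1 : c ∈ F.C (n + 1)) (h2 : c' ∈ F.C (n + 1)) (h : toK U G F P θ n c hc = toK U G F P θ n c' hc') : c = c' := by
  funext s
  by_cases hs : s.card = n + 1
  · have h3 := congrFun h (⟨s, card_pos.1 (by omega), hs⟩ : (cech U).B n)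
    have h4 := (θ s (card_pos.1 (by omega))).injective h3
    exact congrArg Subtype.val h4
  · rw [h1 s hs, h2 s hs]

theorem toK_surj (n : ℕ) (z : (cech U).K n G) :
    ∃ (c : ∀ s, F.X s) (hc : ∀ s, c s ∈ P s), c ∈ F.C (n + 1) ∧ toK U G F P θ n c hc = z := by
  classical
  let c : ∀ s, F.X s := fun s => if h : NE s ∧ s.card = n + 1 then ((θ s h.1).symm (z ⟨s, h⟩)).1 else 0
  have hc : ∀ s, c s ∈ P s := by
    intro s
    by_cases h : NE s ∧ s.card = n + 1
    · simp only [c, dif_pos h]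
      exact ((θ s h.1).symm (z ⟨s, h⟩)).2
    · simp only [c, dif_neg h]
      exact zero_mem _
  refine ⟨c, hc, fun s hs => dif_neg fun h => hs h.2, ?_⟩
  funext b
  change θ b.1 b.2.1 ⟨c b.1, hc b.1⟩ = z b
  have h1 : (⟨c b.1, hc b.1⟩ : P b.1) = (θ b.1 b.2.1).symm (z b) := by
    apply Subtype.ext
    change c b.1 = _
    simp only [c]
    rw [dif_pos b.2]
    rfl
  rw [h1]
  exact (θ b.1 b.2.1).apply_symm_apply (z b)

include hθ in
/-- exactness of the Čech complex of the presheaf in positive degree -/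
theorem exAt_iff (n : ℕ) :
    ExAt (X := fun n => (cech U).K n G) (fun n => ((cech U).δ n G : _ → _)) (n + 1) ↔
      ∀ c ∈ F.C (n + 2), (∀ s, c s ∈ P s) → F.d c = 0 →
        ∃ b ∈ F.C (n + 1), (∀ s, b s ∈ P s) ∧ F.d b = c := by
  constructor
  · intro H c hcn hc hd
    obtain ⟨z, hz⟩ := H (toK U G F P θ (n + 1) c hc) (by
      refine (toK_d U G F P hP θ hθ (n + 1) c hc hcn).trans ?_
      funext b
      change θ b.1 b.2.1 ⟨F.d c b.1, _⟩ = 0
      have : (⟨F.d c b.1, d_memP F P hP hc b.1⟩ : P b.1) = 0 := Subtype.ext (congrFun hd b.1)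
      rw [this, map_zero])
    obtain ⟨b, hb, hbn, rfl⟩ := toK_surj U G F P θ n z
    refine ⟨b, hbn, hb, ?_⟩
    refine toK_inj U G F P θ (n + 1) (d_memP F P hP hb) hc (F.d_mem hbn) hcn ?_
    rw [← toK_d U G F P hP θ hθ n b hb hbn]
    exact hz
  · intro H z hz
    obtain ⟨c, hc, hcn, rfl⟩ := toK_surj U G F P θ (n + 1) z
    have hd : F.d c = 0 := by
      refine toK_inj U G F P θ (n + 2) (d_memP F P hP hc) (fun s => zero_mem _) (F.d_mem hcn) (zero_mem _) ?_
      rw [← toK_d U G F P hP θ hθ (n + 1) c hc hcn]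
      refine Eq.trans hz ?_
      funext b
      change 0 = θ b.1 b.2.1 ⟨0, _⟩
      exact (map_zero (θ b.1 b.2.1)).symm
    obtain ⟨b, hbn, hb, hbc⟩ := H c hcn hc hd
    refine ⟨toK U G F P θ n b hb, ?_⟩
    refine (toK_d U G F P hP θ hθ n b hb hbn).trans ?_
    subst hbc
    rfl

end K860.ExCmp
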