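import Groth.Agent.GrSyz.K860.KosMod
import Groth.Agent.GrSyz.K860.Basic
import Groth.Agent.GrSyz.K860.Comp

/-!
# The Koszul complex of the variables on graded free modules over a polynomial ring
-/

set_option autoImplicit false
set_option linter.unusedSectionVars false
universe u v w

open GrSyz MvPolynomial

namespace K860.KosPoly

open Kos _root_.K860.Comp Basic

variable {k : Type u} [CommRing k]

/-- the variables as a sequence -/
noncomputable def xs (k : Type u) [CommRing k] (N : ℕ) (t : ℕ) : MvPolynomial (Fin N) k :=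
  if h : t < N then X ⟨t, h⟩ else 0

theorem xs_of_lt {N t : ℕ} (h : t < N) : xs k N t = X ⟨t, h⟩ := dif_pos h

theorem xs_mem (N t : ℕ) : xs k N t ∈ stdGr k (Fin N) 1 := by
  unfold xs
  split_ifs
  · exact X_mem _
  · exact zero_mem _

section Mod

variable {N : ℕ} {M : Type v} [AddCommGroup M] [Module k M] [Module (MvPolynomial (Fin N) k) M]
  [IsScalarTower k (MvPolynomial (Fin N) k) M] (ℳ : ℤ → Submodule k M) [SetLike.GradedSMul (stdGr k (Fin N)) ℳ]

theorem xs_smul_mem (t : ℕ) (j : ℤ) (m : M) (hm : m ∈ ℳ j) : xs k N t • m ∈ ℳ (j + 1) := by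
  rw [add_comm]
  exact SetLike.GradedSMul.smul_mem (xs_mem N t) hm

end Mod

section Free

variable (k) (N : ℕ) {ι : Type w} (e : ι → ℤ)

/-- the pieces of the graded free module -/
noncomputable abbrev fr (j : ℤ) : Submodule k (ι → MvPolynomial (Fin N) k) := fp (stdGr k (Fin N)) e j

theorem xs_smul_mem_fr (t : ℕ) (j : ℤ) (m : ι → MvPolynomial (Fin N) k) (hm : m ∈ fr k N e j) :
    xs k N t • m ∈ fr k N e (j + 1) := by
  rw [add_comm]
  exact smul_mem_fp _ (xs_mem N t) hm

/-- the ideal of the first `t` variables -/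
noncomputable def id' (t : ℕ) : Ideal (MvPolynomial (Fin N) k) := Ideal.span (X '' {a : Fin N | a.1 < t})

theorem id'_homogeneous (t : ℕ) : (id' k N t).IsHomogeneous (stdGr k (Fin N)) := by
  refine Ideal.homogeneous_span _ _ ?_
  rintro _ ⟨a, -, rfl⟩
  exact ⟨1, X_mem a⟩

variable {k N e}

theorem cmp_mem_id' {t : ℕ} {p : MvPolynomial (Fin N) k} (hp : p ∈ id' k N t) (j : ℤ) :
    cmp (stdGr k (Fin N)) j p ∈ id' k N t := id'_homogeneous k N t j hp

theorem mem_id'_succ {t : ℕ} (ht : t < N) {p : MvPolynomial (Fin N) k} :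
    p ∈ id' k N (t + 1) ↔ ∃ a ∈ id' k N t, ∃ q, a + X ⟨t, ht⟩ * q = p := by
  have h : ({a : Fin N | a.1 < t + 1} : Set (Fin N)) = {a : Fin N | a.1 < t} ∪ {⟨t, ht⟩} := by
    ext a
    simp only [Set.mem_ofPred_eq, Set.mem_union, Set.mem_singleton_iff, Fin.ext_iff]
    omega
  rw [id', h, Set.image_union, Set.image_singleton, Ideal.span_union, Submodule.mem_sup]
  constructor
  · rintro ⟨a, ha, b, hb, rfl⟩
    obtain ⟨q, rfl⟩ := Ideal.mem_span_singleton'.1 hb
    exact ⟨a, ha, q, by rw [mul_comm]⟩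
  · rintro ⟨a, ha, q, rfl⟩
    exact ⟨a, ha, _, Ideal.mem_span_singleton'.2 ⟨q, by rw [mul_comm]⟩, rfl⟩

theorem X_mul_mem_id' {t : ℕ} (ht : t < N) {p : MvPolynomial (Fin N) k} (h : X ⟨t, ht⟩ * p ∈ id' k N t) :
    p ∈ id' k N t := by
  rw [id', mem_ideal_span_X_image] at h ⊢
  intro m hm
  have h1 : m + Finsupp.single (⟨t, ht⟩ : Fin N) 1 ∈ ((X (⟨t, ht⟩ : Fin N) : MvPolynomial (Fin N) k) * p).support := by
    rw [mem_support_iff, mul_comm, coeff_mul_X]
    exact mem_support_iff.1 hm
  obtain ⟨i, hi, h2⟩ := h _ h1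
  refine ⟨i, hi, ?_⟩
  have : (⟨t, ht⟩ : Fin N) ≠ i := by
    rintro rfl
    exact lt_irrefl t hi
  rwa [Finsupp.add_apply, Finsupp.single_eq_of_ne (Ne.symm this), add_zero] at h2

theorem mem_I_iff : ∀ (t : ℕ) (_ : t ≤ N) (j : ℤ) (v : ι → MvPolynomial (Fin N) k),
    v ∈ I (xs k N) (fr k N e) t j ↔ v ∈ fr k N e j ∧ ∀ b, v b ∈ id' k N t
  | 0, _, j, v => by
    have h0 : id' k N 0 = ⊥ := by
      rw [id', Ideal.span_eq_bot]
      rintro _ ⟨a, ha, rfl⟩
      exact absurd ha (by simp)
    change v ∈ (⊥ : Submodule k _) ↔ _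
    rw [Submodule.mem_bot, h0]
    constructor
    · rintro rfl
      exact ⟨zero_mem _, fun _ => zero_mem _⟩
    · rintro ⟨-, h⟩
      exact funext fun b => h b
  | t + 1, ht, j, v => by
    have ht' : t < N := by omega
    rw [I_succ, Submodule.mem_sup]
    constructor
    · rintro ⟨a, ha, _, ⟨q, hq, rfl⟩, rfl⟩
      obtain ⟨h1, h2⟩ := (mem_I_iff t (by omega) j a).1 ha
      refine ⟨add_mem h1 ?_, fun b => ?_⟩
      · have := xs_smul_mem_fr k N e t _ q hq
        rwa [sub_add_cancel] at this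
      · exact (mem_id'_succ ht').2 ⟨a b, h2 b, q b, by
          rw [Pi.add_apply, ← xs_of_lt ht']
          rfl⟩
    · rintro ⟨h1, h2⟩
      choose a ha q hq using fun b => (mem_id'_succ ht').1 (h2 b)
      refine ⟨fcmp (stdGr k (Fin N)) e j a, (mem_I_iff t (by omega) j _).2 ⟨fcmp_mem _ _ _ _, fun b =>
        cmp_mem_id' (ha b) _⟩, xs k N t • fcmp (stdGr k (Fin N)) e (j - 1) q, ⟨_, fcmp_mem _ _ _ _, rfl⟩, ?_⟩
      funext b
      have h3 : v b = cmp (stdGr k (Fin N)) (j - e b) (v b) := (cmp_of_mem (h1 b)).symm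
      rw [h3, ← hq b, map_add, Pi.add_apply, fcmp_apply, Pi.smul_apply, fcmp_apply, xs_of_lt ht']
      congr 1
      exact (cmp_smul_of_eq _ (X_mem (⟨t, ht'⟩ : Fin N)) (by ring) (q b)).symm

variable (k N e)

theorem reg_fr (s : ℕ) (hs : s ≤ N) : Reg (xs k N) (fr k N e) s := by
  intro t ht j m hm h
  have ht' : t < N := by omega
  obtain ⟨-, h2⟩ := (mem_I_iff t ht'.le (j + 1) _).1 h
  refine (mem_I_iff t ht'.le j m).2 ⟨hm, fun b => X_mul_mem_id' ht' ?_⟩
  have := h2 b
  rwa [Pi.smul_apply, xs_of_lt ht'] at this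

/-- the Koszul complex of the variables on a free module is exact in positive degrees -/
theorem van_fr (i j : ℤ) (hi : 0 < i) : (kos (xs k N) (fr k N e) N).Van i j :=
  van_kos_of_reg _ _ (xs_smul_mem_fr k N e) N (reg_fr k N e N le_rfl) i j hi

theorem id'_top : id' k N N = Ideal.span (Set.range (X : Fin N → MvPolynomial (Fin N) k)) := by
  rw [id']
  congr 1
  rw [← Set.image_univ]
  congr 1
  ext a
  simp

variable {k N e}

theorem mem_I_top_iff {j : ℤ} {v : ι → MvPolynomial (Fin N) k} :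
    v ∈ I (xs k N) (fr k N e) N j ↔ v ∈ fr k N e j ∧ ∀ b, constantCoeff (v b) = 0 := by
  rw [mem_I_iff N le_rfl, id'_top]
  simp_rw [mem_span_X_iff]

variable (k N e)

/-- the homology in degree zero -/
theorem H_zero_fr (j : ℤ) :
    Nonempty ((kos (xs k N) (fr k N e) N).H 0 j ≃ₗ[k] ({b : ι // e b = j} → k)) := by
  obtain ⟨E⟩ := H_zero_equiv (xs k N) (fr k N e) (xs_smul_mem_fr k N e) N j
  let β : ↥(fr k N e j) →ₗ[k] ({b : ι // e b = j} → k) :=
    { toFun := fun v b => constantCoeff (v.1 b.1)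
      map_add' := fun v w => funext fun b => map_add _ _ _
      map_smul' := fun c v => funext fun b => by
        rw [RingHom.id_apply, Pi.smul_apply]
        change constantCoeff (c • v.1 b.1) = _
        rw [constantCoeff_smul] }
  obtain ⟨E'⟩ := equiv_of_ker_eq (Submodule.mkQ ((I (xs k N) (fr k N e) N j).comap (fr k N e j).subtype)) β
    (Submodule.mkQ_surjective _) (by
      classical
      intro c
      refine ⟨⟨fun b => if h : e b = j then C (c ⟨b, h⟩) else 0, fun b => ?_⟩, ?_⟩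
      · dsimp only
        split_ifs with h
        · rw [h, sub_self]; exact C_mem _
        · exact zero_mem _
      · funext b
        change constantCoeff (if h : e b.1 = j then C (c ⟨b.1, h⟩) else 0) = c b
        rw [dif_pos b.2, constantCoeff_C]) (by
      ext v
      rw [Submodule.ker_mkQ, Submodule.mem_comap, LinearMap.mem_ker]
      refine (mem_I_top_iff (v := v.1)).trans ?_
      constructor
      · intro h
        exact funext fun b => h.2 b
      · intro h
        refine ⟨v.2, fun b => ?_⟩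
        by_cases hb : e b = j
        · exact congrFun h ⟨b, hb⟩
        · exact constantCoeff_eq_zero (by omega) (v.2 b))
  exact ⟨E.trans E'⟩

end Free

end K860.KosPoly
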