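import Groth.Agent.GrSyz.K860.QuotGr
import Groth.Agent.GrSyz.K860.KosPoly
import Mathlib.RingTheory.KrullDimension.Regular
import Mathlib.RingTheory.HopkinsLevitzki
import Mathlib.GroupTheory.CosetCover
import Mathlib.RingTheory.Ideal.AssociatedPrime.Finiteness

/-!
# Graded modules over a polynomial ring: finite length, linear regular elements

* `exists_top_piece` : an artinian graded module has no elements of large degree;
* `isArtinian_of_supportDim_le_zero`;
* `exists_linear_regular` : over an infinite field, a module without socle has a regular linear form.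
-/

set_option autoImplicit false
set_option linter.unusedSectionVars false
universe u v w

open GrSyz MvPolynomial

namespace K860.FinLen

open Kos _root_.K860.Comp Basic KosPoly

section Trunc

variable {k : Type u} [CommRing k] {N : ℕ} {M : Type v} [AddCommGroup M] [Module k M]
  [Module (MvPolynomial (Fin N) k) M] [IsScalarTower k (MvPolynomial (Fin N) k) M]
  (ℳ : ℤ → Submodule k M) [DirectSum.Decomposition ℳ] [SetLike.GradedSMul (stdGr k (Fin N)) ℳ]

/-- the submodule of elements of degree `≥ d` -/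
def trunc (d : ℤ) : Submodule (MvPolynomial (Fin N) k) M where
  carrier := {m | ∀ j < d, Comp.cmp ℳ j m = 0}
  zero_mem' j _ := map_zero _
  add_mem' {m m'} hm hm' j hj := by rw [map_add, hm j hj, hm' j hj, add_zero]
  smul_mem' f m hm j hj := by
    obtain ⟨J, -, hJ⟩ := exists_sum_cmp ℳ m
    rw [← hJ J subset_rfl, Finset.smul_sum, map_sum]
    refine Finset.sum_eq_zero fun b _ => ?_
    by_cases hb : b < d
    · rw [hm b hb, smul_zero, map_zero]
    · have h1 : Comp.cmp ℳ j (f • Comp.cmp ℳ b m) =
          Comp.cmp (stdGr k (Fin N)) (j - b) f • Comp.cmp ℳ b m :=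
        cmp_smul_of_eq' (stdGr k (Fin N)) (cmp_mem ℳ b m) (by abel) f
      rw [h1, eq_zero_of_neg (show j - b < 0 by omega) (cmp_mem _ _ _), zero_smul]

theorem mem_trunc {d : ℤ} {m : M} : m ∈ trunc (N := N) ℳ d ↔ ∀ j < d, Comp.cmp ℳ j m = 0 := Iff.rfl

theorem exists_top_piece [IsArtinian (MvPolynomial (Fin N) k) M] : ∃ e : ℤ, ∀ j, e ≤ j → ∀ m ∈ ℳ j, m = 0 := by
  let f : ℕ →o (Submodule (MvPolynomial (Fin N) k) M)ᵒᵈ :=
    ⟨fun d => OrderDual.toDual (trunc ℳ (d : ℤ)), fun a b hab => by
      change trunc ℳ (b : ℤ) ≤ trunc ℳ (a : ℤ)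
      intro m hm j hj
      exact hm j (by omega)⟩
  obtain ⟨n, hn⟩ := IsArtinian.monotone_stabilizes f
  refine ⟨n, fun j hj m hm => ?_⟩
  obtain ⟨l, rfl⟩ := Int.eq_ofNat_of_zero_le (show 0 ≤ j by omega)
  have h1 : trunc (N := N) ℳ (n : ℤ) = trunc ℳ ((l + 1 : ℕ) : ℤ) := hn (l + 1) (by omega)
  have h2 : m ∈ trunc (N := N) ℳ (n : ℤ) := fun i hi => cmp_of_mem_ne hm (by omega)
  rw [h1] at h2
  have h3 := h2 l (by push_cast; omega)
  rwa [cmp_of_mem hm] at h3

end Trunc

theorem isArtinian_of_supportDim_le_zero {R : Type u} [CommRing R] [IsNoetherianRing R] {M : Type v}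
    [AddCommGroup M] [Module R M] [Module.Finite R M] (h : Module.supportDim R M ≤ 0) : IsArtinian R M := by
  rw [Module.supportDim_eq_ringKrullDim_quotient_annihilator] at h
  have h1 : Ring.KrullDimLE 0 (R ⧸ Module.annihilator R M) := by
    rw [Ring.KrullDimLE, Order.krullDimLE_iff]
    exact h
  have h2 : IsArtinianRing (R ⧸ Module.annihilator R M) := IsNoetherianRing.isArtinianRing_of_krullDimLE_zero
  let : Module (R ⧸ Module.annihilator R M) M := Module.quotientAnnihilator
  have : IsScalarTower R (R ⧸ Module.annihilator R M) M := Module.IsTorsionBySet.isScalarTower _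
  have h3 : Module.Finite (R ⧸ Module.annihilator R M) M := Module.Finite.of_restrictScalars_finite R _ _
  have h4 : IsArtinian (R ⧸ Module.annihilator R M) M := isArtinian_of_fg_of_artinian'
  exact isArtinian_of_surjective_algebraMap (S := R) (R := R ⧸ Module.annihilator R M) Ideal.Quotient.mk_surjective

section Lin

variable {k : Type u} [Field k] [Infinite k] {N : ℕ} {M : Type v} [AddCommGroup M]
  [Module (MvPolynomial (Fin N) k) M] [Module.Finite (MvPolynomial (Fin N) k) M]

theorem exists_linear_regular (h : ∀ m : M, (∀ t : Fin N, (X t : MvPolynomial (Fin N) k) • m = 0) → m = 0) :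
    ∃ y ∈ stdGr k (Fin N) 1, IsSMulRegular M y := by
  classical
  have hfin : (associatedPrimes (MvPolynomial (Fin N) k) M).Finite := associatedPrimes.finite _ _
  let s : Finset (Subspace k ↥(stdGr k (Fin N) 1)) :=
    hfin.toFinset.image fun p => (p.restrictScalars k).comap (stdGr k (Fin N) 1).subtype
  have hs : ⊤ ∉ s := by
    intro hmem
    obtain ⟨p, hp, hp'⟩ := Finset.mem_image.1 hmem
    rw [Set.Finite.mem_toFinset, AssociatedPrimes.mem_iff, isAssociatedPrime_iff] at hp
    obtain ⟨hprime, m, rfl⟩ := hp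
    have hm : m = 0 := h m fun t => by
      have h1 : (⟨X t, X_mem t⟩ : ↥(stdGr k (Fin N) 1)) ∈ (⊤ : Subspace k ↥(stdGr k (Fin N) 1)) := trivial
      rw [← hp'] at h1
      simpa [Submodule.mem_colon_singleton] using h1
    apply hprime.ne_top
    rw [hm]
    simp
  have h1 := Subspace.biUnion_ne_univ_of_top_notMem hs
  obtain ⟨y, hy⟩ := (Set.ne_univ_iff_exists_notMem _).1 h1
  refine ⟨y.1, y.2, ?_⟩
  have h2 : (y : MvPolynomial (Fin N) k) ∉ ⋃ p ∈ associatedPrimes (MvPolynomial (Fin N) k) M, (p : Set _) := by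
    intro hmem
    simp only [Set.mem_iUnion] at hmem
    obtain ⟨p, hp, hyp⟩ := hmem
    apply hy
    simp only [Set.mem_iUnion]
    exact ⟨_, Finset.mem_image_of_mem _ (hfin.mem_toFinset.2 hp), hyp⟩
  rw [biUnion_associatedPrimes_eq_zero_divisors] at h2
  rw [isSMulRegular_iff_right_eq_zero_of_smul]
  intro m hm
  by_contra hm0
  exact h2 ⟨m, hm0, hm⟩

end Lin

end K860.FinLen
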