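import Groth.Agent.Ega3B.Cube
import Mathlib.Algebra.Module.LinearMap.Defs
import Mathlib.Algebra.Module.Pi

/-!
# The ordered Čech complex of a system of modules indexed by finite sets

`Sys R J` : modules `X s`, `s : Finset J`, with transitive maps `X s → X t` for `s ⊆ t`.
`Sys.d` : the Čech differential on `∏ s, X s`; `d_d`; `torsion` : if `X (insert i t)` is the localization of `X t` at
`x_i` then every cocycle is, up to a power of `x_i`, a coboundary.
-/

set_option autoImplicit false
set_option linter.unusedSectionVars false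
universe u v

open Finset

namespace K860.FSys

open Groth.Agent.Ega3B.Cube

variable {J : Type} [LinearOrder J] [Fintype J]

theorem sgn_swap {i j : J} (hij : i ≠ j) {t : Finset J} (hi : i ∈ t) (hj : j ∈ t) :
    sgn i t * sgn j (t.erase i) = - (sgn j t * sgn i (t.erase j)) := by
  have h1 : i ∉ (t.erase i).erase j := by simp
  have h2 : j ∉ (t.erase i).erase j := by simp
  have h3 : insert i ((t.erase i).erase j) = t.erase j := by
    rw [erase_right_comm, insert_erase (mem_erase.2 ⟨hij, hi⟩)]
  have h4 : insert j ((t.erase i).erase j) = t.erase i := insert_erase (mem_erase.2 ⟨hij.symm, hj⟩)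
  have := sgn_key hij h1 h2
  rw [h3, h4, insert_erase hi, insert_erase hj] at this
  rw [this, neg_neg]

/-- a system of modules indexed by finite sets -/
structure Sys (R : Type u) [CommRing R] (J : Type) where
  X : Finset J → Type v
  [acg : ∀ s, AddCommGroup (X s)]
  [mod : ∀ s, Module R (X s)]
  ρ : ∀ {s t : Finset J}, s ⊆ t → X s →ₗ[R] X t
  comp : ∀ {s t w : Finset J} (h : s ⊆ t) (h' : t ⊆ w) (y : X s), ρ h' (ρ h y) = ρ (h.trans h') y
  refl : ∀ {s : Finset J} (y : X s), ρ (Subset.refl s) y = y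

attribute [instance] Sys.acg Sys.mod

variable {R : Type u} [CommRing R] (F : Sys.{u, v} R J)

namespace Sys

/-- `ρ` as a total function -/
def tot (c : ∀ s, F.X s) (t s : Finset J) : F.X t := if h : s ⊆ t then F.ρ h (c s) else 0

theorem tot_of {c : ∀ s, F.X s} {t s : Finset J} (h : s ⊆ t) : F.tot c t s = F.ρ h (c s) := dif_pos h

theorem tot_self (c : ∀ s, F.X s) (t : Finset J) : F.tot c t t = c t := by
  rw [tot_of F (Subset.refl t), F.refl]

theorem ρ_tot {c : ∀ s, F.X s} {t s w : Finset J} (h : t ⊆ w) (hs : s ⊆ t) : F.ρ h (F.tot c t s) = F.tot c w s := by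
  rw [tot_of F hs, tot_of F (hs.trans h), F.comp]

/-- the Čech differential -/
def d : (∀ s, F.X s) →ₗ[R] (∀ s, F.X s) where
  toFun c t := ∑ i ∈ t, sgn i t • F.tot c t (t.erase i)
  map_add' c c' := by
    funext t
    rw [Pi.add_apply, ← sum_add_distrib]
    refine sum_congr rfl fun i _ => ?_
    rw [tot_of F (erase_subset i t), tot_of F (erase_subset i t), tot_of F (erase_subset i t), Pi.add_apply,
      map_add, smul_add]
  map_smul' r c := by
    funext t
    rw [Pi.smul_apply, RingHom.id_apply, smul_sum]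
    refine sum_congr rfl fun i _ => ?_
    rw [tot_of F (erase_subset i t), tot_of F (erase_subset i t), Pi.smul_apply, map_smul, smul_comm]

theorem d_apply (c : ∀ s, F.X s) (t : Finset J) : F.d c t = ∑ i ∈ t, sgn i t • F.tot c t (t.erase i) := rfl

theorem ρ_d (c : ∀ s, F.X s) {t w : Finset J} (h : t ⊆ w) :
    F.ρ h (F.d c t) = ∑ i ∈ t, sgn i t • F.tot c w (t.erase i) := by
  rw [d_apply, map_sum]
  refine sum_congr rfl fun i _ => ?_
  rw [map_zsmul, ρ_tot F h (erase_subset i t)]

theorem d_d (c : ∀ s, F.X s) : F.d (F.d c) = 0 := by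
  funext t
  rw [d_apply]
  have h1 : ∀ i ∈ t, sgn i t • F.tot (F.d c) t (t.erase i) =
      ∑ j ∈ t, if i = j then 0 else (sgn i t * sgn j (t.erase i)) • F.tot c t ((t.erase i).erase j) := by
    intro i hi
    rw [tot_of F (erase_subset i t), ρ_d, smul_sum]
    rw [← sum_erase t (show (if i = i then (0 : F.X t) else
      (sgn i t * sgn i (t.erase i)) • F.tot c t ((t.erase i).erase i)) = 0 from if_pos rfl)]
    refine sum_congr rfl fun j hj => ?_
    rw [if_neg (ne_of_mem_erase hj).symm, smul_smul]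
  rw [sum_congr rfl h1, ← sum_product', Pi.zero_apply]
  refine sum_involution (fun p _ => (p.2, p.1)) ?_ ?_ ?_ ?_
  · rintro ⟨i, j⟩ hp
    rw [mem_product] at hp
    by_cases hij : i = j
    · subst hij; simp
    · simp only
      rw [if_neg hij, if_neg (Ne.symm hij), erase_right_comm, ← add_smul, sgn_swap hij hp.1 hp.2, neg_add_cancel,
        zero_smul]
  · rintro ⟨i, j⟩ _ h h'
    apply h
    rw [Prod.mk.injEq] at h'
    exact if_pos h'.2
  · rintro ⟨i, j⟩ hp
    exact mem_product.2 (mem_product.1 hp).symm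
  · rintro ⟨i, j⟩ _
    rfl

/-- elements supported in cardinality `n` -/
def C (n : ℕ) : Submodule R (∀ s, F.X s) where
  carrier := {c | ∀ s, s.card ≠ n → c s = 0}
  zero_mem' _ _ := rfl
  add_mem' hc hc' s hs := by rw [Pi.add_apply, hc s hs, hc' s hs, add_zero]
  smul_mem' r c hc s hs := by rw [Pi.smul_apply, hc s hs, smul_zero]

theorem mem_C {n : ℕ} {c : ∀ s, F.X s} : c ∈ F.C n ↔ ∀ s, s.card ≠ n → c s = 0 := Iff.rfl

theorem d_mem {n : ℕ} {c : ∀ s, F.X s} (hc : c ∈ F.C n) : F.d c ∈ F.C (n + 1) := by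
  intro t ht
  rw [d_apply]
  refine sum_eq_zero fun i hi => ?_
  rw [tot_of F (erase_subset i t), hc _ (fun h => ht ?_), map_zero, smul_zero]
  rw [← h, card_erase_add_one hi]

/-- cocycles are coboundaries up to a power of `x` -/
theorem torsion (i : J) (x : R)
    (hker : ∀ t, i ∉ t → ∀ y : F.X t, F.ρ (subset_insert i t) y = 0 → ∃ n : ℕ, x ^ n • y = 0)
    (hsurj : ∀ t, i ∉ t → ∀ z : F.X (insert i t), ∃ (n : ℕ) (y : F.X t), x ^ n • z = F.ρ (subset_insert i t) y)
    {n : ℕ} (c : ∀ s, F.X s) (hcn : c ∈ F.C (n + 1)) (hc : F.d c = 0) :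
    ∃ (m : ℕ), ∃ y ∈ F.C n, x ^ m • c = F.d y := by
  classical
  -- lifts
  have h1 : ∀ t : Finset J, ∃ (n' : ℕ) (y : F.X t), (i ∉ t → x ^ n' • c (insert i t) = F.ρ (subset_insert i t) y) ∧
      (t.card ≠ n → y = 0) := by
    intro t
    by_cases hit : i ∈ t
    · exact ⟨0, 0, fun h => absurd hit h, fun _ => rfl⟩
    · by_cases htn : t.card = n
      · obtain ⟨n', y, hy⟩ := hsurj t hit (c (insert i t))
        exact ⟨n', y, fun _ => hy, fun h => absurd htn h⟩
      · refine ⟨0, 0, fun _ => ?_, fun _ => rfl⟩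
        rw [hcn (insert i t) (by rw [card_insert_of_notMem hit]; omega), smul_zero, map_zero]
  choose e y0 hy0 hy0' using h1
  obtain ⟨m1, hm1⟩ : ∃ m1, ∀ t, e t ≤ m1 := ⟨univ.sup e, fun t => le_sup (f := e) (mem_univ t)⟩
  let y1 : ∀ t, F.X t := fun t => x ^ (m1 - e t) • y0 t
  have hy1 : ∀ t, i ∉ t → x ^ m1 • c (insert i t) = F.ρ (subset_insert i t) (y1 t) := by
    intro t ht
    change _ = F.ρ _ (x ^ (m1 - e t) • y0 t)
    rw [map_smul, ← hy0 t ht, smul_smul, ← pow_add, Nat.sub_add_cancel (hm1 t)]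
  let y2 : ∀ t, F.X t := fun t => if i ∈ t then 0 else sgn i (insert i t) • y1 t
  have hy2n : y2 ∈ F.C n := by
    intro t ht
    change (if i ∈ t then (0 : F.X t) else sgn i (insert i t) • (x ^ (m1 - e t) • y0 t)) = 0
    rw [hy0' t ht, smul_zero, smul_zero, ite_self]
  -- the total function of `y2`
  have htot : ∀ (t w : Finset J) (_ : i ∉ t) (h : t ⊆ w) (h' : insert i t ⊆ w),
      F.tot y2 w t = (sgn i (insert i t)) • (x ^ m1 • F.tot c w (insert i t)) := by
    intro t w hit h h'
    rw [tot_of F h, tot_of F h']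
    change F.ρ h (if i ∈ t then (0 : F.X t) else sgn i (insert i t) • y1 t) = _
    have e1 : F.ρ h' (x ^ m1 • c (insert i t)) = x ^ m1 • F.ρ h' (c (insert i t)) := (F.ρ h').map_smul _ _
    rw [if_neg hit, map_zsmul, ← e1, hy1 t hit, F.comp]
  have htot0 : ∀ (t w : Finset J) (_ : i ∈ t) (_ : t ⊆ w), F.tot y2 w t = 0 := by
    intro t w hit h
    rw [tot_of F h]
    change F.ρ h (if i ∈ t then (0 : F.X t) else sgn i (insert i t) • y1 t) = _
    rw [if_pos hit, map_zero]
  -- the case `i ∈ t`
  have hA : ∀ t, i ∈ t → F.d y2 t = x ^ m1 • c t := by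
    intro t hit
    rw [d_apply, sum_eq_single i]
    · rw [htot (t.erase i) t (notMem_erase i t) (erase_subset i t) (by rw [insert_erase hit]), insert_erase hit,
        tot_self, smul_smul, sgn_mul_self, one_smul]
    · intro j _ hji
      rw [htot0 (t.erase j) t (mem_erase.2 ⟨hji.symm, hit⟩) (erase_subset j t), smul_zero]
    · intro h; exact absurd hit h
  -- the case `i ∉ t`
  have hB : ∀ t, i ∉ t → F.ρ (subset_insert i t) (F.d y2 t - x ^ m1 • c t) = 0 := by
    intro t hit
    have hcoc : ∑ j ∈ insert i t, sgn j (insert i t) • F.tot c (insert i t) ((insert i t).erase j) = 0 := by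
      rw [← d_apply, hc]; rfl
    rw [sum_insert hit, erase_insert hit] at hcoc
    have h3 : F.ρ (subset_insert i t) (F.d y2 t) =
        -(sgn i (insert i t) • x ^ m1 • ∑ j ∈ t, sgn j (insert i t) • F.tot c (insert i t) ((insert i t).erase j)) := by
      rw [ρ_d, smul_sum, smul_sum, ← sum_neg_distrib]
      refine sum_congr rfl fun j hj => ?_
      have hji : j ≠ i := fun h => hit (h ▸ hj)
      have hsub : insert i (t.erase j) = (insert i t).erase j := (erase_insert_of_ne hji.symm).symm
      rw [htot (t.erase j) (insert i t) (fun h => hit (mem_of_mem_erase h))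
        ((erase_subset j t).trans (subset_insert i t)) (insert_subset_insert i (erase_subset j t)), hsub]
      have hs := sgn_swap hji.symm (mem_insert_self i t) (mem_insert_of_mem hj)
      rw [erase_insert hit] at hs
      -- sgn i T * sgn j t = - (sgn j T * sgn i (T.erase j))
      have hs2 : sgn j t * sgn i ((insert i t).erase j) = -(sgn i (insert i t) * sgn j (insert i t)) := by
        have e1 := sgn_mul_self i (insert i t)
        have e2 := sgn_mul_self i ((insert i t).erase j)
        calc sgn j t * sgn i ((insert i t).erase j)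
            = sgn i (insert i t) * (sgn i (insert i t) * sgn j t) * sgn i ((insert i t).erase j) := by
              rw [← mul_assoc, e1, one_mul]
          _ = -(sgn i (insert i t) * sgn j (insert i t) *
                (sgn i ((insert i t).erase j) * sgn i ((insert i t).erase j))) := by rw [hs]; ring
          _ = -(sgn i (insert i t) * sgn j (insert i t)) := by rw [e2, mul_one]
      rw [smul_smul, hs2, neg_smul, mul_smul, smul_comm (x ^ m1) (sgn j (insert i t))]
    have h4 : ∑ j ∈ t, sgn j (insert i t) • F.tot c (insert i t) ((insert i t).erase j) =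
        -(sgn i (insert i t) • F.tot c (insert i t) t) := eq_neg_of_add_eq_zero_right hcoc
    rw [map_sub, h3, h4, map_smul, ← tot_of F (subset_insert i t), smul_neg, smul_neg, neg_neg, smul_comm (x ^ m1),
      smul_smul, sgn_mul_self, one_smul, sub_self]
  have hB' : ∀ t, ∃ n' : ℕ, i ∉ t → x ^ n' • (F.d y2 t - x ^ m1 • c t) = 0 := by
    intro t
    by_cases hit : i ∈ t
    · exact ⟨0, fun h => absurd hit h⟩
    · obtain ⟨n', hn'⟩ := hker t hit _ (hB t hit)
      exact ⟨n', fun _ => hn'⟩
  choose e' he' using hB'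
  obtain ⟨m2, hm2⟩ : ∃ m2, ∀ t, e' t ≤ m2 := ⟨univ.sup e', fun t => le_sup (f := e') (mem_univ t)⟩
  refine ⟨m2 + m1, x ^ m2 • y2, Submodule.smul_mem _ _ hy2n, ?_⟩
  funext t
  rw [map_smul, Pi.smul_apply, Pi.smul_apply, pow_add, mul_smul]
  by_cases hit : i ∈ t
  · rw [hA t hit]
  · have h5 := he' t hit
    rw [smul_sub, sub_eq_zero] at h5
    have e1 : x ^ m2 = x ^ (m2 - e' t) * x ^ (e' t) := by rw [← pow_add, Nat.sub_add_cancel (hm2 t)]
    rw [e1, mul_smul, mul_smul, h5]

end Sys

end K860.FSys
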