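import Groth.Agent.GrLC.K963.Loc
import Groth.Agent.GrSyz.K860.Sys

/-!
# The system of graded localizations `X_s`, `s` a finite set of homogeneous elements
-/

set_option autoImplicit false
set_option linter.unusedVariables false
set_option linter.unusedSectionVars false
universe u

open CategoryTheory CategoryTheory.Limits GrLC K963 K963.Cat K963.Loc
open scoped K963.Cat

namespace K860.GLoc

variable {ι : Type} [AddCommGroup ι] [DecidableEq ι]
variable {R : Type u} [CommRing R] {σ : Type u} [SetLike σ R] [AddSubgroupClass σ R]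
variable {𝒜 : ι → σ} [GradedRing 𝒜]

section Basic

variable {L : Type u} [AddCommGroup L] [Module R L]

theorem pow_bij {x : R} (h : Function.Bijective fun l : L => x • l) (n : ℕ) :
    Function.Bijective fun l : L => x ^ n • l := by
  induction n with
  | zero => simp only [pow_zero, one_smul]; exact Function.bijective_id
  | succ n ih =>
    have e : (fun l : L => x ^ (n + 1) • l) = (fun l => x ^ n • l) ∘ (fun l => x • l) := by
      funext l
      simp only [Function.comp, smul_smul, pow_succ]
    rw [e]
    exact ih.comp h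

theorem unit_of_bij {x : R} (h : Function.Bijective fun l : L => x • l) (z : Submonoid.powers x) :
    IsUnit (algebraMap R (Module.End R L) z) := by
  rw [Module.End.isUnit_iff]
  obtain ⟨_, n, rfl⟩ := z
  exact pow_bij h n

theorem bij_of_mul {x y : R} (h : Function.Bijective fun l : L => (x * y) • l) :
    Function.Bijective fun l : L => x • l := by
  constructor
  · intro a b hab
    apply h.1
    change (x * y) • a = (x * y) • b
    rw [mul_comm, mul_smul, mul_smul]
    exact congrArg (fun l => y • l) hab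
  · intro b
    obtain ⟨a, ha⟩ := h.2 b
    exact ⟨y • a, by rw [← ha]; exact (mul_smul x y a).symm⟩

end Basic

section Lift

variable (X : GMod.{u} 𝒜) {x : R} {d : ι} (hx : x ∈ 𝒜 d)

instance isLoc : IsLocalizedModule (Submonoid.powers x) (lin (toLoc X hx)) where
  map_units z := unit_of_bij (locObj_bijective X hx) z
  surj y := by
    obtain ⟨n, m, h⟩ := toLoc_surj X hx y
    exact ⟨⟨m, ⟨x ^ n, n, rfl⟩⟩, h⟩
  exists_of_eq {m m'} h := by
    have h1 : lin (toLoc X hx) (m - m') = 0 := by rw [map_sub, h, sub_self]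
    obtain ⟨n, hn⟩ := (toLoc_eq_zero_iff X hx _).1 h1
    refine ⟨⟨x ^ n, n, rfl⟩, ?_⟩
    rw [smul_sub, sub_eq_zero] at hn
    exact hn

/-- a homogeneous element of the localization is a homogeneous fraction -/
theorem exists_homog {y : (locObj X hx).carrier} {g : ι} (hy : y ∈ (locObj X hx).gr g) :
    ∃ (n : ℕ) (m : X.carrier), m ∈ X.gr (n • d + g) ∧ x ^ n • y = lin (toLoc X hx) m := by
  obtain ⟨n, m, h⟩ := toLoc_surj X hx y
  refine ⟨n, Dec.proj X.gr (n • d + g) m, Dec.proj_mem _ _ _, ?_⟩
  rw [Cat.map_proj, ← h]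
  have h1 : x ^ n • y ∈ (locObj X hx).gr (n • d + g) :=
    SetLike.GradedSMul.smul_mem (A := 𝒜) (B := (locObj X hx).gr) (SetLike.pow_mem_graded n hx) hy
  exact (Dec.proj_of_mem _ h1).symm

/-- lift of a graded map to the localization, as a linear map -/
noncomputable def liftL {L : Type u} [AddCommGroup L] [Module R L] (f : X.carrier →ₗ[R] L)
    (hL : Function.Bijective fun l : L => x • l) : (locObj X hx).carrier →ₗ[R] L :=
  IsLocalizedModule.lift (Submonoid.powers x) (lin (toLoc X hx)) f (unit_of_bij hL)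

theorem liftL_toLoc {L : Type u} [AddCommGroup L] [Module R L] (f : X.carrier →ₗ[R] L)
    (hL : Function.Bijective fun l : L => x • l) (m : X.carrier) :
    liftL X hx f hL (lin (toLoc X hx) m) = f m :=
  IsLocalizedModule.lift_apply _ _ _ _ _

theorem lift_unique {L : Type u} [AddCommGroup L] [Module R L] {f g : (locObj X hx).carrier →ₗ[R] L}
    (hL : Function.Injective fun l : L => x • l) (h : ∀ m, f (lin (toLoc X hx) m) = g (lin (toLoc X hx) m)) :
    f = g := by
  refine LinearMap.ext fun y => ?_
  obtain ⟨n, m, hm⟩ := toLoc_surj X hx y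
  have hp : ∀ (n : ℕ) (l l' : L), x ^ n • l = x ^ n • l' → l = l' := by
    intro n
    induction n with
    | zero => intro l l' hl; simpa using hl
    | succ n ih =>
      intro l l' hl
      rw [pow_succ', mul_smul, mul_smul] at hl
      exact ih l l' (hL hl)
  apply hp n
  rw [← map_smul, ← map_smul, hm, h]

/-- lift of a graded map to the localization -/
noncomputable def liftG {Y : GMod.{u} 𝒜} (f : X ⟶ Y) (hL : Function.Bijective fun l : Y.carrier => x • l) :
    locObj X hx ⟶ Y :=
  Cat.mk (liftL X hx (lin f) hL) (by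
    intro g y hy
    obtain ⟨n, m, hm, h⟩ := exists_homog X hx hy
    have h1 : x ^ n • liftL X hx (lin f) hL y = lin f m := by
      rw [← map_smul, h, liftL_toLoc]
    refine Dec.mem_of_proj_eq_zero Y.gr fun h' hh' => ?_
    apply (pow_bij hL n).1
    change x ^ n • _ = x ^ n • (0 : Y.carrier)
    rw [smul_zero, Cat.smul_proj_of_mem Y (SetLike.pow_mem_graded n hx), h1]
    refine Dec.proj_of_mem_ne Y.gr (isGrHom f _ m hm) fun e => hh' ?_
    exact (add_left_cancel e).symm)

theorem liftG_toLoc {Y : GMod.{u} 𝒜} (f : X ⟶ Y) (hL : Function.Bijective fun l : Y.carrier => x • l)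
    (m : X.carrier) : lin (liftG X hx f hL) (lin (toLoc X hx) m) = lin f m := liftL_toLoc X hx (lin f) hL m

end Lift

section System

variable {J : Type} (x : J → R) {δ : J → ι} (hx : ∀ j, x j ∈ 𝒜 (δ j)) (X : GMod.{u} 𝒜)

/-- the product of the elements of `s` -/
def xs (s : Finset J) : R := ∏ j ∈ s, x j

include hx in
theorem xs_mem (s : Finset J) : xs x s ∈ 𝒜 (∑ j ∈ s, δ j) := SetLike.prod_mem_graded 𝒜 _ _ fun j _ => hx j

theorem xs_insert [DecidableEq J] {i : J} {t : Finset J} (h : i ∉ t) : xs x (insert i t) = x i * xs x t :=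
  Finset.prod_insert h

theorem bij_of_subset {L : Type u} [AddCommGroup L] [Module R L] {s t : Finset J} (h : s ⊆ t)
    (hL : Function.Bijective fun l : L => xs x t • l) : Function.Bijective fun l : L => xs x s • l := by
  classical
  have e : xs x t = xs x s * xs x (t \ s) := by
    rw [xs, xs, xs, mul_comm, Finset.prod_sdiff h]
  rw [e] at hL
  exact bij_of_mul hL

/-- the localization at the product of `s` -/
noncomputable def XO (s : Finset J) : GMod.{u} 𝒜 := locObj X (xs_mem x hx s)

theorem XO_bij {s t : Finset J} (h : s ⊆ t) : Function.Bijective fun l : (XO x hx X t).carrier => xs x s • l :=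
  bij_of_subset x h (locObj_bijective X (xs_mem x hx t))

theorem XO_bij_mem {i : J} {t : Finset J} (h : i ∈ t) :
    Function.Bijective fun l : (XO x hx X t).carrier => x i • l := by
  have := XO_bij x hx X (Finset.singleton_subset_iff.2 h)
  simpa [xs] using this

/-- the localization map -/
noncomputable def tl (s : Finset J) : X ⟶ XO x hx X s := toLoc X (xs_mem x hx s)

/-- the restriction maps -/
noncomputable def rr {s t : Finset J} (h : s ⊆ t) : XO x hx X s ⟶ XO x hx X t :=
  liftG X (xs_mem x hx s) (tl x hx X t) (XO_bij x hx X h)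

theorem rr_tl {s t : Finset J} (h : s ⊆ t) (m : X.carrier) :
    lin (rr x hx X h) (lin (tl x hx X s) m) = lin (tl x hx X t) m := liftG_toLoc _ _ _ _ _

theorem hom_unique {s : Finset J} {L : Type u} [AddCommGroup L] [Module R L]
    {f g : (XO x hx X s).carrier →ₗ[R] L}
    (hL : Function.Injective fun l : L => xs x s • l) (h : ∀ m, f (lin (tl x hx X s) m) = g (lin (tl x hx X s) m)) :
    f = g := lift_unique X (xs_mem x hx s) hL h

/-- the system of localizations -/
noncomputable def sys : FSys.Sys.{u, u} R J where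
  X s := (XO x hx X s).carrier
  ρ h := lin (rr x hx X h)
  comp {s t w} h h' y := by
    have e : lin (rr x hx X h') ∘ₗ lin (rr x hx X h) = lin (rr x hx X (h.trans h')) := by
      refine hom_unique x hx X (XO_bij x hx X (h.trans h')).1 fun m => ?_
      rw [LinearMap.comp_apply, rr_tl, rr_tl, rr_tl]
    exact LinearMap.congr_fun e y
  refl {s} y := by
    have e : lin (rr x hx X (Finset.Subset.refl s)) = LinearMap.id := by
      refine hom_unique x hx X (XO_bij x hx X (Finset.Subset.refl s)).1 fun m => ?_
      rw [rr_tl]; rfl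
    exact LinearMap.congr_fun e y

theorem exists_frac (s : Finset J) (y : (XO x hx X s).carrier) :
    ∃ (n : ℕ) (m : X.carrier), xs x s ^ n • y = lin (tl x hx X s) m := toLoc_surj X (xs_mem x hx s) y

theorem exists_frac_homog {s : Finset J} {y : (XO x hx X s).carrier} {g : ι} (hy : y ∈ (XO x hx X s).gr g) :
    ∃ (n : ℕ) (m : X.carrier), m ∈ X.gr (n • (∑ j ∈ s, δ j) + g) ∧ xs x s ^ n • y = lin (tl x hx X s) m :=
  exists_homog X (xs_mem x hx s) hy

theorem tl_eq_zero_iff (s : Finset J) (m : X.carrier) :
    lin (tl x hx X s) m = 0 ↔ ∃ n : ℕ, xs x s ^ n • m = 0 := toLoc_eq_zero_iff X (xs_mem x hx s) m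

theorem sys_ker [DecidableEq J] {i : J} {t : Finset J} (hi : i ∉ t) (y : (XO x hx X t).carrier)
    (h : lin (rr x hx X (Finset.subset_insert i t)) y = 0) : ∃ n : ℕ, x i ^ n • y = 0 := by
  obtain ⟨n0, m, hm⟩ := exists_frac x hx X t y
  have h1 : lin (tl x hx X (insert i t)) m = 0 := by
    rw [← rr_tl x hx X (Finset.subset_insert i t), ← hm, map_smul, h, smul_zero]
  obtain ⟨n1, hn1⟩ := (tl_eq_zero_iff x hx X _ m).1 h1
  refine ⟨n1, ?_⟩
  apply (pow_bij (XO_bij x hx X (Finset.Subset.refl t)) (n1 + n0)).1
  change xs x t ^ (n1 + n0) • x i ^ n1 • y = xs x t ^ (n1 + n0) • (0 : (XO x hx X t).carrier)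
  have e : xs x t ^ (n1 + n0) • x i ^ n1 • y = (xs x (insert i t)) ^ n1 • (xs x t ^ n0 • y) := by
    rw [smul_smul, smul_smul, xs_insert x hi]
    congr 1; ring
  rw [e, hm, ← map_smul, hn1, map_zero, smul_zero]

theorem sys_surj [DecidableEq J] {i : J} {t : Finset J} (hi : i ∉ t) (z : (XO x hx X (insert i t)).carrier) :
    ∃ (n : ℕ) (y : (XO x hx X t).carrier), x i ^ n • z = lin (rr x hx X (Finset.subset_insert i t)) y := by
  obtain ⟨n, m, hm⟩ := exists_frac x hx X (insert i t) z
  obtain ⟨y, hy⟩ := (pow_bij (XO_bij x hx X (Finset.Subset.refl t)) n).2 (lin (tl x hx X t) m)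
  refine ⟨n, y, ?_⟩
  apply (pow_bij (XO_bij x hx X (Finset.subset_insert i t)) n).1
  change xs x t ^ n • x i ^ n • z = xs x t ^ n • _
  have hy' : xs x t ^ n • y = lin (tl x hx X t) m := hy
  rw [← map_smul, hy', rr_tl, ← hm, smul_smul, xs_insert x hi]
  congr 1; ring

end System

end K860.GLoc
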