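import Groth.Agent.GrSyz.K860.Hilb
import Mathlib.LinearAlgebra.Matrix.ToLinearEquiv
import Mathlib.Algebra.MvPolynomial.Degrees
import Mathlib.Tactic.Linarith

/-!
# Degrees in a Hilbert–Burch resolution
-/

set_option autoImplicit false
set_option linter.unusedSectionVars false
universe u v w

open GrSyz MvPolynomial

namespace K860.HBurch

open Kos _root_.K860.Comp Basic KosPoly Betti Hilb

/-- a bounded quadratic function is constant -/
theorem quad_bounded {α β γ C d₀ : ℤ} (h : ∀ d, d₀ ≤ d → 0 ≤ α * d ^ 2 + β * d + γ ∧ α * d ^ 2 + β * d + γ ≤ C) :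
    α = 0 ∧ β = 0 := by
  have hC : 0 ≤ C := (h d₀ le_rfl).1.trans (h d₀ le_rfl).2
  have hα : α = 0 := by
    by_contra hα
    have h1 := h d₀ le_rfl
    have h2 := h (d₀ + (C + 1)) (by omega)
    have h3 := h (d₀ + 2 * (C + 1)) (by omega)
    have h4 : 2 * (α * (C + 1) ^ 2) = (α * (d₀ + 2 * (C + 1)) ^ 2 + β * (d₀ + 2 * (C + 1)) + γ) -
      2 * (α * (d₀ + (C + 1)) ^ 2 + β * (d₀ + (C + 1)) + γ) + (α * d₀ ^ 2 + β * d₀ + γ) := by ring
    have h5 : 2 * (α * (C + 1) ^ 2) ≤ 2 * C := by linarith [h1.2, h2.1, h3.2]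
    have h6 : -(2 * C) ≤ 2 * (α * (C + 1) ^ 2) := by linarith [h1.1, h2.2, h3.1]
    rcases lt_or_gt_of_ne hα with h7 | h7
    · have : α ≤ -1 := by omega
      nlinarith [sq_nonneg (C + 1)]
    · have : 1 ≤ α := by omega
      nlinarith [sq_nonneg (C + 1)]
  subst hα
  refine ⟨rfl, ?_⟩
  by_contra hβ
  have h1 := h d₀ le_rfl
  have h2 := h (d₀ + (C + 1)) (by omega)
  rcases lt_or_gt_of_ne hβ with h7 | h7
  · have : β ≤ -1 := by omega
    nlinarith
  · have : 1 ≤ β := by omega
    nlinarith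

theorem two_mul_choose {a d : ℤ} (h : a ≤ d) :
    2 * ((Nat.choose (2 + (d - a).toNat) 2 : ℕ) : ℤ) = (d - a + 2) * (d - a + 1) := by
  obtain ⟨n, hn⟩ := Int.eq_ofNat_of_zero_le (sub_nonneg.2 h)
  rw [hn, Int.toNat_natCast]
  have h1 : 2 * Nat.choose (2 + n) 2 = (n + 2) * (n + 1) := by
    rw [Nat.choose_two_right, show 2 + n - 1 = n + 1 by omega]
    rw [Nat.mul_div_cancel']
    · ring
    · rw [show 2 + n = n + 1 + 1 by ring, mul_comm]
      exact (Nat.even_mul_succ_self (n + 1)).two_dvd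
  exact_mod_cast h1

section

variable {k : Type u} [Field k] {r : ℕ}
  {M : Type u} [AddCommGroup M] [Module k M] [Module (MvPolynomial (Fin (r + 1)) k) M]
  [IsScalarTower k (MvPolynomial (Fin (r + 1)) k) M]
  {ℳ : ℤ → Submodule k M} [DirectSum.Decomposition ℳ] [SetLike.GradedSMul (stdGr k (Fin (r + 1))) ℳ]

/-- twice the Hilbert function, for `r = 2` and large degrees, as a quadratic function -/
theorem sum_choose_two {ι : Type*} [Fintype ι] (e : ι → ℤ) {d : ℤ} (hd : ∀ b, e b ≤ d) :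
    2 * ∑ b, (if e b ≤ d then ((Nat.choose (2 + (d - e b).toNat) 2 : ℕ) : ℤ) else 0) =
      (Fintype.card ι : ℤ) * d ^ 2 + (3 * (Fintype.card ι : ℤ) - 2 * ∑ b, e b) * d +
        ∑ b, (e b ^ 2 - 3 * e b + 2) := by
  rw [Finset.mul_sum]
  have h1 : ∀ b ∈ Finset.univ, 2 * (if e b ≤ d then ((Nat.choose (2 + (d - e b).toNat) 2 : ℕ) : ℤ) else 0) =
      d ^ 2 + (3 - 2 * e b) * d + (e b ^ 2 - 3 * e b + 2) := by
    intro b _
    rw [if_pos (hd b), two_mul_choose (hd b)]
    ring
  rw [Finset.sum_congr rfl h1, Finset.sum_add_distrib, Finset.sum_add_distrib, Finset.sum_const,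
    ← Finset.sum_mul, Finset.sum_sub_distrib, Finset.sum_const, ← Finset.mul_sum, Finset.card_univ]
  simp only [nsmul_eq_mul]
  ring

variable (F : FreeRes (stdGr k (Fin (r + 1))) ℳ)

/-- in a minimal resolution the columns of the first matrix do not vanish -/
theorem exists_ne_zero (hF : F.IsMinimal (irrel (stdGr k (Fin (r + 1)))).toIdeal) (l : Fin (F.rk 1)) :
    ∃ a, F.d 0 a l ≠ 0 := by
  classical
  by_contra h
  push Not at h
  have h1 : (Pi.single l 1 : Fin (F.rk 1) → MvPolynomial (Fin (r + 1)) k) ∈ syz F 1 := by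
    rw [mem_syz_succ]
    funext a
    rw [Matrix.mulVecLin_apply, Matrix.mulVec_single_one]
    exact h a
  have h2 := (mem_irrel_iff _).1 (mem_of_isMinimal F hF h1 l)
  rw [Pi.single_eq_same, map_one] at h2
  exact one_ne_zero h2

/-- the block argument -/
theorem lt_deg (hF : F.IsMinimal (irrel (stdGr k (Fin (r + 1)))).toIdeal) (hlen : F.HasLengthLE 2)
    (t : ℕ) (h1 : F.rk 1 = t + 1) (h2 : F.rk 2 = t)
    (ha : ∀ i j : Fin (t + 1), i ≤ j → F.deg 1 (Fin.cast h1.symm j) ≤ F.deg 1 (Fin.cast h1.symm i))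
    (hb : ∀ i j : Fin t, i ≤ j → F.deg 2 (Fin.cast h2.symm j) ≤ F.deg 2 (Fin.cast h2.symm i)) (i : Fin t) :
    F.deg 1 (Fin.cast h1.symm i.castSucc) < F.deg 2 (Fin.cast h2.symm i) := by
  classical
  by_contra hi
  push Not at hi
  -- vanishing of the entries
  have hz : ∀ (l : Fin (t + 1)) (j : Fin t), l ≤ i.castSucc → i ≤ j →
      F.d 1 (Fin.cast h1.symm l) (Fin.cast h2.symm j) = 0 := by
    intro l j hl hj
    refine eq_zero_of_mem_irrel ?_ (F.d_mem 1 _ _) (hF 1 _ _)
    have e1 := ha _ _ hl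
    have e2 := hb _ _ hj
    change F.deg 2 _ - F.deg 1 _ ≤ 0
    omega
  -- injectivity
  have hinj : ∀ w : Fin (F.rk 2) → MvPolynomial (Fin (r + 1)) k, (F.d 1).mulVec w = 0 → w = 0 := by
    intro w hw
    obtain ⟨v, rfl⟩ := (mem_syz_succ F (v := w)).2 hw
    have : v = 0 := by
      funext b
      exact (Fin.cast (hlen 3 (by omega)) b).elim0
    rw [this, map_zero]
  -- sums over rows
  have hsum : ∀ f : Fin (F.rk 1) → MvPolynomial (Fin (r + 1)) k,
      (∀ l : Fin (t + 1), l ≤ i.castSucc → f (Fin.cast h1.symm l) = 0) →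
      ∑ l, f l = ∑ j : {j : Fin t // i ≤ j}, f (Fin.cast h1.symm j.1.succ) := by
    intro f hf
    rw [← Equiv.sum_comp (finCongr h1.symm) f, Fin.sum_univ_succ]
    change f (Fin.cast h1.symm 0) + ∑ j : Fin t, f (Fin.cast h1.symm j.succ) = _
    rw [hf 0 (Fin.zero_le _), zero_add]
    have e : ∑ j : Fin t, f (Fin.cast h1.symm j.succ) =
        ∑ j ∈ Finset.univ.filter (fun j : Fin t => i ≤ j), f (Fin.cast h1.symm j.succ) := by
      rw [Finset.sum_filter]
      refine Finset.sum_congr rfl fun j _ => ?_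
      split_ifs with h
      · rfl
      · exact hf _ (by
          rw [Fin.le_def]
          have : j.1 < i.1 := by simpa using h
          simpa using this)
    rw [e]
    exact Finset.sum_subtype (Finset.univ.filter (fun j : Fin t => i ≤ j)) (by simp)
      (fun j => f (Fin.cast h1.symm j.succ))
  let B : Matrix {j : Fin t // i ≤ j} {j : Fin t // i ≤ j} (MvPolynomial (Fin (r + 1)) k) :=
    fun j' j => F.d 1 (Fin.cast h1.symm j'.1.succ) (Fin.cast h2.symm j.1)
  have hdet : B.det ≠ 0 := by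
    intro hB
    obtain ⟨v, hv, hBv⟩ := Matrix.exists_mulVec_eq_zero_iff.2 hB
    let w' : Fin t → MvPolynomial (Fin (r + 1)) k := fun j => if h : i ≤ j then v ⟨j, h⟩ else 0
    let w : Fin (F.rk 2) → MvPolynomial (Fin (r + 1)) k := fun j => w' (Fin.cast h2 j)
    have hrow : ∀ l : Fin (t + 1), (F.d 1).mulVec w (Fin.cast h1.symm l) =
        ∑ j : {j : Fin t // i ≤ j}, F.d 1 (Fin.cast h1.symm l) (Fin.cast h2.symm j.1) * v j := by
      intro l
      rw [Matrix.mulVec, dotProduct, ← Equiv.sum_comp (finCongr h2.symm)]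
      have e : ∀ j : Fin t, F.d 1 (Fin.cast h1.symm l) (finCongr h2.symm j) * w (finCongr h2.symm j) =
          if i ≤ j then F.d 1 (Fin.cast h1.symm l) (Fin.cast h2.symm j) * w' j else 0 := by
        intro j
        change F.d 1 (Fin.cast h1.symm l) (Fin.cast h2.symm j) * w' j = _
        split_ifs with h
        · rfl
        · have : w' j = 0 := dif_neg h
          rw [this, mul_zero]
      rw [Finset.sum_congr rfl fun j _ => e j, ← Finset.sum_filter]
      rw [Finset.sum_subtype (Finset.univ.filter (fun j : Fin t => i ≤ j)) (p := fun j => i ≤ j) (by simp)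
        (fun j => F.d 1 (Fin.cast h1.symm l) (Fin.cast h2.symm j) * w' j)]
      refine Finset.sum_congr rfl fun j _ => ?_
      have : w' j.1 = v j := dif_pos j.2
      rw [this]
    have hw : (F.d 1).mulVec w = 0 := by
      funext l
      obtain ⟨l, rfl⟩ : ∃ l', Fin.cast h1.symm l' = l := ⟨Fin.cast h1 l, rfl⟩
      rw [hrow l, Pi.zero_apply]
      by_cases hl : l ≤ i.castSucc
      · exact Finset.sum_eq_zero fun j _ => by rw [hz l j.1 hl j.2, zero_mul]
      · push Not at hl
        obtain ⟨j', rfl⟩ : ∃ j' : Fin t, j'.succ = l := Fin.exists_succ_eq.2 (by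
          rintro rfl
          exact absurd hl (by simp))
        have hj' : i ≤ j' := by
          rw [Fin.lt_def] at hl
          rw [Fin.le_def]
          simp at hl
          omega
        exact congrFun hBv ⟨j', hj'⟩
    refine hv (funext fun j => ?_)
    have h3 := congrFun (hinj w hw) (Fin.cast h2.symm j.1)
    change w' j.1 = 0 at h3
    have : w' j.1 = v j := dif_pos j.2
    rw [← this, h3]
    rfl
  -- the last generator vanishes
  have hlast : ∀ a, F.d 0 a (Fin.cast h1.symm (Fin.last t)) = 0 := by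
    intro a
    let u : {j : Fin t // i ≤ j} → MvPolynomial (Fin (r + 1)) k := fun j' => F.d 0 a (Fin.cast h1.symm j'.1.succ)
    have hu : Matrix.vecMul u B = 0 := by
      funext j
      have h3 := congrFun (dLin_dLin F 0 (Pi.single (Fin.cast h2.symm j.1) 1)) a
      rw [Matrix.mulVecLin_apply, Matrix.mulVecLin_apply, Matrix.mulVec_single_one, Matrix.mulVec,
        dotProduct, Pi.zero_apply] at h3
      change ∑ l, F.d 0 a l * F.d 1 l (Fin.cast h2.symm j.1) = 0 at h3
      rw [hsum _ fun l hl => by rw [hz l j.1 hl j.2, mul_zero]] at h3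
      exact h3
    have hu0 : u = 0 := by
      by_contra hu0
      exact hdet (Matrix.exists_vecMul_eq_zero_iff.1 ⟨u, hu0, hu⟩)
    have ht : 0 < t := Nat.pos_of_ne_zero (by rintro rfl; exact i.elim0)
    have h4 := congrFun hu0 ⟨⟨t - 1, by omega⟩, by rw [Fin.le_def]; have := i.2; dsimp only; omega⟩
    change F.d 0 a (Fin.cast h1.symm (Fin.succ ⟨t - 1, _⟩)) = 0 at h4
    have h5 : Fin.succ (⟨t - 1, by omega⟩ : Fin t) = Fin.last t := by
      ext
      simp
      omega
    rwa [h5] at h4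
  obtain ⟨a, h3⟩ := exists_ne_zero F hF (Fin.cast h1.symm (Fin.last t))
  exact h3 (hlast a)

end

end K860.HBurch
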