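import Groth.Agent.GrSyz.K860.Betti
import Mathlib.LinearAlgebra.FiniteDimensional.Lemmas
import Mathlib.LinearAlgebra.Dimension.RankNullity

/-!
# The Hilbert function of a module with a finite graded free resolution

* `MSES.finrank_add`: additivity of dimensions of pieces;
* `finrank_fp`: the dimension of the pieces of a graded free module;
* `finrank_piece_eq` : `dim M_d = ∑_i (-1)^i dim (F_i)_d`;
* `finrank_piece_eq_choose` : the formula with binomial coefficients over a polynomial ring.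
-/

set_option autoImplicit false
set_option linter.unusedSectionVars false
universe u v w

open GrSyz MvPolynomial

namespace K860.Hilb

open Kos _root_.K860.Comp Basic KosPoly Betti

section Add

variable {k : Type u} [Field k] {S : Type*} [CommRing S] [Algebra k S]
  {M' : Type*} [AddCommGroup M'] [Module k M'] [Module S M'] [IsScalarTower k S M']
  {M : Type*} [AddCommGroup M] [Module k M] [Module S M] [IsScalarTower k S M]
  {M'' : Type*} [AddCommGroup M''] [Module k M''] [Module S M''] [IsScalarTower k S M'']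
  {ℳ' : ℤ → Submodule k M'} {ℳ : ℤ → Submodule k M} {ℳ'' : ℤ → Submodule k M''}
  {φ : M' →ₗ[S] M} {ψ : M →ₗ[S] M''}

theorem finrank_add (T : MSES ℳ' ℳ ℳ'' φ ψ) (d : ℤ) [Module.Finite k ↥(ℳ d)] :
    Module.finrank k ↥(ℳ'' d) + Module.finrank k ↥(ℳ' d) = Module.finrank k ↥(ℳ d) := by
  let g : ↥(ℳ d) →ₗ[k] ↥(ℳ'' d) := ((ψ.restrictScalars k) ∘ₗ (ℳ d).subtype).codRestrict _
    fun m => T.ψ_mem _ _ m.2
  let f : ↥(ℳ' d) →ₗ[k] ↥(ℳ d) := ((φ.restrictScalars k) ∘ₗ (ℳ' d).subtype).codRestrict _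
    fun m => T.φ_mem _ _ m.2
  have hg : LinearMap.range g = ⊤ := by
    rw [LinearMap.range_eq_top]
    rintro ⟨z, hz⟩
    obtain ⟨y, hy, e⟩ := T.surj _ _ hz
    exact ⟨⟨y, hy⟩, Subtype.ext e⟩
  have hf : Function.Injective f := by
    rw [← LinearMap.ker_eq_bot, LinearMap.ker_eq_bot']
    rintro ⟨z, hz⟩ h
    exact Subtype.ext (T.inj _ _ hz (Subtype.ext_iff.1 h))
  have hfg : LinearMap.ker g = LinearMap.range f := by
    ext ⟨z, hz⟩
    rw [LinearMap.mem_ker, LinearMap.mem_range]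
    constructor
    · intro h
      obtain ⟨z', hz', e⟩ := T.exact _ _ hz (Subtype.ext_iff.1 h)
      exact ⟨⟨z', hz'⟩, Subtype.ext e⟩
    · rintro ⟨⟨z', hz'⟩, e⟩
      refine Subtype.ext ?_
      have e' : φ z' = z := Subtype.ext_iff.1 e
      change ψ z = 0
      rw [← e', T.zero]
  have := LinearMap.finrank_range_add_finrank_ker g
  rw [hg, finrank_top, hfg, LinearMap.finrank_range_of_inj hf] at this
  exact this

theorem finite_right (T : MSES ℳ' ℳ ℳ'' φ ψ) (d : ℤ) [Module.Finite k ↥(ℳ d)] : Module.Finite k ↥(ℳ'' d) := by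
  let g : ↥(ℳ d) →ₗ[k] ↥(ℳ'' d) := ((ψ.restrictScalars k) ∘ₗ (ℳ d).subtype).codRestrict _
    fun m => T.ψ_mem _ _ m.2
  refine Module.Finite.of_surjective g ?_
  rintro ⟨z, hz⟩
  obtain ⟨y, hy, e⟩ := T.surj _ _ hz
  exact ⟨⟨y, hy⟩, Subtype.ext e⟩

end Add

section Fp

variable {k : Type u} [Field k] {R : Type v} [CommRing R] [Algebra k R] (𝒜 : ℤ → Submodule k R)

/-- the pieces of a free module as a product -/
def fpEquiv {ι : Type*} (e : ι → ℤ) (j : ℤ) : ↥(fp 𝒜 e j) ≃ₗ[k] (∀ b, ↥(𝒜 (j - e b))) where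
  toFun v b := ⟨v.1 b, v.2 b⟩
  invFun v := ⟨fun b => (v b).1, fun b => (v b).2⟩
  map_add' _ _ := rfl
  map_smul' _ _ := rfl
  left_inv _ := rfl
  right_inv _ := rfl

theorem finrank_fp {ι : Type*} [Fintype ι] (e : ι → ℤ) (j : ℤ) [∀ d, Module.Finite k ↥(𝒜 d)] :
    Module.finrank k ↥(fp 𝒜 e j) = ∑ b, Module.finrank k ↥(𝒜 (j - e b)) := by
  rw [(fpEquiv 𝒜 e j).finrank_eq, Module.finrank_pi_fintype]

theorem finite_fp {ι : Type*} [Finite ι] (e : ι → ℤ) (j : ℤ) [∀ d, Module.Finite k ↥(𝒜 d)] :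
    Module.Finite k ↥(fp 𝒜 e j) := Module.Finite.equiv (fpEquiv 𝒜 e j).symm

end Fp

section Res

variable {k : Type u} [Field k] {R : Type u} [CommRing R] [Algebra k R] {𝒜 : ℤ → Submodule k R} [GradedAlgebra 𝒜]
  {M : Type u} [AddCommGroup M] [Module k M] [Module R M] [IsScalarTower k R M]
  {ℳ : ℤ → Submodule k M} [DirectSum.Decomposition ℳ] [SetLike.GradedSMul 𝒜 ℳ] (F : FreeRes 𝒜 ℳ)

include F in
theorem finite_piece [∀ d, Module.Finite k ↥(𝒜 d)] (d : ℤ) : Module.Finite k ↥(ℳ d) := by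
  have := finite_fp 𝒜 (F.deg 0) d
  exact finite_right (mses_zero F) d

theorem syz_sum [∀ d, Module.Finite k ↥(𝒜 d)] (d : ℤ) : ∀ (m p : ℕ) (_ : F.HasLengthLE (p + m)),
    (Module.finrank k ↥(sp F p d) : ℤ) =
      ∑ i ∈ Finset.range m, (-1 : ℤ) ^ i * (Module.finrank k ↥(fp 𝒜 (F.deg (p + 1 + i)) d) : ℤ)
  | 0, p, hF => by
    rw [Finset.range_zero, Finset.sum_empty, Nat.cast_eq_zero]
    have h0 : F.rk (p + 1) = 0 := hF _ (by omega)
    have : Subsingleton ↥(sp F p d) := by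
      refine ⟨fun a b => ?_⟩
      have h : ∀ c : ↥(sp F p d), c = 0 := by
        rintro ⟨⟨c, w, rfl⟩, hc⟩
        have : w = 0 := by
          funext b
          exact (Fin.cast h0 b).elim0
        refine Subtype.ext (Subtype.ext ?_)
        change F.dLin p w = 0
        rw [this, map_zero]
      rw [h a, h b]
    exact Module.finrank_zero_of_subsingleton
  | m + 1, p, hF => by
    have := finite_fp 𝒜 (F.deg (p + 1)) d
    have h1 := finrank_add (mses_succ F p) d
    have h2 := syz_sum d m (p + 1) (by rwa [show p + 1 + m = p + (m + 1) by ring])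
    rw [Finset.sum_range_succ', pow_zero, one_mul, add_zero, ← h1]
    push_cast
    have h3 : ∑ i ∈ Finset.range m, (-1 : ℤ) ^ (i + 1) *
        (Module.finrank k ↥(fp 𝒜 (F.deg (p + 1 + (i + 1))) d) : ℤ) =
        -(Module.finrank k ↥(sp F (p + 1) d) : ℤ) := by
      rw [h2, ← Finset.sum_neg_distrib]
      refine Finset.sum_congr rfl fun i _ => ?_
      rw [pow_succ, show p + 1 + (i + 1) = p + 1 + 1 + i by ring]
      ring
    rw [h3]
    ring

theorem finrank_piece_eq [∀ d, Module.Finite k ↥(𝒜 d)] (m : ℕ) (hF : F.HasLengthLE m) (d : ℤ) :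
    (Module.finrank k ↥(ℳ d) : ℤ) =
      ∑ i ∈ Finset.range (m + 1), (-1 : ℤ) ^ i * (Module.finrank k ↥(fp 𝒜 (F.deg i) d) : ℤ) := by
  have := finite_fp 𝒜 (F.deg 0) d
  have h1 := finrank_add (mses_zero F) d
  have h2 := syz_sum F d m 0 (by rwa [zero_add])
  rw [Finset.sum_range_succ', pow_zero, one_mul, ← h1]
  push_cast
  have h3 : ∑ i ∈ Finset.range m, (-1 : ℤ) ^ (i + 1) *
      (Module.finrank k ↥(fp 𝒜 (F.deg (i + 1)) d) : ℤ) =
      -(Module.finrank k ↥(sp F 0 d) : ℤ) := by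
    rw [h2, ← Finset.sum_neg_distrib]
    refine Finset.sum_congr rfl fun i _ => ?_
    rw [pow_succ, show 0 + 1 + i = i + 1 by ring]
    ring
  rw [h3]
  ring

end Res

section Poly

variable {k : Type u} [Field k] {r : ℕ}
  {M : Type u} [AddCommGroup M] [Module k M] [Module (MvPolynomial (Fin (r + 1)) k) M]
  [IsScalarTower k (MvPolynomial (Fin (r + 1)) k) M]
  {ℳ : ℤ → Submodule k M} [DirectSum.Decomposition ℳ] [SetLike.GradedSMul (stdGr k (Fin (r + 1))) ℳ]
  (F : FreeRes (stdGr k (Fin (r + 1))) ℳ)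

theorem finrank_fr {ι : Type*} [Fintype ι] (e : ι → ℤ) (d : ℤ) :
    (Module.finrank k ↥(fp (stdGr k (Fin (r + 1))) e d) : ℤ) =
      ∑ b, (if e b ≤ d then ((Nat.choose (r + (d - e b).toNat) r : ℕ) : ℤ) else 0) := by
  have := fun d => finite_stdGr k (r + 1) d
  rw [finrank_fp, Nat.cast_sum]
  refine Finset.sum_congr rfl fun b _ => ?_
  rw [finrank_stdGr]
  simp only [sub_nonneg]

/-- the Hilbert function of a module with a finite graded free resolution -/
theorem finrank_piece_eq_choose (m : ℕ) (hF : F.HasLengthLE m) (d : ℤ) :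
    (Module.finrank k ↥(ℳ d) : ℤ) =
      ∑ i ∈ Finset.range (m + 1), (-1 : ℤ) ^ i * ∑ b : Fin (F.rk i),
        (if F.deg i b ≤ d then ((Nat.choose (r + (d - F.deg i b).toNat) r : ℕ) : ℤ) else 0) := by
  have := fun d => finite_stdGr k (r + 1) d
  rw [finrank_piece_eq F m hF d]
  exact Finset.sum_congr rfl fun i _ => by rw [finrank_fr]

/-- sums over the basis vectors are sums over the degrees, weighted by the Betti numbers -/
theorem sum_deg_eq (i : ℕ) (J : Finset ℤ) (hJ : ∀ b : Fin (F.rk i), F.deg i b ∈ J) (f : ℤ → ℤ) :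
    ∑ b : Fin (F.rk i), f (F.deg i b) = ∑ j ∈ J, (F.betti i j : ℤ) * f j := by
  rw [← Finset.sum_fiberwise_of_maps_to (s := Finset.univ) (t := J) (g := fun b => F.deg i b)
    (fun b _ => hJ b)]
  refine Finset.sum_congr rfl fun j _ => ?_
  rw [Finset.sum_congr rfl (g := fun _ => f j) (fun b hb => by rw [(Finset.mem_filter.1 hb).2]),
    Finset.sum_const, nsmul_eq_mul]
  rfl

/-- a finite set containing all the degrees of the first terms -/
theorem exists_degs (m : ℕ) : ∃ J : Finset ℤ, ∀ i ≤ m, ∀ b : Fin (F.rk i), F.deg i b ∈ J := by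
  classical
  refine ⟨(Finset.range (m + 1)).biUnion fun i => Finset.univ.image (F.deg i), fun i hi b => ?_⟩
  rw [Finset.mem_biUnion]
  exact ⟨i, Finset.mem_range.2 (by omega), Finset.mem_image_of_mem _ (Finset.mem_univ b)⟩

theorem betti_eq_zero_of_notMem {m : ℕ} {J : Finset ℤ} (hJ : ∀ i ≤ m, ∀ b : Fin (F.rk i), F.deg i b ∈ J)
    {i : ℕ} (hi : i ≤ m) {j : ℤ} (hj : j ∉ J) : F.betti i j = 0 := by
  by_contra h
  obtain ⟨b, rfl⟩ := (betti_ne_zero_iff F i j).1 h
  exact hj (hJ i hi b)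

theorem finrank_piece_eq_sum_betti (m : ℕ) (hF : F.HasLengthLE m) (J : Finset ℤ)
    (hJ : ∀ i ≤ m, ∀ b : Fin (F.rk i), F.deg i b ∈ J) (d : ℤ) :
    (Module.finrank k ↥(ℳ d) : ℤ) =
      ∑ j ∈ J, (∑ i ∈ Finset.range (m + 1), (-1 : ℤ) ^ i * (F.betti i j : ℤ)) *
        (if j ≤ d then ((Nat.choose (r + (d - j).toNat) r : ℕ) : ℤ) else 0) := by
  rw [finrank_piece_eq_choose F m hF d]
  simp_rw [Finset.sum_mul]
  rw [Finset.sum_comm]
  refine Finset.sum_congr rfl fun i hi => ?_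
  rw [sum_deg_eq F i J (hJ i (by simpa [Nat.lt_succ_iff] using Finset.mem_range.1 hi))
    (fun j => if j ≤ d then ((Nat.choose (r + (d - j).toNat) r : ℕ) : ℤ) else 0), Finset.mul_sum]
  exact Finset.sum_congr rfl fun j _ => by ring

end Poly

end K860.Hilb
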