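import Mathlib.Algebra.Module.Submodule.Map
import Mathlib.Algebra.Module.Submodule.Ker
import Mathlib.Algebra.Module.Submodule.Range
import Mathlib.LinearAlgebra.Prod
import Mathlib.Algebra.Algebra.Tower
import Mathlib.LinearAlgebra.Quotient.Basic
import Mathlib.Tactic.Abel
import Mathlib.Tactic.Linarith

/-!
# Bigraded complexes in elementary form, and iterated cones (Koszul complexes)

`DC k S` : an `S`-module `C` with an endomorphism `D` and a family of pieces `P i j` (homological degree `i`, internal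
degree `j`), `k`-submodules of `C`.  No decomposition is required, so that the constant family is allowed.
`cone E x` : the cone of multiplication by `x` (an element of degree one).
`kos x ℳ s` : the Koszul complex of `x 0, …, x (s - 1)` on a module `M` with pieces `ℳ`.
-/

set_option autoImplicit false
universe u v w

namespace K860.Kos

variable (k : Type u) (S : Type w) [CommRing k] [CommRing S] [Algebra k S]

/-- an elementary bigraded complex -/
structure DC where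
  C : Type v
  [acg : AddCommGroup C]
  [modS : Module S C]
  [modk : Module k C]
  [tower : IsScalarTower k S C]
  D : C →ₗ[S] C
  P : ℤ → ℤ → Submodule k C

variable {k S}

namespace DC

instance (E : DC.{u, v, w} k S) : AddCommGroup E.C := E.acg
instance (E : DC.{u, v, w} k S) : Module S E.C := E.modS
instance (E : DC.{u, v, w} k S) : Module k E.C := E.modk
instance (E : DC.{u, v, w} k S) : IsScalarTower k S E.C := E.tower

/-- being a complex -/
structure IsCx (E : DC.{u, v, w} k S) : Prop where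
  D_D : ∀ z, E.D (E.D z) = 0
  D_mem : ∀ i j z, z ∈ E.P i j → E.D z ∈ E.P (i - 1) j

/-- the scalar `f` is homogeneous of degree `a` on the pieces -/
def HomSc (E : DC.{u, v, w} k S) (f : S) (a : ℤ) : Prop :=
  ∀ i j z, z ∈ E.P i j → f • z ∈ E.P i (j + a)

/-- vanishing of the homology in bidegree `(i, j)` -/
def Van (E : DC.{u, v, w} k S) (i j : ℤ) : Prop :=
  ∀ z ∈ E.P i j, E.D z = 0 → ∃ y ∈ E.P (i + 1) j, E.D y = z

/-- the scalar `f` (of degree one) is homotopic to zero -/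
def Null (E : DC.{u, v, w} k S) (f : S) : Prop :=
  ∃ h : E.C →ₗ[S] E.C, (∀ i j z, z ∈ E.P i j → h z ∈ E.P (i + 1) (j + 1)) ∧
    ∀ z, E.D (h z) + h (E.D z) = f • z

theorem Null.exists_D_eq_smul {E : DC.{u, v, w} k S} {f : S} (h : E.Null f) {i j : ℤ} {z : E.C}
    (hz : z ∈ E.P i j) (hD : E.D z = 0) : ∃ y ∈ E.P (i + 1) (j + 1), E.D y = f • z := by
  obtain ⟨h, h1, h2⟩ := h
  refine ⟨h z, h1 i j z hz, ?_⟩
  have := h2 z
  rwa [hD, map_zero, add_zero] at this

/-- the cone of multiplication by `x` -/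
abbrev cone (E : DC.{u, v, w} k S) (x : S) : DC.{u, v, w} k S where
  C := E.C × E.C
  D := (-(E.D ∘ₗ LinearMap.fst S E.C E.C)).prod
      ((x • LinearMap.fst S E.C E.C) + E.D ∘ₗ LinearMap.snd S E.C E.C)
  P i j := (E.P (i - 1) (j - 1)).prod (E.P i j)

theorem cone_D (E : DC.{u, v, w} k S) (x : S) (u v : E.C) :
    (E.cone x).D (u, v) = (-(E.D u), x • u + E.D v) := rfl

theorem mem_cone_P (E : DC.{u, v, w} k S) (x : S) (i j : ℤ) (u v : E.C) :
    (u, v) ∈ (E.cone x).P i j ↔ u ∈ E.P (i - 1) (j - 1) ∧ v ∈ E.P i j := Iff.rfl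

theorem HomSc.cone {E : DC.{u, v, w} k S} {f : S} {a : ℤ} (hf : E.HomSc f a) (x : S) :
    (E.cone x).HomSc f a := by
  rintro i j ⟨u, v⟩ hz
  rw [mem_cone_P] at hz
  refine (mem_cone_P E x i (j + a) (f • u) (f • v)).2 ⟨?_, hf _ _ _ hz.2⟩
  have := hf _ _ _ hz.1
  rwa [show j - 1 + a = j + a - 1 by ring] at this

theorem IsCx.cone {E : DC.{u, v, w} k S} (hE : E.IsCx) {x : S} (hx : E.HomSc x 1) : (E.cone x).IsCx where
  D_D := by
    rintro ⟨u, v⟩
    rw [cone_D, cone_D, map_neg, hE.D_D, map_add, hE.D_D, map_smul, smul_neg, neg_zero, neg_zero, add_zero,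
      neg_add_cancel]
    rfl
  D_mem := by
    rintro i j ⟨u, v⟩ hz
    rw [mem_cone_P] at hz
    rw [cone_D, mem_cone_P]
    refine ⟨neg_mem (hE.D_mem _ _ _ hz.1), add_mem ?_ (hE.D_mem _ _ _ hz.2)⟩
    have := hx _ _ _ hz.1
    rwa [sub_add_cancel] at this

theorem null_cone_self (E : DC.{u, v, w} k S) (x : S) : (E.cone x).Null x := by
  refine ⟨(LinearMap.snd S E.C E.C).prod 0, ?_, ?_⟩
  · rintro i j ⟨u, v⟩ hz
    rw [mem_cone_P] at hz
    refine (mem_cone_P E x (i + 1) (j + 1) v 0).2 ⟨?_, zero_mem _⟩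
    rw [add_sub_cancel_right, add_sub_cancel_right]
    exact hz.2
  · rintro ⟨u, v⟩
    change (E.cone x).D (v, 0) + (x • u + E.D v, 0) = (x • u, x • v)
    rw [cone_D, map_zero, add_zero, Prod.mk_add_mk, add_zero]
    congr 1
    abel

theorem Null.cone {E : DC.{u, v, w} k S} {f : S} (h : E.Null f) (x : S) : (E.cone x).Null f := by
  obtain ⟨h, h1, h2⟩ := h
  refine ⟨(-(h ∘ₗ LinearMap.fst S E.C E.C)).prod (h ∘ₗ LinearMap.snd S E.C E.C), ?_, ?_⟩
  · rintro i j ⟨u, v⟩ hz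
    rw [mem_cone_P] at hz
    refine (mem_cone_P E x (i + 1) (j + 1) (-(h u)) (h v)).2 ⟨?_, h1 _ _ _ hz.2⟩
    have h3 := h1 _ _ _ hz.1
    rw [sub_add_cancel, sub_add_cancel] at h3
    rw [add_sub_cancel_right, add_sub_cancel_right]
    exact neg_mem h3
  · rintro ⟨u, v⟩
    change (E.cone x).D (-(h u), h v) + (-(h (-(E.D u))), h (x • u + E.D v)) = (f • u, f • v)
    rw [cone_D, map_neg, map_neg, neg_neg, neg_neg, map_add, map_smul, smul_neg, ← h2 u, ← h2 v, Prod.mk_add_mk]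
    congr 1
    abel

theorem van_of_eq_zero (E : DC.{u, v, w} k S) {i j : ℤ} (h : ∀ z ∈ E.P i j, z = 0) : E.Van i j := fun z hz _ =>
  ⟨0, zero_mem _, by rw [map_zero, h z hz]⟩

end DC

open DC

variable {M : Type v} [AddCommGroup M] [Module k M] [Module S M] [IsScalarTower k S M]

/-- a module as a complex concentrated in homological degree zero -/
abbrev base (S : Type w) [CommRing S] [Algebra k S] [Module S M] [IsScalarTower k S M]
    (ℳ : ℤ → Submodule k M) : DC.{u, v, w} k S where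
  C := M
  D := 0
  P i j := if i = 0 then ℳ j else ⊥

/-- the Koszul complex of `x 0, …, x (s - 1)` on `M` -/
def kos (x : ℕ → S) (ℳ : ℤ → Submodule k M) : ℕ → DC.{u, v, w} k S
  | 0 => base S ℳ
  | s + 1 => (kos x ℳ s).cone (x s)

variable (x : ℕ → S) (ℳ : ℤ → Submodule k M)

theorem kos_succ (s : ℕ) : kos x ℳ (s + 1) = (kos x ℳ s).cone (x s) := rfl

theorem mem_base_P (i j : ℤ) (z : M) : z ∈ (base S ℳ).P i j ↔ z ∈ ℳ j ∧ (i ≠ 0 → z = 0) := by
  change z ∈ (if i = 0 then ℳ j else ⊥ : Submodule k M) ↔ _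
  split_ifs with h
  · exact ⟨fun hz => ⟨hz, fun h' => (h' h).elim⟩, fun hz => hz.1⟩
  · rw [Submodule.mem_bot]
    exact ⟨fun hz => ⟨hz ▸ zero_mem _, fun _ => hz⟩, fun hz => hz.2 h⟩

theorem mem_base_zero (j : ℤ) (z : M) : z ∈ (base S ℳ).P 0 j ↔ z ∈ ℳ j := by
  rw [mem_base_P]; simp

/-- compatibility of a scalar of degree `a` with the pieces -/
theorem homSc_kos {f : S} {a : ℤ} (hf : ∀ j m, m ∈ ℳ j → f • m ∈ ℳ (j + a)) : ∀ s, (kos x ℳ s).HomSc f a
  | 0 => by
    intro i j (z : M) hz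
    change z ∈ (base S ℳ).P i j at hz
    change (f • z : M) ∈ (base S ℳ).P i (j + a)
    rw [mem_base_P] at hz ⊢
    exact ⟨hf j _ hz.1, fun h => by rw [hz.2 h, smul_zero]⟩
  | s + 1 => (homSc_kos hf s).cone (x s)

variable {ℳ x}

theorem isCx_kos (hx : ∀ t j m, m ∈ ℳ j → x t • m ∈ ℳ (j + 1)) : ∀ s, (kos x ℳ s).IsCx
  | 0 => ⟨fun _ => rfl, fun _ _ _ _ => zero_mem _⟩
  | s + 1 => (isCx_kos hx s).cone (homSc_kos x ℳ (hx s) s)

theorem null_kos : ∀ {t s : ℕ} (_ : t < s), (kos x ℳ s).Null (x t)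
  | t, 0, h => absurd h (by omega)
  | t, s + 1, h => by
    by_cases h' : t = s
    · subst h'
      exact null_cone_self _ _
    · exact (null_kos (show t < s by omega)).cone _

theorem P_eq_zero_of_neg : ∀ (s : ℕ) (i j : ℤ) (_ : i < 0) (z : (kos x ℳ s).C), z ∈ (kos x ℳ s).P i j → z = 0
  | 0, i, j, hi, z, hz => ((mem_base_P ℳ i j z).1 hz).2 (by omega)
  | s + 1, i, j, hi, (u, v), hz => by
    have h1 := P_eq_zero_of_neg s _ _ (show i - 1 < 0 by omega) _ hz.1
    have h2 := P_eq_zero_of_neg s _ _ hi _ hz.2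
    exact Prod.ext h1 h2

theorem P_eq_zero_of_gt : ∀ (s : ℕ) (i j : ℤ) (_ : (s : ℤ) < i) (z : (kos x ℳ s).C),
    z ∈ (kos x ℳ s).P i j → z = 0
  | 0, i, j, hi, z, hz => ((mem_base_P ℳ i j z).1 hz).2 (by push_cast at hi; omega)
  | s + 1, i, j, hi, (u, v), hz => by
    have h1 := P_eq_zero_of_gt s _ _ (show (s : ℤ) < i - 1 by push_cast at hi; omega) _ hz.1
    have h2 := P_eq_zero_of_gt s _ _ (show (s : ℤ) < i by push_cast at hi; omega) _ hz.2
    exact Prod.ext h1 h2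

theorem P_eq_zero_of_piece : ∀ (s : ℕ) (i j : ℤ) (_ : ∀ m ∈ ℳ (j - i), m = 0) (z : (kos x ℳ s).C),
    z ∈ (kos x ℳ s).P i j → z = 0
  | 0, i, j, h, z, hz => by
    replace hz := (mem_base_P ℳ i j z).1 hz
    by_cases hi : i = 0
    · subst hi
      rw [sub_zero] at h
      exact h z hz.1
    · exact hz.2 hi
  | s + 1, i, j, h, (u, v), hz => by
    have h1 := P_eq_zero_of_piece s (i - 1) (j - 1) (by rwa [show j - 1 - (i - 1) = j - i by ring]) _ hz.1
    have h2 := P_eq_zero_of_piece s i j h _ hz.2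
    exact Prod.ext h1 h2

theorem van_of_neg (s : ℕ) (i j : ℤ) (hi : i < 0) : (kos x ℳ s).Van i j :=
  van_of_eq_zero _ (P_eq_zero_of_neg s i j hi)

theorem van_of_gt (s : ℕ) (i j : ℤ) (hi : (s : ℤ) < i) : (kos x ℳ s).Van i j :=
  van_of_eq_zero _ (P_eq_zero_of_gt s i j hi)

theorem van_of_piece (s : ℕ) (i j : ℤ) (h : ∀ m ∈ ℳ (j - i), m = 0) : (kos x ℳ s).Van i j :=
  van_of_eq_zero _ (P_eq_zero_of_piece s i j h)

end K860.Kos
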