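import Groth.Agent.GrSyz.K860.KosSES

/-!
# Koszul complexes of modules with pieces

* `SES.kos`: a piecewise exact sequence of modules gives an exact sequence of Koszul complexes;
* `kos_shift`: shifting the pieces;
* `van_left_of_smul`, `van_pred_of_smul`: multiplication by a scalar homotopic to zero;
* `mem_B_zero`: boundaries in homological degree zero; `van_kos_of_reg`: exactness for regular sequences;
* `van_top_iff`: homology in the top homological degree is the socle.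
-/

set_option autoImplicit false
universe u v v₁ v₂ v₃ w

namespace K860.Kos

open DC

variable {k : Type u} {S : Type w} [CommRing k] [CommRing S] [Algebra k S]

section SES

variable {M' : Type v₁} [AddCommGroup M'] [Module k M'] [Module S M'] [IsScalarTower k S M']
  {M : Type v₂} [AddCommGroup M] [Module k M] [Module S M] [IsScalarTower k S M]
  {M'' : Type v₃} [AddCommGroup M''] [Module k M''] [Module S M''] [IsScalarTower k S M'']
  {ℳ' : ℤ → Submodule k M'} {ℳ : ℤ → Submodule k M} {ℳ'' : ℤ → Submodule k M''}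

/-- a piecewise short exact sequence of modules with pieces -/
structure MSES (ℳ' : ℤ → Submodule k M') (ℳ : ℤ → Submodule k M) (ℳ'' : ℤ → Submodule k M'')
    (φ : M' →ₗ[S] M) (ψ : M →ₗ[S] M'') : Prop where
  φ_mem : ∀ j z, z ∈ ℳ' j → φ z ∈ ℳ j
  ψ_mem : ∀ j z, z ∈ ℳ j → ψ z ∈ ℳ'' j
  inj : ∀ j z, z ∈ ℳ' j → φ z = 0 → z = 0
  zero : ∀ z, ψ (φ z) = 0
  exact : ∀ j z, z ∈ ℳ j → ψ z = 0 → ∃ z' ∈ ℳ' j, φ z' = z
  surj : ∀ j z, z ∈ ℳ'' j → ∃ y ∈ ℳ j, ψ y = z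

variable {φ : M' →ₗ[S] M} {ψ : M →ₗ[S] M''}

/-- the base case -/
def MSES.base (T : MSES ℳ' ℳ ℳ'' φ ψ) : SES (Kos.base S ℳ') (Kos.base S ℳ) (Kos.base S ℳ'') where
  φ := φ
  ψ := ψ
  φ_D _ := map_zero φ
  ψ_D _ := map_zero ψ
  φ_mem i j z hz := by
    rw [mem_base_P] at hz ⊢
    exact ⟨T.φ_mem _ _ hz.1, fun h => by rw [hz.2 h, map_zero]⟩
  ψ_mem i j z hz := by
    rw [mem_base_P] at hz ⊢
    exact ⟨T.ψ_mem _ _ hz.1, fun h => by rw [hz.2 h, map_zero]⟩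
  inj i j z hz h := by
    rw [mem_base_P] at hz
    exact T.inj _ _ hz.1 h
  zero := T.zero
  exact i j z hz h := by
    rw [mem_base_P] at hz
    by_cases hi : i = 0
    · subst hi
      obtain ⟨z', hz', e⟩ := T.exact _ _ hz.1 h
      exact ⟨z', (mem_base_zero ℳ' j z').2 hz', e⟩
    · exact ⟨0, zero_mem _, by rw [map_zero, hz.2 hi]⟩
  surj i j z hz := by
    rw [mem_base_P] at hz
    by_cases hi : i = 0
    · subst hi
      obtain ⟨z', hz', e⟩ := T.surj _ _ hz.1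
      exact ⟨z', (mem_base_zero ℳ j z').2 hz', e⟩
    · exact ⟨0, zero_mem _, by rw [map_zero, hz.2 hi]⟩

/-- the short exact sequence of Koszul complexes -/
def MSES.kos (T : MSES ℳ' ℳ ℳ'' φ ψ) (x : ℕ → S) : ∀ s, SES (Kos.kos x ℳ' s) (Kos.kos x ℳ s) (Kos.kos x ℳ'' s)
  | 0 => T.base
  | s + 1 => (T.kos x s).cone (x s)

end SES

section Coord

variable {M : Type v} [AddCommGroup M] [Module k M] [Module S M] [IsScalarTower k S M]
variable (x : ℕ → S) (ℳ : ℤ → Submodule k M)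

/-- the bottom coordinate -/
def co : ∀ s, (kos x ℳ s).C →ₗ[S] M
  | 0 => LinearMap.id
  | s + 1 => co s ∘ₗ LinearMap.snd S (kos x ℳ s).C (kos x ℳ s).C

/-- the inclusion of the bottom coordinate -/
def io : ∀ s, M →ₗ[S] (kos x ℳ s).C
  | 0 => LinearMap.id
  | s + 1 => LinearMap.inr S (kos x ℳ s).C (kos x ℳ s).C ∘ₗ io s

/-- the top coordinate -/
def ct : ∀ s, (kos x ℳ s).C →ₗ[S] M
  | 0 => LinearMap.id
  | s + 1 => ct s ∘ₗ LinearMap.fst S (kos x ℳ s).C (kos x ℳ s).C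

/-- the inclusion of the top coordinate -/
def it : ∀ s, M →ₗ[S] (kos x ℳ s).C
  | 0 => LinearMap.id
  | s + 1 => LinearMap.inl S (kos x ℳ s).C (kos x ℳ s).C ∘ₗ it s

@[simp] theorem co_io : ∀ s m, co x ℳ s (io x ℳ s m) = m
  | 0, _ => rfl
  | s + 1, m => co_io s m

@[simp] theorem ct_it : ∀ s m, ct x ℳ s (it x ℳ s m) = m
  | 0, _ => rfl
  | s + 1, m => ct_it s m

theorem mem_P_zero_iff : ∀ (s : ℕ) (j : ℤ) (z : (kos x ℳ s).C),
    z ∈ (kos x ℳ s).P 0 j ↔ co x ℳ s z ∈ ℳ j ∧ io x ℳ s (co x ℳ s z) = z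
  | 0, j, z => by
    refine (mem_base_zero ℳ j z).trans ⟨fun h => ⟨h, rfl⟩, fun h => h.1⟩
  | s + 1, j, (a, b) => by
    have ih := mem_P_zero_iff s j b
    constructor
    · intro h
      have h1 := P_eq_zero_of_neg s _ _ (show (0 : ℤ) - 1 < 0 by omega) _ h.1
      obtain ⟨h2, h3⟩ := ih.1 h.2
      exact ⟨h2, Prod.ext h1.symm h3⟩
    · rintro ⟨h1, h2⟩
      have h3 : a = 0 := (Prod.ext_iff.1 h2).1.symm
      have h4 : io x ℳ s (co x ℳ s b) = b := (Prod.ext_iff.1 h2).2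
      exact ⟨h3 ▸ zero_mem _, ih.2 ⟨h1, h4⟩⟩

theorem io_mem {s : ℕ} {j : ℤ} {m : M} (hm : m ∈ ℳ j) : io x ℳ s m ∈ (kos x ℳ s).P 0 j := by
  rw [mem_P_zero_iff, co_io]
  exact ⟨hm, rfl⟩

theorem D_io : ∀ (s : ℕ) (m : M), (kos x ℳ s).D (io x ℳ s m) = 0
  | 0, _ => rfl
  | s + 1, m => by
    change ((kos x ℳ s).cone (x s)).D (0, io x ℳ s m) = 0
    rw [cone_D, map_zero, D_io s m, smul_zero, neg_zero, add_zero]
    rfl

/-- the elements `∑_{t < s} x t m_t` with `m_t` of degree `j - 1` -/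
def I : ℕ → ℤ → Submodule k M
  | 0, _ => ⊥
  | s + 1, j => I s j ⊔ (ℳ (j - 1)).map (Algebra.lsmul k k M (x s))

theorem I_succ (s : ℕ) (j : ℤ) : I x ℳ (s + 1) j = I x ℳ s j ⊔ (ℳ (j - 1)).map (Algebra.lsmul k k M (x s)) := rfl

theorem mem_B_zero_iff (hx : ∀ t j m, m ∈ ℳ j → x t • m ∈ ℳ (j + 1)) : ∀ (s : ℕ) (j : ℤ) (z : (kos x ℳ s).C),
    z ∈ (kos x ℳ s).B 0 j ↔ co x ℳ s z ∈ I x ℳ s j ∧ io x ℳ s (co x ℳ s z) = z
  | 0, j, z => by
    rw [mem_B]
    constructor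
    · rintro ⟨y, hy, rfl⟩
      exact ⟨zero_mem _, rfl⟩
    · rintro ⟨h1, h2⟩
      have h3 : co x ℳ 0 z = 0 := h1
      exact ⟨0, zero_mem _, by rw [← h2, h3]; rfl⟩
  | s + 1, j, (a, b) => by
    have ih := mem_B_zero_iff hx s j
    refine mem_B.trans ?_
    constructor
    · rintro ⟨⟨u, v⟩, ⟨hu, hv⟩, e⟩
      rw [zero_add] at hu hv
      change ((kos x ℳ s).cone (x s)).D (u, v) = (a, b) at e
      rw [sub_self] at hu
      obtain ⟨hu1, hu2⟩ := (mem_P_zero_iff x ℳ s _ u).1 hu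
      rw [cone_D, ← hu2, D_io, neg_zero] at e
      have e1 : a = 0 := (Prod.ext_iff.1 e).1.symm
      have e2 := (Prod.ext_iff.1 e).2
      obtain ⟨h1, h2⟩ := (ih ((kos x ℳ s).D v)).1 (mem_B.2 ⟨v, by rwa [zero_add], rfl⟩)
      have e3 : co x ℳ s b = x s • co x ℳ s u + co x ℳ s ((kos x ℳ s).D v) := by
        change _ = b at e2
        rw [← e2, map_add, map_smul, co_io]
      refine ⟨?_, ?_⟩
      · change co x ℳ s b ∈ _
        rw [e3, I_succ, add_comm (x s • co x ℳ s u)]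
        exact Submodule.add_mem_sup h1 ⟨_, hu1, rfl⟩
      · refine Prod.ext e1.symm ?_
        change io x ℳ s (co x ℳ s b) = b
        rw [e3, map_add, h2, map_smul]
        exact e2
    · rintro ⟨h1, h2⟩
      have e1 : a = 0 := (Prod.ext_iff.1 h2).1.symm
      have e2 : io x ℳ s (co x ℳ s b) = b := (Prod.ext_iff.1 h2).2
      change co x ℳ s b ∈ _ at h1
      rw [I_succ, Submodule.mem_sup] at h1
      obtain ⟨p, hp, q, ⟨m, hm, rfl⟩, e3⟩ := h1
      obtain ⟨v, hv, e4⟩ := mem_B.1 ((ih (io x ℳ s p)).2 ⟨by rwa [co_io], by rw [co_io]⟩)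
      refine ⟨(io x ℳ s m, v), ⟨?_, hv⟩, ?_⟩
      · rw [zero_add, sub_self]
        exact io_mem x ℳ hm
      · change ((kos x ℳ s).cone (x s)).D (io x ℳ s m, v) = (a, b)
        rw [cone_D, D_io, neg_zero, e1, e4, ← e2, ← e3, map_add, add_comm]
        congr 2
        exact (map_smul (io x ℳ s) (x s) m).symm

/-- weak regularity of `x 0, …, x (s - 1)` on the pieces -/
def Reg (s : ℕ) : Prop :=
  ∀ t < s, ∀ (j : ℤ) (m : M), m ∈ ℳ j → x t • m ∈ I x ℳ t (j + 1) → m ∈ I x ℳ t j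

/-- the Koszul complex of a regular sequence is exact in positive degrees -/
theorem van_kos_of_reg (hx : ∀ t j m, m ∈ ℳ j → x t • m ∈ ℳ (j + 1)) : ∀ (s : ℕ) (_ : Reg x ℳ s) (i j : ℤ)
    (_ : 0 < i), (kos x ℳ s).Van i j
  | 0, _, i, j, hi => van_of_gt 0 i j (by simpa using hi)
  | s + 1, hr, i, j, hi => by
    have ih := van_kos_of_reg hx s (fun t ht => hr t (by omega))
    have hc := isCx_kos hx s
    rintro ⟨u, v⟩ ⟨hu, hv⟩ hD
    change ((kos x ℳ s).cone (x s)).D (u, v) = 0 at hD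
    rw [cone_D] at hD
    have hDu : (kos x ℳ s).D u = 0 := neg_eq_zero.1 (Prod.ext_iff.1 hD).1
    have hDv : x s • u + (kos x ℳ s).D v = 0 := (Prod.ext_iff.1 hD).2
    have key : ∃ u' ∈ (kos x ℳ s).P i (j - 1), (kos x ℳ s).D u' = u := by
      rcases (show 1 ≤ i from hi).lt_or_eq with h | rfl
      · obtain ⟨u', h1, h2⟩ := ih (i - 1) (j - 1) (by omega) u hu hDu
        rw [sub_add_cancel] at h1
        exact ⟨u', h1, h2⟩
      · change u ∈ (kos x ℳ s).P (1 - 1) (j - 1) at hu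
        rw [sub_self] at hu
        obtain ⟨h1, h2⟩ := (mem_P_zero_iff x ℳ s _ u).1 hu
        have h3 : x s • u ∈ (kos x ℳ s).B 0 j := by
          refine mem_B.2 ⟨-v, neg_mem hv, ?_⟩
          rw [map_neg]
          exact (eq_neg_of_add_eq_zero_left hDv).symm
        obtain ⟨h4, -⟩ := (mem_B_zero_iff x ℳ hx s j _).1 h3
        rw [map_smul] at h4
        have h5 := hr s (by omega) (j - 1) _ h1 (by rwa [sub_add_cancel])
        obtain ⟨y, hy, e⟩ := mem_B.1 ((mem_B_zero_iff x ℳ hx s (j - 1) u).2 ⟨h5, h2⟩)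
        exact ⟨y, by rwa [zero_add] at hy, e⟩
    obtain ⟨u', hu', e⟩ := key
    have h1 : v + x s • u' ∈ (kos x ℳ s).P i j := by
      refine add_mem hv ?_
      have := homSc_kos x ℳ (hx s) s _ _ _ hu'
      rwa [sub_add_cancel] at this
    obtain ⟨v', hv', e'⟩ := ih i j hi (v + x s • u') h1 (by rw [map_add, map_smul, e, add_comm, hDv])
    refine ⟨(-u', v'), ⟨?_, hv'⟩, ?_⟩
    · change -u' ∈ (kos x ℳ s).P (i + 1 - 1) (j - 1)
      rw [add_sub_cancel_right]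
      exact neg_mem hu'
    · change ((kos x ℳ s).cone (x s)).D (-u', v') = (u, v)
      rw [cone_D, map_neg, neg_neg, e, e', smul_neg]
      congr 1
      abel

/-! ### the top homology -/

theorem mem_P_top_iff : ∀ (s : ℕ) (j : ℤ) (z : (kos x ℳ s).C),
    z ∈ (kos x ℳ s).P s j ↔ ct x ℳ s z ∈ ℳ (j - s) ∧ it x ℳ s (ct x ℳ s z) = z
  | 0, j, z => by
    rw [Nat.cast_zero, sub_zero]
    refine (mem_base_zero ℳ j z).trans ⟨fun h => ⟨h, rfl⟩, fun h => h.1⟩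
  | s + 1, j, (a, b) => by
    have ih := mem_P_top_iff s (j - 1) a
    have e : j - ((s + 1 : ℕ) : ℤ) = j - 1 - s := by push_cast; ring
    rw [e]
    constructor
    · intro h
      have h1 := P_eq_zero_of_gt s _ _ (show (s : ℤ) < ((s + 1 : ℕ) : ℤ) by push_cast; omega) _ h.2
      have h0 : a ∈ (kos x ℳ s).P s (j - 1) := by
        have := h.1
        rwa [Nat.cast_succ, add_sub_cancel_right] at this
      obtain ⟨h2, h3⟩ := ih.1 h0
      exact ⟨h2, Prod.ext h3 h1.symm⟩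
    · rintro ⟨h1, h2⟩
      have h3 : b = 0 := (Prod.ext_iff.1 h2).2.symm
      have h4 : it x ℳ s (ct x ℳ s a) = a := (Prod.ext_iff.1 h2).1
      refine ⟨?_, h3 ▸ zero_mem _⟩
      rw [Nat.cast_succ, add_sub_cancel_right]
      exact ih.2 ⟨h1, h4⟩

theorem D_it_eq_zero_iff : ∀ (s : ℕ) (m : M), (kos x ℳ s).D (it x ℳ s m) = 0 ↔ ∀ t < s, x t • m = 0
  | 0, m => ⟨fun _ t ht => absurd ht (by omega), fun _ => rfl⟩
  | s + 1, m => by
    have ih := D_it_eq_zero_iff s m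
    change ((kos x ℳ s).cone (x s)).D (it x ℳ s m, 0) = 0 ↔ _
    rw [cone_D, map_zero, add_zero]
    constructor
    · intro h
      have h1 := ih.1 (neg_eq_zero.1 (Prod.ext_iff.1 h).1)
      have h2 : x s • it x ℳ s m = 0 := (Prod.ext_iff.1 h).2
      intro t ht
      rcases (show t ≤ s by omega).lt_or_eq with h3 | rfl
      · exact h1 t h3
      · rw [← map_smul] at h2
        rw [← ct_it x ℳ t (x t • m), h2, map_zero]
    · intro h
      rw [ih.2 fun t ht => h t (by omega), neg_zero, ← map_smul, h s (by omega), map_zero]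
      rfl

/-- the top homology is the socle -/
theorem van_top_iff (s : ℕ) (j : ℤ) :
    (kos x ℳ s).Van s j ↔ ∀ m ∈ ℳ (j - s), (∀ t < s, x t • m = 0) → m = 0 := by
  constructor
  · intro h m hm hx
    obtain ⟨y, hy, e⟩ := h (it x ℳ s m) ((mem_P_top_iff x ℳ s j _).2 ⟨by rwa [ct_it], by rw [ct_it]⟩)
      ((D_it_eq_zero_iff x ℳ s m).2 hx)
    have hy0 : y = 0 := P_eq_zero_of_gt s _ _ (by omega) y hy
    rw [← ct_it x ℳ s m, ← e, hy0, map_zero, map_zero]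
  · intro h z hz hD
    obtain ⟨h1, h2⟩ := (mem_P_top_iff x ℳ s j z).1 hz
    have h3 := h _ h1 ((D_it_eq_zero_iff x ℳ s _).1 (by rw [h2, hD]))
    exact ⟨0, zero_mem _, by rw [← h2, h3, map_zero, map_zero]⟩

/-! ### homology in homological degree zero -/

theorem van_zero_iff (hx : ∀ t j m, m ∈ ℳ j → x t • m ∈ ℳ (j + 1)) (s : ℕ) (j : ℤ) :
    (kos x ℳ s).Van 0 j ↔ ∀ m ∈ ℳ j, m ∈ I x ℳ s j := by
  constructor
  · intro h m hm
    obtain ⟨y, hy, e⟩ := h (io x ℳ s m) (io_mem x ℳ hm) (D_io x ℳ s m)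
    have := ((mem_B_zero_iff x ℳ hx s j (io x ℳ s m)).1 (mem_B.2 ⟨y, hy, e⟩)).1
    rwa [co_io] at this
  · intro h z hz _
    obtain ⟨h1, h2⟩ := (mem_P_zero_iff x ℳ s j z).1 hz
    exact mem_B.1 ((mem_B_zero_iff x ℳ hx s j z).2 ⟨h _ h1, h2⟩)

theorem D_zero_of_mem_P_zero {s : ℕ} {j : ℤ} {z : (kos x ℳ s).C} (hz : z ∈ (kos x ℳ s).P 0 j) :
    (kos x ℳ s).D z = 0 := by
  rw [← ((mem_P_zero_iff x ℳ s j z).1 hz).2, D_io]

/-- the homology in homological degree zero -/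
theorem H_zero_equiv (hx : ∀ t j m, m ∈ ℳ j → x t • m ∈ ℳ (j + 1)) (s : ℕ) (j : ℤ) :
    Nonempty ((kos x ℳ s).H 0 j ≃ₗ[k] (↥(ℳ j) ⧸ (I x ℳ s j).comap (ℳ j).subtype)) := by
  let α : ↥(ℳ j) →ₗ[k] (kos x ℳ s).H 0 j := Submodule.mkQ _ ∘ₗ
    (((io x ℳ s).restrictScalars k ∘ₗ (ℳ j).subtype).codRestrict ((kos x ℳ s).Z 0 j)
      fun m => mem_Z.2 ⟨io_mem x ℳ m.2, D_io x ℳ s _⟩)
  refine equiv_of_ker_eq α (Submodule.mkQ _) ?_ (Submodule.mkQ_surjective _) ?_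
  · intro q
    obtain ⟨⟨z, hz⟩, rfl⟩ := Submodule.mkQ_surjective _ q
    obtain ⟨h1, h2⟩ := (mem_P_zero_iff x ℳ s j z).1 (mem_Z.1 hz).1
    exact ⟨⟨_, h1⟩, congrArg (Submodule.mkQ _) (Subtype.ext h2)⟩
  · ext m
    rw [Submodule.ker_mkQ, LinearMap.mem_ker]
    change Submodule.mkQ _ _ = 0 ↔ _
    rw [Submodule.mkQ_apply, Submodule.Quotient.mk_eq_zero]
    refine (mem_B_zero_iff x ℳ hx s j (io x ℳ s m)).trans ?_
    rw [co_io]
    exact ⟨fun h => h.1, fun h => ⟨h, rfl⟩⟩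

end Coord

end K860.Kos
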