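import Groth.Agent.GrSyz.K860.KosMod

/-!
# Functoriality of Koszul complexes in the module and in the pieces; multiplication by a null-homotopic scalar

* `kmap φ` : the map of Koszul complexes induced by `φ : M → N`;
* `kid` : the identity between the Koszul complexes for two families of pieces; `van_of_pieces`;
* `Null'` : null-homotopic scalars of degree `a`;
* `van_of_quot`, `van_pred_of_quot`, `van_quot` : the sequence `0 → M(-a) → M → N → 0`.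
-/

set_option autoImplicit false
set_option linter.unusedSectionVars false
universe u v v₁ v₂ v₃ w

namespace K860.Kos

open DC

variable {k : Type u} {S : Type w} [CommRing k] [CommRing S] [Algebra k S]

section Map

variable {M : Type v₁} [AddCommGroup M] [Module k M] [Module S M] [IsScalarTower k S M]
  {N : Type v₂} [AddCommGroup N] [Module k N] [Module S N] [IsScalarTower k S N]
  (x : ℕ → S) (ℳ : ℤ → Submodule k M) (𝒩 : ℤ → Submodule k N)

/-- the map of Koszul complexes induced by a map of modules -/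
def kmap (φ : M →ₗ[S] N) : ∀ s, (kos x ℳ s).C →ₗ[S] (kos x 𝒩 s).C
  | 0 => φ
  | s + 1 => (kmap φ s).prodMap (kmap φ s)

variable {ℳ 𝒩}

theorem kmap_D (φ : M →ₗ[S] N) : ∀ (s : ℕ) (z : (kos x ℳ s).C),
    kmap x ℳ 𝒩 φ s ((kos x ℳ s).D z) = (kos x 𝒩 s).D (kmap x ℳ 𝒩 φ s z)
  | 0, _ => map_zero φ
  | s + 1, (u, v) => by
    change (kmap x ℳ 𝒩 φ s (-((kos x ℳ s).D u)), kmap x ℳ 𝒩 φ s (x s • u + (kos x ℳ s).D v)) =
      (-((kos x 𝒩 s).D (kmap x ℳ 𝒩 φ s u)), x s • kmap x ℳ 𝒩 φ s u + (kos x 𝒩 s).D (kmap x ℳ 𝒩 φ s v))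
    rw [map_neg, map_add, map_smul, kmap_D φ s, kmap_D φ s]

theorem kmap_mem {φ : M →ₗ[S] N} {a : ℤ} (hφ : ∀ j m, m ∈ ℳ j → φ m ∈ 𝒩 (j + a)) : ∀ (s : ℕ) (i j : ℤ)
    (z : (kos x ℳ s).C), z ∈ (kos x ℳ s).P i j → kmap x ℳ 𝒩 φ s z ∈ (kos x 𝒩 s).P i (j + a)
  | 0, i, j, z, hz => by
    have hz' := (mem_base_P ℳ i j z).1 hz
    exact (mem_base_P 𝒩 i (j + a) (φ z)).2 ⟨hφ j _ hz'.1, fun h => by rw [hz'.2 h, map_zero]⟩
  | s + 1, i, j, (u, v), hz => by
    refine ⟨?_, kmap_mem hφ s _ _ _ hz.2⟩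
    have := kmap_mem hφ s _ _ _ hz.1
    rwa [show j - 1 + a = j + a - 1 by ring] at this

variable (ℳ) in
theorem kmap_id : ∀ (s : ℕ) (z : (kos x ℳ s).C), kmap x ℳ ℳ LinearMap.id s z = z
  | 0, _ => rfl
  | s + 1, (u, v) => Prod.ext (kmap_id s u) (kmap_id s v)

theorem kmap_comp {L : Type v₃} [AddCommGroup L] [Module k L] [Module S L] [IsScalarTower k S L]
    {ℒ : ℤ → Submodule k L} (φ : M →ₗ[S] N) (ψ : N →ₗ[S] L) : ∀ (s : ℕ) (z : (kos x ℳ s).C),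
    kmap x 𝒩 ℒ ψ s (kmap x ℳ 𝒩 φ s z) = kmap x ℳ ℒ (ψ ∘ₗ φ) s z
  | 0, _ => rfl
  | s + 1, (u, v) => Prod.ext (kmap_comp φ ψ s u) (kmap_comp φ ψ s v)

theorem kos_φ_eq {M'' : Type v₃} [AddCommGroup M''] [Module k M''] [Module S M''] [IsScalarTower k S M'']
    {ℳ'' : ℤ → Submodule k M''} {φ : M →ₗ[S] N} {ψ : N →ₗ[S] M''} (T : MSES ℳ 𝒩 ℳ'' φ ψ) :
    ∀ (s : ℕ) (z : (kos x ℳ s).C), (T.kos x s).φ z = kmap x ℳ 𝒩 φ s z
  | 0, _ => rfl
  | s + 1, (u, v) => Prod.ext (kos_φ_eq T s u) (kos_φ_eq T s v)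

theorem kmap_smul (f : S) {φ : M →ₗ[S] N} : ∀ (s : ℕ) (z : (kos x ℳ s).C),
    kmap x ℳ 𝒩 (f • φ) s z = f • kmap x ℳ 𝒩 φ s z
  | 0, _ => rfl
  | s + 1, (u, v) => Prod.ext (kmap_smul f s u) (kmap_smul f s v)

end Map

section Pieces

variable {M : Type v₁} [AddCommGroup M] [Module k M] [Module S M] [IsScalarTower k S M]
  (x : ℕ → S) {ℳ ℳ' : ℤ → Submodule k M}

theorem kmap_id_id (s : ℕ) (z : (kos x ℳ s).C) :
    kmap x ℳ' ℳ LinearMap.id s (kmap x ℳ ℳ' LinearMap.id s z) = z := by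
  rw [kmap_comp, LinearMap.id_comp, kmap_id]

/-- shifting the pieces -/
theorem van_shift {a : ℤ} (h : ∀ j, ℳ' j = ℳ (j + a)) (s : ℕ) (i j : ℤ) (hV : (kos x ℳ s).Van i (j + a)) :
    (kos x ℳ' s).Van i j := by
  intro z hz hD
  obtain ⟨y, hy, e⟩ := hV (kmap x ℳ' ℳ LinearMap.id s z)
    (kmap_mem x (fun j m hm => by rw [← h]; exact hm) s i j z hz) (by rw [← kmap_D, hD, map_zero])
  refine ⟨kmap x ℳ ℳ' LinearMap.id s y, ?_, ?_⟩
  · have := kmap_mem (𝒩 := ℳ') x (φ := LinearMap.id) (a := -a) (fun j m hm => by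
      rw [h, neg_add_cancel_right]; exact hm) s (i + 1) (j + a) y hy
    rwa [add_neg_cancel_right] at this
  · rw [← kmap_D, e, kmap_id_id]

theorem van_shift_iff {a : ℤ} (h : ∀ j, ℳ' j = ℳ (j + a)) (s : ℕ) (i j : ℤ) :
    (kos x ℳ' s).Van i j ↔ (kos x ℳ s).Van i (j + a) := by
  refine ⟨fun hV => ?_, van_shift x h s i j⟩
  refine van_shift (ℳ := ℳ') (ℳ' := ℳ) (a := -a) x (fun j => ?_) s i (j + a) (by rwa [add_neg_cancel_right])
  rw [h, neg_add_cancel_right]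

end Pieces

/-! ### null-homotopic scalars of arbitrary degree -/

/-- `f` is null-homotopic, by a homotopy raising the internal degree by `a` -/
def DC.Null' (E : DC.{u, v, w} k S) (f : S) (a : ℤ) : Prop :=
  ∃ h : E.C →ₗ[S] E.C, (∀ i j z, z ∈ E.P i j → h z ∈ E.P (i + 1) (j + a)) ∧
    ∀ z, E.D (h z) + h (E.D z) = f • z

theorem DC.Null'.zero (E : DC.{u, v, w} k S) (a : ℤ) : E.Null' 0 a :=
  ⟨0, fun _ _ _ _ => zero_mem _, fun z => by
    rw [LinearMap.zero_apply, LinearMap.zero_apply, map_zero, add_zero, zero_smul]⟩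

theorem DC.Null'.add {E : DC.{u, v, w} k S} {f g : S} {a : ℤ} (hf : E.Null' f a) (hg : E.Null' g a) :
    E.Null' (f + g) a := by
  obtain ⟨h, h1, h2⟩ := hf
  obtain ⟨h', h1', h2'⟩ := hg
  refine ⟨h + h', fun i j z hz => add_mem (h1 i j z hz) (h1' i j z hz), fun z => ?_⟩
  rw [LinearMap.add_apply, LinearMap.add_apply, map_add, add_smul, ← h2, ← h2']
  abel

theorem DC.Null'.smul {E : DC.{u, v, w} k S} {f g : S} {a b : ℤ} (hf : E.Null' f a) (hg : E.HomSc g b) :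
    E.Null' (g * f) (b + a) := by
  obtain ⟨h, h1, h2⟩ := hf
  refine ⟨g • h, fun i j z hz => ?_, fun z => ?_⟩
  · have := hg _ _ _ (h1 i j z hz)
    rwa [show j + a + b = j + (b + a) by ring] at this
  · rw [LinearMap.smul_apply, LinearMap.smul_apply, map_smul, ← smul_add, h2, mul_smul]

theorem DC.Null.null' {E : DC.{u, v, w} k S} {f : S} (hf : E.Null f) : E.Null' f 1 := hf

theorem DC.Null'.exists_D_eq_smul {E : DC.{u, v, w} k S} {f : S} {a : ℤ} (h : E.Null' f a) {i j : ℤ} {z : E.C}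
    (hz : z ∈ E.P i j) (hD : E.D z = 0) : ∃ y ∈ E.P (i + 1) (j + a), E.D y = f • z := by
  obtain ⟨h, h1, h2⟩ := h
  refine ⟨h z, h1 i j z hz, ?_⟩
  have := h2 z
  rwa [hD, map_zero, add_zero] at this

section Quot

variable {M : Type v₁} [AddCommGroup M] [Module k M] [Module S M] [IsScalarTower k S M]
  {N : Type v₂} [AddCommGroup N] [Module k N] [Module S N] [IsScalarTower k S N]
  {x : ℕ → S} {ℳ : ℤ → Submodule k M} {𝒩 : ℤ → Submodule k N} {f : S} {a : ℤ}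
  {ψ : M →ₗ[S] N} (T : MSES (fun j => ℳ (j - a)) ℳ 𝒩 (f • LinearMap.id) ψ)

theorem kos_φ_smul (s : ℕ) (z : (kos x (fun j => ℳ (j - a)) s).C) :
    (T.kos x s).φ z = f • kmap x (fun j => ℳ (j - a)) ℳ LinearMap.id s z := by
  rw [kos_φ_eq, kmap_smul]

include T in
/-- `κ(M) ⊆ κ(M / f M)` when `f` is null-homotopic -/
theorem van_of_quot (hx : ∀ t j m, m ∈ ℳ j → x t • m ∈ ℳ (j + 1)) {s : ℕ} (hf : (kos x ℳ s).Null' f a) {i j : ℤ}
    (hV : (kos x 𝒩 s).Van i j) : (kos x ℳ s).Van i j := by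
  have hE := isCx_kos hx s
  intro z hz hD
  obtain ⟨y'', hy'', e⟩ := hV ((T.kos x s).ψ z) ((T.kos x s).ψ_mem _ _ _ hz)
    (by rw [← (T.kos x s).ψ_D, hD, map_zero])
  obtain ⟨y, hy, rfl⟩ := (T.kos x s).surj _ _ _ hy''
  have hDy : (kos x ℳ s).D y ∈ (kos x ℳ s).P i j := by simpa using hE.D_mem _ _ _ hy
  obtain ⟨w', hw', e'⟩ := (T.kos x s).exact _ _ (z - (kos x ℳ s).D y) (sub_mem hz hDy)
    (by rw [map_sub, (T.kos x s).ψ_D, e, sub_self])
  have hD' : (kos x (fun j => ℳ (j - a)) s).D w' = 0 := by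
    refine ((T.kos x s).D_eq_zero_iff (isCx_kos (fun t j m hm => ?_) s) hw').2 ?_
    · have := hx t _ _ hm
      change x t • m ∈ ℳ (j + 1 - a)
      rwa [show j - a + 1 = j + 1 - a by ring] at this
    · rw [e', map_sub, hD, hE.D_D, sub_zero]
  rw [kos_φ_smul] at e'
  have h1 : kmap x (fun j => ℳ (j - a)) ℳ LinearMap.id s w' ∈ (kos x ℳ s).P i (j + -a) :=
    kmap_mem x (fun j m hm => hm) s i j w' hw'
  obtain ⟨v, hv, ev⟩ := hf.exists_D_eq_smul h1 (by rw [← kmap_D, hD', map_zero])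
  rw [neg_add_cancel_right] at hv
  exact ⟨y + v, add_mem hy hv, by rw [map_add, ev, e', add_sub_cancel]⟩

include T in
/-- the connecting map `κ_i(M / f M)_j → κ_{i-1}(M)_{j-a}` is onto when `f` is null-homotopic -/
theorem van_pred_of_quot (hx : ∀ t j m, m ∈ ℳ j → x t • m ∈ ℳ (j + 1)) {s : ℕ} (hf : (kos x ℳ s).Null' f a)
    {i j : ℤ} (hV : (kos x 𝒩 s).Van (i + 1) j) : (kos x ℳ s).Van i (j - a) := by
  have hE := isCx_kos hx s
  have hx' : ∀ t j m, m ∈ (fun j => ℳ (j - a)) j → x t • m ∈ (fun j => ℳ (j - a)) (j + 1) := fun t j m hm => by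
    have := hx t _ _ hm
    change x t • m ∈ ℳ (j + 1 - a)
    rwa [show j - a + 1 = j + 1 - a by ring] at this
  have key : (kos x (fun j => ℳ (j - a)) s).Van i j := by
    intro z hz hD
    have h1 : kmap x (fun j => ℳ (j - a)) ℳ LinearMap.id s z ∈ (kos x ℳ s).P i (j + -a) :=
      kmap_mem x (fun j m hm => hm) s i j z hz
    obtain ⟨v, hv, ev⟩ := hf.exists_D_eq_smul h1 (by rw [← kmap_D, hD, map_zero])
    rw [neg_add_cancel_right] at hv
    rw [← kos_φ_smul T] at ev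
    obtain ⟨w'', hw'', ew⟩ := hV ((T.kos x s).ψ v) ((T.kos x s).ψ_mem _ _ _ hv)
      (by rw [← (T.kos x s).ψ_D, ev, (T.kos x s).zero])
    obtain ⟨w, hw, rfl⟩ := (T.kos x s).surj _ _ _ hw''
    have hDw : (kos x ℳ s).D w ∈ (kos x ℳ s).P (i + 1) j := by simpa using hE.D_mem _ _ _ hw
    obtain ⟨y, hy, ey⟩ := (T.kos x s).exact _ _ (v - (kos x ℳ s).D w) (sub_mem hv hDw)
      (by rw [map_sub, (T.kos x s).ψ_D, ew, sub_self])
    refine ⟨y, hy, ?_⟩
    have hDy : (kos x (fun j => ℳ (j - a)) s).D y ∈ (kos x (fun j => ℳ (j - a)) s).P i j := by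
      simpa using (isCx_kos hx' s).D_mem _ _ _ hy
    refine sub_eq_zero.1 ((T.kos x s).inj i j _ (sub_mem hDy hz) ?_)
    rw [map_sub, (T.kos x s).φ_D, ey, map_sub, hE.D_D, sub_zero, ev, sub_self]
  have := (van_shift_iff (ℳ := ℳ) (ℳ' := fun j => ℳ (j - a)) (a := -a) x (fun j => rfl) s i j).1 key
  exact this

include T in
/-- vanishing for the quotient -/
theorem van_quot (hx : ∀ t j m, m ∈ ℳ j → x t • m ∈ ℳ (j + 1)) {s : ℕ} {i j : ℤ}
    (hV : (kos x ℳ s).Van i j) (hV' : (kos x ℳ s).Van (i - 1) (j - a)) : (kos x 𝒩 s).Van i j := by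
  have hx' : ∀ t j m, m ∈ (fun j => ℳ (j - a)) j → x t • m ∈ (fun j => ℳ (j - a)) (j + 1) := fun t j m hm => by
    have := hx t _ _ hm
    change x t • m ∈ ℳ (j + 1 - a)
    rwa [show j - a + 1 = j + 1 - a by ring] at this
  exact (T.kos x s).van_right (isCx_kos hx' s) (isCx_kos hx s) hV
    (van_shift (ℳ := ℳ) (ℳ' := fun j => ℳ (j - a)) (a := -a) x (fun j => rfl) s _ _ hV')

end Quot

end K860.Kos
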