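import Groth.Agent.GrSyz.K860.Kos
import Mathlib.LinearAlgebra.Isomorphisms

/-!
# Short exact sequences of elementary bigraded complexes: long exact sequences
-/

set_option autoImplicit false
universe u v v₁ v₂ v₃ w

namespace K860.Kos

variable {k : Type u} {S : Type w} [CommRing k] [CommRing S] [Algebra k S]

/-- a (piecewise) short exact sequence of bigraded complexes -/
structure SES (E' : DC.{u, v₁, w} k S) (E : DC.{u, v₂, w} k S) (E'' : DC.{u, v₃, w} k S) where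
  φ : E'.C →ₗ[S] E.C
  ψ : E.C →ₗ[S] E''.C
  φ_D : ∀ z, φ (E'.D z) = E.D (φ z)
  ψ_D : ∀ z, ψ (E.D z) = E''.D (ψ z)
  φ_mem : ∀ i j z, z ∈ E'.P i j → φ z ∈ E.P i j
  ψ_mem : ∀ i j z, z ∈ E.P i j → ψ z ∈ E''.P i j
  inj : ∀ i j z, z ∈ E'.P i j → φ z = 0 → z = 0
  zero : ∀ z, ψ (φ z) = 0
  exact : ∀ i j z, z ∈ E.P i j → ψ z = 0 → ∃ z' ∈ E'.P i j, φ z' = z
  surj : ∀ i j z, z ∈ E''.P i j → ∃ y ∈ E.P i j, ψ y = z

/-- the cones of the terms of a short exact sequence -/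
def SES.cone {E' : DC.{u, v₁, w} k S} {E : DC.{u, v₂, w} k S} {E'' : DC.{u, v₃, w} k S} (T : SES E' E E'')
    (x : S) : SES (E'.cone x) (E.cone x) (E''.cone x) where
  φ := T.φ.prodMap T.φ
  ψ := T.ψ.prodMap T.ψ
  φ_D := by
    rintro ⟨u, v⟩
    change (T.φ (-(E'.D u)), T.φ (x • u + E'.D v)) = (-(E.D (T.φ u)), x • T.φ u + E.D (T.φ v))
    rw [map_neg, map_add, map_smul, T.φ_D, T.φ_D]
  ψ_D := by
    rintro ⟨u, v⟩
    change (T.ψ (-(E.D u)), T.ψ (x • u + E.D v)) = (-(E''.D (T.ψ u)), x • T.ψ u + E''.D (T.ψ v))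
    rw [map_neg, map_add, map_smul, T.ψ_D, T.ψ_D]
  φ_mem := by
    rintro i j ⟨u, v⟩ hz
    exact ⟨T.φ_mem _ _ _ hz.1, T.φ_mem _ _ _ hz.2⟩
  ψ_mem := by
    rintro i j ⟨u, v⟩ hz
    exact ⟨T.ψ_mem _ _ _ hz.1, T.ψ_mem _ _ _ hz.2⟩
  inj := by
    rintro i j ⟨u, v⟩ hz h
    exact Prod.ext (T.inj _ _ _ hz.1 (Prod.ext_iff.1 h).1) (T.inj _ _ _ hz.2 (Prod.ext_iff.1 h).2)
  zero := by
    rintro ⟨u, v⟩
    exact Prod.ext (T.zero u) (T.zero v)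
  exact := by
    rintro i j ⟨u, v⟩ hz h
    obtain ⟨u', hu', hu⟩ := T.exact _ _ _ hz.1 (Prod.ext_iff.1 h).1
    obtain ⟨v', hv', hv⟩ := T.exact _ _ _ hz.2 (Prod.ext_iff.1 h).2
    exact ⟨(u', v'), ⟨hu', hv'⟩, Prod.ext hu hv⟩
  surj := by
    rintro i j ⟨u, v⟩ hz
    obtain ⟨u', hu', hu⟩ := T.surj _ _ _ hz.1
    obtain ⟨v', hv', hv⟩ := T.surj _ _ _ hz.2
    exact ⟨(u', v'), ⟨hu', hv'⟩, Prod.ext hu hv⟩

section LES

variable {E' : DC.{u, v₁, w} k S} {E : DC.{u, v₂, w} k S} {E'' : DC.{u, v₃, w} k S} (T : SES E' E E'')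

theorem SES.D_eq_zero_iff (hE' : E'.IsCx) {i j : ℤ} {z : E'.C} (hz : z ∈ E'.P i j) :
    E'.D z = 0 ↔ E.D (T.φ z) = 0 := by
  rw [← T.φ_D]
  exact ⟨fun h => by rw [h, map_zero], fun h => T.inj _ _ _ (hE'.D_mem _ _ _ hz) h⟩

include T

/-- vanishing in the middle -/
theorem SES.van_mid (hE' : E'.IsCx) (hE : E.IsCx) {i j : ℤ} (h' : E'.Van i j)
    (h'' : E''.Van i j) : E.Van i j := by
  intro z hz hDz
  obtain ⟨y'', hy'', hy⟩ := h'' (T.ψ z) (T.ψ_mem _ _ _ hz) (by rw [← T.ψ_D, hDz, map_zero])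
  obtain ⟨y, hy', rfl⟩ := T.surj _ _ _ hy''
  have hDy : E.D y ∈ E.P i j := by simpa using hE.D_mem _ _ _ hy'
  obtain ⟨z', hz', e⟩ := T.exact _ _ (z - E.D y) (sub_mem hz hDy) (by rw [map_sub, T.ψ_D, hy, sub_self])
  obtain ⟨w', hw', rfl⟩ := h' z' hz' ((T.D_eq_zero_iff hE' hz').2 (by rw [e, map_sub, hDz, hE.D_D, sub_zero]))
  refine ⟨y + T.φ w', add_mem hy' (T.φ_mem _ _ _ hw'), ?_⟩
  rw [map_add, ← T.φ_D, e, add_sub_cancel]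

/-- vanishing on the left -/
theorem SES.van_left (hE' : E'.IsCx) (hE : E.IsCx) {i j : ℤ} (h : E.Van i j) (h'' : E''.Van (i + 1) j) :
    E'.Van i j := by
  intro z' hz' hD
  obtain ⟨y, hy, e⟩ := h (T.φ z') (T.φ_mem _ _ _ hz') (by rw [← T.φ_D, hD, map_zero])
  obtain ⟨w'', hw'', e'⟩ := h'' (T.ψ y) (T.ψ_mem _ _ _ hy) (by rw [← T.ψ_D, e, T.zero])
  obtain ⟨w, hw, rfl⟩ := T.surj _ _ _ hw''
  have hDw : E.D w ∈ E.P (i + 1) j := by simpa using hE.D_mem _ _ _ hw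
  obtain ⟨y', hy', e''⟩ := T.exact _ _ (y - E.D w) (sub_mem hy hDw) (by rw [map_sub, T.ψ_D, e', sub_self])
  refine ⟨y', hy', ?_⟩
  have hDy' : E'.D y' ∈ E'.P i j := by simpa using hE'.D_mem _ _ _ hy'
  have h1 : T.φ (E'.D y' - z') = 0 := by
    rw [map_sub, T.φ_D, e'', map_sub, hE.D_D, sub_zero, e, sub_self]
  exact sub_eq_zero.1 (T.inj i j _ (sub_mem hDy' hz') h1)

/-- vanishing on the right -/
theorem SES.van_right (hE' : E'.IsCx) (hE : E.IsCx) {i j : ℤ} (h : E.Van i j) (h' : E'.Van (i - 1) j) :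
    E''.Van i j := by
  intro z'' hz'' hD
  obtain ⟨z, hz, rfl⟩ := T.surj _ _ _ hz''
  have hDz := hE.D_mem _ _ _ hz
  obtain ⟨z', hz', e⟩ := T.exact _ _ (E.D z) hDz (by rw [T.ψ_D, hD])
  obtain ⟨y', hy', rfl⟩ := h' z' hz' ((T.D_eq_zero_iff hE' hz').2 (by rw [e, hE.D_D]))
  rw [sub_add_cancel] at hy'
  obtain ⟨y, hy, e'⟩ := h (z - T.φ y') (sub_mem hz (T.φ_mem _ _ _ hy')) (by rw [map_sub, ← T.φ_D, e, sub_self])
  exact ⟨T.ψ y, T.ψ_mem _ _ _ hy, by rw [← T.ψ_D, e', map_sub, T.zero, sub_zero]⟩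

end LES

/-! ### Homology as a `k`-module -/

namespace DC

/-- cycles -/
def Z (E : DC.{u, v, w} k S) (i j : ℤ) : Submodule k E.C := E.P i j ⊓ LinearMap.ker (E.D.restrictScalars k)

/-- boundaries -/
def B (E : DC.{u, v, w} k S) (i j : ℤ) : Submodule k E.C := (E.P (i + 1) j).map (E.D.restrictScalars k)

theorem mem_Z {E : DC.{u, v, w} k S} {i j : ℤ} {z : E.C} : z ∈ E.Z i j ↔ z ∈ E.P i j ∧ E.D z = 0 := Iff.rfl

theorem mem_B {E : DC.{u, v, w} k S} {i j : ℤ} {z : E.C} : z ∈ E.B i j ↔ ∃ y ∈ E.P (i + 1) j, E.D y = z := Iff.rfl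

/-- homology -/
abbrev H (E : DC.{u, v, w} k S) (i j : ℤ) : Type v := ↥(E.Z i j) ⧸ (E.B i j).comap (E.Z i j).subtype

theorem van_iff (E : DC.{u, v, w} k S) (i j : ℤ) : E.Van i j ↔ Subsingleton (E.H i j) := by
  rw [Submodule.Quotient.subsingleton_iff, eq_top_iff]
  constructor
  · rintro h ⟨z, hz⟩ _
    exact h z hz.1 hz.2
  · intro h z hz hD
    exact @h ⟨z, hz, hD⟩ trivial

end DC

/-- two quotients of a module with the same kernel are isomorphic -/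
theorem equiv_of_ker_eq {W P Q : Type*} [AddCommGroup W] [Module k W] [AddCommGroup P] [Module k P]
    [AddCommGroup Q] [Module k Q] (α : W →ₗ[k] P) (β : W →ₗ[k] Q) (hα : Function.Surjective α)
    (hβ : Function.Surjective β) (h : LinearMap.ker α = LinearMap.ker β) : Nonempty (P ≃ₗ[k] Q) :=
  ⟨(α.quotKerEquivOfSurjective hα).symm.trans ((Submodule.quotEquivOfEq _ _ h).trans
    (β.quotKerEquivOfSurjective hβ))⟩

/-- comparison of homologies through a correspondence -/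
theorem DC.equiv_of_corr {E : DC.{u, v₁, w} k S} {F : DC.{u, v₂, w} k S} {i j i' j' : ℤ}
    (W : Submodule k (E.C × F.C)) (h1 : ∀ p ∈ W, p.1 ∈ E.Z i j) (h2 : ∀ p ∈ W, p.2 ∈ F.Z i' j')
    (s1 : ∀ z ∈ E.Z i j, ∃ p ∈ W, z - p.1 ∈ E.B i j) (s2 : ∀ z ∈ F.Z i' j', ∃ p ∈ W, z - p.2 ∈ F.B i' j')
    (h : ∀ p ∈ W, p.1 ∈ E.B i j ↔ p.2 ∈ F.B i' j') : Nonempty (E.H i j ≃ₗ[k] F.H i' j') := by
  let α : ↥W →ₗ[k] E.H i j := Submodule.mkQ _ ∘ₗ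
    ((LinearMap.fst k E.C F.C ∘ₗ W.subtype).codRestrict (E.Z i j) fun p => h1 p.1 p.2)
  let β : ↥W →ₗ[k] F.H i' j' := Submodule.mkQ _ ∘ₗ
    ((LinearMap.snd k E.C F.C ∘ₗ W.subtype).codRestrict (F.Z i' j') fun p => h2 p.1 p.2)
  refine equiv_of_ker_eq α β ?_ ?_ ?_
  · intro q
    obtain ⟨⟨z, hz⟩, rfl⟩ := Submodule.mkQ_surjective _ q
    obtain ⟨p, hp, e⟩ := s1 z hz
    refine ⟨⟨p, hp⟩, ?_⟩
    symm
    change Submodule.mkQ _ _ = Submodule.mkQ _ _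
    rw [← sub_eq_zero, ← map_sub, Submodule.mkQ_apply, Submodule.Quotient.mk_eq_zero]
    exact e
  · intro q
    obtain ⟨⟨z, hz⟩, rfl⟩ := Submodule.mkQ_surjective _ q
    obtain ⟨p, hp, e⟩ := s2 z hz
    refine ⟨⟨p, hp⟩, ?_⟩
    symm
    change Submodule.mkQ _ _ = Submodule.mkQ _ _
    rw [← sub_eq_zero, ← map_sub, Submodule.mkQ_apply, Submodule.Quotient.mk_eq_zero]
    exact e
  · ext ⟨p, hp⟩
    rw [LinearMap.mem_ker, LinearMap.mem_ker]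
    change Submodule.mkQ _ _ = 0 ↔ Submodule.mkQ _ _ = 0
    rw [Submodule.mkQ_apply, Submodule.Quotient.mk_eq_zero, Submodule.mkQ_apply, Submodule.Quotient.mk_eq_zero]
    exact h p hp

section Equiv

variable {E' : DC.{u, v₁, w} k S} {E : DC.{u, v₂, w} k S} {E'' : DC.{u, v₃, w} k S} (T : SES E' E E'')

theorem SES.exists_ψ_of_van {i j : ℤ} (h : E.Van i j) (z : E.C) (hz : z ∈ E.P i j) (hD : E.D z = 0) :
    ∃ y ∈ E''.P (i + 1) j, E''.D y = T.ψ z := by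
  obtain ⟨y, hy, e⟩ := h z hz hD
  exact ⟨_, T.ψ_mem _ _ _ hy, by rw [← T.ψ_D, e]⟩

theorem SES.exists_φ_of_van {i j : ℤ} (h : E.Van i j) (z : E'.C) (hz : z ∈ E'.P i j) (hD : E'.D z = 0) :
    ∃ y ∈ E.P (i + 1) j, E.D y = T.φ z :=
  h _ (T.φ_mem _ _ _ hz) (by rw [← T.φ_D, hD, map_zero])

/-- the connecting isomorphism -/
theorem SES.equiv_δ (hE' : E'.IsCx) (hE : E.IsCx) {i j : ℤ}
    (h1 : ∀ z ∈ E'.P i j, E'.D z = 0 → ∃ y ∈ E.P (i + 1) j, E.D y = T.φ z)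
    (h2 : ∀ z ∈ E.P (i + 1) j, E.D z = 0 → ∃ y ∈ E''.P (i + 1 + 1) j, E''.D y = T.ψ z) :
    Nonempty (E''.H (i + 1) j ≃ₗ[k] E'.H i j) := by
  let W : Submodule k (E.C × E'.C) :=
    { carrier := {p | p.1 ∈ E.P (i + 1) j ∧ p.2 ∈ E'.P i j ∧ E.D p.1 = T.φ p.2}
      zero_mem' := ⟨zero_mem _, zero_mem _, by rw [Prod.fst_zero, Prod.snd_zero, map_zero, map_zero]⟩
      add_mem' := fun {a b} ha hb => ⟨add_mem ha.1 hb.1, add_mem ha.2.1 hb.2.1, by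
        rw [Prod.fst_add, Prod.snd_add, map_add, map_add, ha.2.2, hb.2.2]⟩
      smul_mem' := fun c a ha => ⟨Submodule.smul_mem _ _ ha.1, Submodule.smul_mem _ _ ha.2.1, by
        rw [Prod.smul_fst, Prod.smul_snd, LinearMap.map_smul_of_tower, LinearMap.map_smul_of_tower, ha.2.2]⟩ }
  let W' : Submodule k (E''.C × E'.C) := W.map ((T.ψ.restrictScalars k).prodMap LinearMap.id)
  have hW' : ∀ p ∈ W', ∃ z, z ∈ E.P (i + 1) j ∧ p.2 ∈ E'.P i j ∧ E.D z = T.φ p.2 ∧ T.ψ z = p.1 := by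
    rintro p ⟨⟨a, b⟩, ⟨h1, h2, h3⟩, rfl⟩
    exact ⟨a, h1, h2, h3, rfl⟩
  have hW : ∀ z b, z ∈ E.P (i + 1) j → b ∈ E'.P i j → E.D z = T.φ b → (T.ψ z, b) ∈ W' :=
    fun z b hz hb h => ⟨(z, b), ⟨hz, hb, h⟩, rfl⟩
  refine DC.equiv_of_corr W' ?_ ?_ ?_ ?_ ?_
  · intro p hp
    obtain ⟨z, hz, hb, e, e'⟩ := hW' p hp
    exact DC.mem_Z.2 ⟨e' ▸ T.ψ_mem _ _ _ hz, by rw [← e', ← T.ψ_D, e, T.zero]⟩
  · intro p hp
    obtain ⟨z, hz, hb, e, e'⟩ := hW' p hp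
    exact DC.mem_Z.2 ⟨hb, (T.D_eq_zero_iff hE' hb).2 (by rw [← e, hE.D_D])⟩
  · intro z'' hz''
    obtain ⟨h, hD⟩ := DC.mem_Z.1 hz''
    obtain ⟨z, hz, rfl⟩ := T.surj _ _ _ h
    have hDz : E.D z ∈ E.P i j := by simpa using hE.D_mem _ _ _ hz
    obtain ⟨b, hb, e⟩ := T.exact _ _ (E.D z) hDz (by rw [T.ψ_D, hD])
    exact ⟨_, hW z b hz hb e.symm, by simp⟩
  · intro z' hz'
    obtain ⟨h, hD⟩ := DC.mem_Z.1 hz'
    obtain ⟨y, hy, e⟩ := h1 z' h hD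
    exact ⟨_, hW y z' hy h e, by simp⟩
  · intro p hp
    obtain ⟨z, hz, hb, e, e'⟩ := hW' p hp
    constructor
    · intro hB
      obtain ⟨y'', hy'', hy⟩ := DC.mem_B.1 hB
      obtain ⟨y, hy', rfl⟩ := T.surj _ _ _ hy''
      have hDy : E.D y ∈ E.P (i + 1) j := by simpa using hE.D_mem _ _ _ hy'
      obtain ⟨w', hw', ew⟩ := T.exact _ _ (z - E.D y) (sub_mem hz hDy) (by rw [map_sub, T.ψ_D, hy, e', sub_self])
      refine DC.mem_B.2 ⟨w', hw', ?_⟩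
      have hDw : E'.D w' ∈ E'.P i j := by simpa using hE'.D_mem _ _ _ hw'
      refine sub_eq_zero.1 (T.inj i j _ (sub_mem hDw hb) ?_)
      rw [map_sub, T.φ_D, ew, map_sub, hE.D_D, sub_zero, e, sub_self]
    · intro hB
      obtain ⟨w', hw', ew⟩ := DC.mem_B.1 hB
      obtain ⟨y'', hy'', ey⟩ := h2 (z - T.φ w') (sub_mem hz (T.φ_mem _ _ _ hw'))
        (by rw [map_sub, ← T.φ_D, ew, e, sub_self])
      refine DC.mem_B.2 ⟨y'', hy'', ?_⟩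
      rw [ey, map_sub, T.zero, sub_zero, e']

/-- the second map is an isomorphism on homology -/
theorem SES.equiv_ψ (hE' : E'.IsCx) (hE : E.IsCx) {i j : ℤ}
    (h1 : ∀ z ∈ E'.P i j, E'.D z = 0 → ∃ y ∈ E.P (i + 1) j, E.D y = T.φ z)
    (h2 : E'.Van (i - 1) j) :
    Nonempty (E.H i j ≃ₗ[k] E''.H i j) := by
  let W : Submodule k (E.C × E''.C) := (E.Z i j).map (LinearMap.id.prod (T.ψ.restrictScalars k))
  have hW' : ∀ p ∈ W, p.1 ∈ E.Z i j ∧ T.ψ p.1 = p.2 := by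
    rintro p ⟨a, h1, rfl⟩
    exact ⟨h1, rfl⟩
  have hW : ∀ z ∈ E.Z i j, (z, T.ψ z) ∈ W := fun z hz => ⟨z, hz, rfl⟩
  refine DC.equiv_of_corr W (fun p hp => (hW' p hp).1) ?_ ?_ ?_ ?_
  · intro p hp
    obtain ⟨h, e⟩ := hW' p hp
    obtain ⟨h3, h4⟩ := DC.mem_Z.1 h
    exact DC.mem_Z.2 ⟨e ▸ T.ψ_mem _ _ _ h3, by rw [← e, ← T.ψ_D, h4, map_zero]⟩
  · intro z hz
    exact ⟨_, hW z hz, by simp⟩
  · intro z'' hz''
    obtain ⟨h, hD⟩ := DC.mem_Z.1 hz''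
    obtain ⟨z, hz, rfl⟩ := T.surj _ _ _ h
    obtain ⟨b, hb, e⟩ := T.exact _ _ (E.D z) (hE.D_mem _ _ _ hz) (by rw [T.ψ_D, hD])
    obtain ⟨y', hy', rfl⟩ := h2 b hb ((T.D_eq_zero_iff hE' hb).2 (by rw [e, hE.D_D]))
    rw [sub_add_cancel] at hy'
    refine ⟨_, hW (z - T.φ y') (DC.mem_Z.2 ⟨sub_mem hz (T.φ_mem _ _ _ hy'), ?_⟩), ?_⟩
    · rw [map_sub, ← T.φ_D, e, sub_self]
    · change T.ψ z - T.ψ (z - T.φ y') ∈ _
      rw [map_sub, T.zero, sub_zero, sub_self]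
      exact zero_mem _
  · intro p hp
    obtain ⟨h, e⟩ := hW' p hp
    obtain ⟨h3, h4⟩ := DC.mem_Z.1 h
    constructor
    · intro hB
      obtain ⟨y, hy, ey⟩ := DC.mem_B.1 hB
      exact DC.mem_B.2 ⟨T.ψ y, T.ψ_mem _ _ _ hy, by rw [← T.ψ_D, ey, e]⟩
    · intro hB
      obtain ⟨y'', hy'', hy⟩ := DC.mem_B.1 hB
      obtain ⟨y, hy', rfl⟩ := T.surj _ _ _ hy''
      have hDy : E.D y ∈ E.P i j := by simpa using hE.D_mem _ _ _ hy'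
      obtain ⟨w', hw', ew⟩ := T.exact _ _ (p.1 - E.D y) (sub_mem h3 hDy) (by rw [map_sub, T.ψ_D, hy, e, sub_self])
      obtain ⟨v, hv, ev⟩ := h1 w' hw' ((T.D_eq_zero_iff hE' hw').2 (by rw [ew, map_sub, h4, hE.D_D, sub_zero]))
      exact DC.mem_B.2 ⟨y + v, add_mem hy' hv, by rw [map_add, ev, ew, add_sub_cancel]⟩

end Equiv

end K860.Kos
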