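import Groth.Agent.GrSyz.K860.KosMul

/-!
# Koszul homology of a module and of the module of linear relations

`van_of_T` : if `B` is the kernel of `(a_t) ↦ ∑ x_t a_t`, `A(-1)^n → A`, then `κ_{i-1, j}(B) = 0` implies
`κ_{i, j}(A) = 0` provided the piece of degree `j - i` of `A` is contained in `∑ x_t A`.
-/

set_option autoImplicit false
set_option linter.unusedSectionVars false
universe u v v₁ v₂ v₃ w

namespace K860.Kos

open DC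

variable {k : Type u} {S : Type w} [CommRing k] [CommRing S] [Algebra k S]

section Map

variable {M : Type v₁} [AddCommGroup M] [Module k M] [Module S M] [IsScalarTower k S M]
  {N : Type v₂} [AddCommGroup N] [Module k N] [Module S N] [IsScalarTower k S N]
  (x : ℕ → S) {ℳ : ℤ → Submodule k M} {𝒩 : ℤ → Submodule k N}

theorem kmap_mem_at {φ : M →ₗ[S] N} {a : ℤ} : ∀ (s : ℕ) (i j : ℤ) (_ : ∀ m ∈ ℳ (j - i), φ m ∈ 𝒩 (j - i + a))
    (z : (kos x ℳ s).C), z ∈ (kos x ℳ s).P i j → kmap x ℳ 𝒩 φ s z ∈ (kos x 𝒩 s).P i (j + a)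
  | 0, i, j, hφ, z, hz => by
    have hz' := (mem_base_P ℳ i j z).1 hz
    refine (mem_base_P 𝒩 i (j + a) (φ z)).2 ⟨?_, fun h => by rw [hz'.2 h, map_zero]⟩
    by_cases hi : i = 0
    · subst hi
      rw [sub_zero] at hφ
      exact hφ _ hz'.1
    · rw [hz'.2 hi, map_zero]
      exact zero_mem _
  | s + 1, i, j, hφ, (u, v), hz => by
    refine ⟨?_, kmap_mem_at s _ _ hφ _ hz.2⟩
    have := kmap_mem_at (φ := φ) (a := a) s (i - 1) (j - 1) (by rwa [sub_sub_sub_cancel_right]) _ hz.1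
    rwa [show j - 1 + a = j + a - 1 by ring] at this

theorem kmap_add (φ φ' : M →ₗ[S] N) : ∀ (s : ℕ) (z : (kos x ℳ s).C),
    kmap x ℳ 𝒩 (φ + φ') s z = kmap x ℳ 𝒩 φ s z + kmap x ℳ 𝒩 φ' s z
  | 0, _ => rfl
  | s + 1, (u, v) => Prod.ext (kmap_add φ φ' s u) (kmap_add φ φ' s v)

theorem kmap_zero : ∀ (s : ℕ) (z : (kos x ℳ s).C), kmap x ℳ 𝒩 (0 : M →ₗ[S] N) s z = 0
  | 0, _ => rfl
  | s + 1, (u, v) => Prod.ext (kmap_zero s u) (kmap_zero s v)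

theorem kmap_sum {ι : Type*} (J : Finset ι) (φ : ι → (M →ₗ[S] N)) (s : ℕ) (z : (kos x ℳ s).C) :
    kmap x ℳ 𝒩 (∑ t ∈ J, φ t) s z = ∑ t ∈ J, kmap x ℳ 𝒩 (φ t) s z := by
  classical
  induction J using Finset.induction_on with
  | empty => rw [Finset.sum_empty, Finset.sum_empty, kmap_zero]
  | insert a J ha ih => rw [Finset.sum_insert ha, Finset.sum_insert ha, kmap_add, ih]

theorem kos_ψ_eq {M' : Type v₃} [AddCommGroup M'] [Module k M'] [Module S M'] [IsScalarTower k S M']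
    {ℳ' : ℤ → Submodule k M'} {φ : M' →ₗ[S] M} {ψ : M →ₗ[S] N} (T : MSES ℳ' ℳ 𝒩 φ ψ) :
    ∀ (s : ℕ) (z : (kos x ℳ s).C), (T.kos x s).ψ z = kmap x ℳ 𝒩 ψ s z
  | 0, _ => rfl
  | s + 1, (u, v) => Prod.ext (kos_ψ_eq T s u) (kos_ψ_eq T s v)

end Map

section T

variable {A : Type v₁} [AddCommGroup A] [Module k A] [Module S A] [IsScalarTower k S A]
  {B : Type v₂} [AddCommGroup B] [Module k B] [Module S B] [IsScalarTower k S B]
  (x : ℕ → S) {𝒜 : ℤ → Submodule k A} {ℬ : ℤ → Submodule k B} {n : ℕ} {φ : B →ₗ[S] (Fin n → A)}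

theorem van_of_T (hinj : Function.Injective φ) (hφ : ∀ j b, b ∈ ℬ j → ∀ t, φ b t ∈ 𝒜 (j - 1))
    (hzero : ∀ b, ∑ t : Fin n, x t • φ b t = 0)
    (hker : ∀ j (w : Fin n → A), (∀ t, w t ∈ 𝒜 (j - 1)) → ∑ t : Fin n, x t • w t = 0 → ∃ b ∈ ℬ j, φ b = w)
    (hx : ∀ t j m, m ∈ 𝒜 j → x t • m ∈ 𝒜 (j + 1)) (hxB : ∀ t j m, m ∈ ℬ j → x t • m ∈ ℬ (j + 1))
    {i j : ℤ} (hgen : ∀ a ∈ 𝒜 (j - i), ∃ w : Fin n → A, (∀ t, w t ∈ 𝒜 (j - i - 1)) ∧ ∑ t : Fin n, x t • w t = a)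
    {s : ℕ} (hs : n ≤ s) (hV : (kos x ℬ s).Van (i - 1) j) : (kos x 𝒜 s).Van i j := by
  let ψ : (Fin n → A) →ₗ[S] A := ∑ t : Fin n, x t • LinearMap.proj t
  have hψ : ∀ w, ψ w = ∑ t : Fin n, x t • w t := fun w => by simp [ψ, LinearMap.sum_apply]
  let 𝒱 : ℤ → Submodule k (Fin n → A) := fun j => Submodule.pi Set.univ fun _ => 𝒜 (j - 1)
  have h𝒱 : ∀ j w, w ∈ 𝒱 j ↔ ∀ t, w t ∈ 𝒜 (j - 1) := fun j w => by simp [𝒱, Submodule.mem_pi]
  let 𝒜' : ℤ → Submodule k A := fun j => (𝒱 j).map (ψ.restrictScalars k)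
  have T : MSES ℬ 𝒱 𝒜' φ ψ :=
    { φ_mem := fun j b hb => (h𝒱 _ _).2 (hφ j b hb)
      ψ_mem := fun j w hw => ⟨w, hw, rfl⟩
      inj := fun _ b _ h => hinj (h.trans (map_zero φ).symm)
      zero := fun b => by rw [hψ, hzero]
      exact := fun j w hw h => hker j w ((h𝒱 _ _).1 hw) (by rw [← hψ, h])
      surj := fun j z hz => hz }
  have h1 : ∀ m ∈ 𝒜 (j - i), m ∈ 𝒜' (j - i) := fun m hm => by
    obtain ⟨w, hw, rfl⟩ := hgen m hm
    exact ⟨w, (h𝒱 _ _).2 hw, hψ w⟩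
  have hx𝒱 : ∀ t j m, m ∈ 𝒱 j → x t • m ∈ 𝒱 (j + 1) := fun t j m hm => by
    rw [h𝒱] at hm ⊢
    intro l
    have := hx t _ _ (hm l)
    rwa [show j - 1 + 1 = j + 1 - 1 by ring] at this
  have hEB := isCx_kos hxB s
  have hE𝒱 := isCx_kos hx𝒱 s
  intro z hz hD
  have hz' : kmap x 𝒜 𝒜' LinearMap.id s z ∈ (kos x 𝒜' s).P i j := by
    have := kmap_mem_at (x := x) (φ := LinearMap.id) (ℳ := 𝒜) (𝒩 := 𝒜') (a := 0) s i j (by simpa using h1) z hz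
    rwa [add_zero] at this
  have hD' : (kos x 𝒜' s).D (kmap x 𝒜 𝒜' LinearMap.id s z) = 0 := by rw [← kmap_D, hD, map_zero]
  obtain ⟨w, hw, ew⟩ := (T.kos x s).surj _ _ _ hz'
  have hDw : (kos x 𝒱 s).D w ∈ (kos x 𝒱 s).P (i - 1) j := hE𝒱.D_mem _ _ _ hw
  obtain ⟨b, hb, eb⟩ := (T.kos x s).exact _ _ _ hDw (by rw [(T.kos x s).ψ_D, ew, hD'])
  obtain ⟨b', hb', eb'⟩ := hV b hb (((T.kos x s).D_eq_zero_iff hEB hb).2 (by rw [eb, hE𝒱.D_D]))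
  rw [sub_add_cancel] at hb'
  let w' := w - (T.kos x s).φ b'
  have hw' : w' ∈ (kos x 𝒱 s).P i j := sub_mem hw ((T.kos x s).φ_mem _ _ _ hb')
  have hDw' : (kos x 𝒱 s).D w' = 0 := by
    change (kos x 𝒱 s).D (w - (T.kos x s).φ b') = 0
    rw [map_sub, ← (T.kos x s).φ_D, eb', eb, sub_self]
  have hψw' : kmap x 𝒱 𝒜' ψ s w' = kmap x 𝒜 𝒜' LinearMap.id s z := by
    rw [← kos_ψ_eq x T]
    change (T.kos x s).ψ (w - (T.kos x s).φ b') = _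
    rw [map_sub, (T.kos x s).zero, sub_zero, ew]
  -- the components of `w'` are cycles
  have key : ∀ t : Fin n, ∃ y ∈ (kos x 𝒜 s).P (i + 1) j,
      (kos x 𝒜 s).D y = x t • kmap x 𝒱 𝒜 (LinearMap.proj t) s w' := by
    intro t
    have h2 : kmap x 𝒱 𝒜 (LinearMap.proj t) s w' ∈ (kos x 𝒜 s).P i (j + -1) :=
      kmap_mem x (fun j m hm => by
        have := (h𝒱 _ _).1 hm t
        rwa [sub_eq_add_neg] at this) s i j w' hw'
    have h3 : (kos x 𝒜 s).Null (x t) := null_kos (lt_of_lt_of_le t.2 hs)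
    obtain ⟨y, hy, ey⟩ := h3.null'.exists_D_eq_smul h2 (by rw [← kmap_D, hDw', map_zero])
    rw [neg_add_cancel_right] at hy
    exact ⟨y, hy, ey⟩
  choose y hy ey using key
  refine ⟨∑ t, y t, sum_mem fun t _ => hy t, ?_⟩
  rw [map_sum, ← kmap_id_id (ℳ' := 𝒜') x s z, ← hψw', kmap_comp, LinearMap.id_comp]
  change _ = kmap x 𝒱 𝒜 (∑ t : Fin n, x t • LinearMap.proj t) s w'
  rw [kmap_sum]
  refine Finset.sum_congr rfl fun t _ => ?_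
  rw [ey, kmap_smul]

end T

end K860.Kos
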