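import Groth.Agent.GrSyz.K860.GLoc

/-!
# Graded local cohomology is computed by the ordered Čech complex

`Hcomp_eq_bot_iff`: `H^{q+1}_a(M)_g = 0` iff every homogeneous Čech cocycle of degree `g` on `(q+1)`-fold products
is the coboundary of a homogeneous cochain of degree `g`.
-/

set_option autoImplicit false
set_option linter.unusedVariables false
set_option linter.unusedSectionVars false
universe u

open CategoryTheory CategoryTheory.Limits GrLC K963 K963.Cat K963.Loc
open scoped K963.Cat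

namespace K860.LCech

open GLoc

section Add

variable {C D : Type*} [Category* C] [Category* D] [Abelian C] [Abelian D] [HasInjectiveResolutions C]
  (F : C ⥤ D) [F.Additive]

theorem rd_map_add (n : ℕ) {X Y : C} (f g : X ⟶ Y) :
    (F.rightDerived n).map (f + g) = (F.rightDerived n).map f + (F.rightDerived n).map g := by
  have h := fun f : X ⟶ Y => F.rightDerived_map_eq n f (P := injectiveResolution X) (Q := injectiveResolution Y)
    (InjectiveResolution.desc f _ _) (InjectiveResolution.desc_commutes f _ _)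
  rw [F.rightDerived_map_eq n (f + g) (P := injectiveResolution X) (Q := injectiveResolution Y)
    (InjectiveResolution.desc f _ _ + InjectiveResolution.desc g _ _)
    (by
      rw [Preadditive.comp_add, InjectiveResolution.desc_commutes, InjectiveResolution.desc_commutes,
        Functor.map_add, Preadditive.add_comp]), h f, h g, Functor.map_add, Preadditive.add_comp,
    Preadditive.comp_add]

theorem rd_map_sum (n : ℕ) {X Y : C} {T : Type*} (s : Finset T) (f : T → (X ⟶ Y)) :
    (F.rightDerived n).map (∑ t ∈ s, f t) = ∑ t ∈ s, (F.rightDerived n).map (f t) := by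
  classical
  induction s using Finset.induction_on with
  | empty => rw [Finset.sum_empty, Finset.sum_empty, Iface.rightDerived_map_zero]
  | insert a s ha ih => rw [Finset.sum_insert ha, Finset.sum_insert ha, rd_map_add, ih]

end Add

variable {ι : Type} [AddCommGroup ι] [DecidableEq ι]
variable {R : Type u} [CommRing R] {σ : Type u} [SetLike σ R] [AddSubgroupClass σ R]
variable {𝒜 : ι → σ} [GradedRing 𝒜]

theorem lin_sum {X Y : GMod.{u} 𝒜} {T : Type*} (s : Finset T) (f : T → (X ⟶ Y)) (x : X.carrier) :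
    lin (∑ t ∈ s, f t) x = ∑ t ∈ s, lin (f t) x := by
  classical
  induction s using Finset.induction_on with
  | empty => simp
  | insert a s ha ih => rw [Finset.sum_insert ha, Finset.sum_insert ha, Cat.lin_add, LinearMap.add_apply, ih]

/-- a summand of modules without local cohomology has no local cohomology -/
theorem hv_of_sum (a : HomogeneousIdeal 𝒜) {K : GMod.{u} 𝒜} {T : Type*} (I : Finset T) (Y : T → GMod.{u} 𝒜)
    (p : ∀ s, K ⟶ Y s) (q : ∀ s, Y s ⟶ K) (hsum : ∀ x, ∑ s ∈ I, lin (q s) (lin (p s) x) = x)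
    (hY : ∀ s ∈ I, Iface.HV a (Y s)) : Iface.HV a K := by
  intro i
  rw [IsZero.iff_id_eq_zero]
  have h1 : 𝟙 K = ∑ s ∈ I, p s ≫ q s := by
    refine hom_ext fun x => ?_
    rw [lin_sum]
    exact (hsum x).symm
  rw [← CategoryTheory.Functor.map_id, h1, rd_map_sum]
  refine Finset.sum_eq_zero fun s hs => ?_
  rw [Functor.map_comp, (hY s hs i).eq_of_tgt (((Gam a).rightDerived i).map (p s)) 0, zero_comp]

section Pi

variable {T : Type} [Fintype T] (X : T → GMod.{u} 𝒜)

/-- finite products of graded modules -/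
noncomputable def piObj : GMod.{u} 𝒜 where
  carrier := ∀ s, (X s).carrier
  gr g :=
    { carrier := {c | ∀ s, c s ∈ (X s).gr g}
      zero_mem' := fun s => zero_mem _
      add_mem' := fun hc hc' s => add_mem (hc s) (hc' s)
      neg_mem' := fun hc s => neg_mem (hc s) }
  dec := Dec.ofProj _ (fun g c s => Dec.proj (X s).gr g (c s))
    (fun g c s => Dec.proj_mem _ _ _)
    (fun g c c' => funext fun s => map_add _ _ _)
    (fun g h c hc hgh => funext fun s => Dec.proj_of_mem_ne _ (hc s) hgh)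
    (fun c => by
      classical
      choose t ht ht' using fun s => Dec.sum_proj (X s).gr (c s)
      refine ⟨Finset.univ.biUnion t, fun g hg => funext fun s => ?_, funext fun s => ?_⟩
      · refine ht s g fun h => hg ?_
        exact Finset.mem_biUnion.2 ⟨s, Finset.mem_univ _, h⟩
      · rw [Finset.sum_apply]
        refine (ht' s).trans (Finset.sum_subset (Finset.subset_biUnion_of_mem t (Finset.mem_univ s)) ?_)
        intro g _ hg
        exact ht s g hg)
  gsmul := ⟨fun {g h} r c hr hc s => SetLike.GradedSMul.smul_mem (A := 𝒜) (B := (X s).gr) hr (hc s)⟩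

theorem mem_piObj {g : ι} {c : ∀ s, (X s).carrier} : c ∈ (piObj X).gr g ↔ ∀ s, c s ∈ (X s).gr g := Iff.rfl

/-- evaluation -/
noncomputable def ev (s : T) : piObj X ⟶ X s :=
  Cat.mk (LinearMap.proj s : (∀ s, (X s).carrier) →ₗ[R] (X s).carrier)
    (fun g c hc => (hc : ∀ s, (show ∀ s, (X s).carrier from c) s ∈ (X s).gr g) s)

theorem piObj_proj (g : ι) (c : (piObj X).carrier) (s : T) :
    lin (ev X s) (Dec.proj (piObj X).gr g c) = Dec.proj (X s).gr g (lin (ev X s) c) :=
  Cat.map_proj (ev X s) g c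

end Pi

section Cech

variable {J : Type} [LinearOrder J] [Fintype J] (x : J → R) {δ : J → ι} (hx : ∀ j, x j ∈ 𝒜 (δ j))
  (X : GMod.{u} 𝒜)

/-- elements supported in cardinality `n` -/
noncomputable def CC (n : ℕ) : Submodule R (piObj (XO x hx X)).carrier := (sys x hx X).C n

theorem C_homog (n : ℕ) : (CC x hx X n).IsHomogeneous (piObj (XO x hx X)).gr := by
  intro g c hc s hs
  have h := piObj_proj (XO x hx X) g c s
  refine h.trans ?_
  have hc' : lin (ev (XO x hx X) s) c = 0 := hc s hs
  rw [hc', map_zero]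
  rfl

/-- the terms of the Čech complex -/
noncomputable def KO (n : ℕ) : GMod.{u} 𝒜 := subObj (piObj (XO x hx X)) (CC x hx X n) (C_homog x hx X n)

theorem d_gr {g : ι} {c : ∀ s, (sys x hx X).X s} (hc : ∀ s, c s ∈ (XO x hx X s).gr g) (s : Finset J) :
    (sys x hx X).d c s ∈ (XO x hx X s).gr g := by
  have h : ∑ i ∈ s, Groth.Agent.Ega3B.Cube.sgn i s •
      (show (XO x hx X s).carrier from (sys x hx X).tot c s (s.erase i)) ∈ (XO x hx X s).gr g := by
    refine sum_mem fun i hi => zsmul_mem ?_ _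
    have e := FSys.Sys.tot_of (sys x hx X) (c := c) (Finset.erase_subset i s)
    have h2 : lin (rr x hx X (Finset.erase_subset i s)) (c (s.erase i)) ∈ (XO x hx X s).gr g :=
      isGrHom (rr x hx X (Finset.erase_subset i s)) g _ (hc _)
    exact (congrArg (fun z => z ∈ (XO x hx X s).gr g) e).mpr h2
  exact h

/-- the differential -/
noncomputable def dd (n : ℕ) : (KO x hx X n).carrier →ₗ[R] (KO x hx X (n + 1)).carrier :=
  (sys x hx X).d.restrict (fun c hc => (sys x hx X).d_mem hc)

theorem dd_gr (n : ℕ) : IsGrHom (KO x hx X n).gr (KO x hx X (n + 1)).gr (dd x hx X n) := by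
  intro g c hc
  exact d_gr x hx X hc

theorem dd_dd (n : ℕ) (c : (KO x hx X n).carrier) : dd x hx X (n + 1) (dd x hx X n c) = 0 :=
  Subtype.ext ((sys x hx X).d_d c.1)

theorem XO_hv (a : HomogeneousIdeal 𝒜) (ha : ∀ j, x j ∈ a.toIdeal) {s : Finset J} (hs : s.Nonempty) :
    Iface.HV a (XO x hx X s) := by
  obtain ⟨i, hi⟩ := hs
  exact (Iface.Good.bij (s := {y | y = x i}) _ (x i) rfl (XO_bij_mem x hx X hi)).hv
    (fun y hy => by
      rw [Set.mem_ofPred_eq] at hy
      subst hy
      exact ⟨ha i, δ i, hx i⟩)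

theorem KO_hv (a : HomogeneousIdeal 𝒜) (ha : ∀ j, x j ∈ a.toIdeal) (n : ℕ) :
    Iface.HV a (KO x hx X (n + 1)) := by
  classical
  let p : ∀ s : Finset J, KO x hx X (n + 1) ⟶ XO x hx X s := fun s =>
    Cat.mk (LinearMap.proj s ∘ₗ ((sys x hx X).C (n + 1)).subtype) (fun g c hc => hc s)
  let q : ∀ s : Finset J, XO x hx X s ⟶ KO x hx X (n + 1) := fun s =>
    if h : s.card = n + 1 then
      Cat.mk (LinearMap.codRestrict ((sys x hx X).C (n + 1))
        (LinearMap.single R (fun s => (XO x hx X s).carrier) s) (fun y t ht => by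
          have hst : t ≠ s := fun e => ht (by rw [e, h])
          exact Pi.single_eq_of_ne hst _)) (fun g y hy t => by
          change Pi.single (M := fun s => (XO x hx X s).carrier) s y t ∈ _
          by_cases hts : t = s
          · subst hts
            rw [Pi.single_eq_same]
            exact hy
          · rw [Pi.single_eq_of_ne hts]
            exact zero_mem _)
    else 0
  refine hv_of_sum a (Finset.univ.filter fun s : Finset J => s.card = n + 1) (XO x hx X) p q (fun c => ?_)
    (fun s hs => ?_)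
  · obtain ⟨c, hc⟩ := c
    change ∀ s, (XO x hx X s).carrier at c
    apply Subtype.ext
    funext t
    have h1 : ∀ s ∈ Finset.univ.filter (fun s : Finset J => s.card = n + 1),
        ((lin (q s) (lin (p s) ⟨c, hc⟩) : (KO x hx X (n + 1)).carrier) : (sys x hx X).C (n + 1)).1 t =
        Pi.single (M := fun s => (XO x hx X s).carrier) s (c s) t := by
      intro s hs
      have hs' := (Finset.mem_filter.1 hs).2
      simp only [q, dif_pos hs']
      rfl
    have h2 : (((∑ s ∈ Finset.univ.filter (fun s : Finset J => s.card = n + 1),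
        lin (q s) (lin (p s) ⟨c, hc⟩) : (KO x hx X (n + 1)).carrier)) : (sys x hx X).C (n + 1)).1 t =
        ∑ s ∈ Finset.univ.filter (fun s : Finset J => s.card = n + 1),
          ((lin (q s) (lin (p s) ⟨c, hc⟩) : (KO x hx X (n + 1)).carrier) : (sys x hx X).C (n + 1)).1 t := by
      exact map_sum ((LinearMap.proj t : (∀ s, (XO x hx X s).carrier) →ₗ[R] _) ∘ₗ
        ((sys x hx X).C (n + 1)).subtype) _ _
    refine h2.trans ?_
    rw [Finset.sum_congr rfl h1]
    by_cases ht : t.card = n + 1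
    · rw [Finset.sum_eq_single t, Pi.single_eq_same]
      · intro s _ hst
        exact Pi.single_eq_of_ne (Ne.symm hst) _
      · intro h
        exact absurd (Finset.mem_filter.2 (⟨Finset.mem_univ t, ht⟩ : t ∈ Finset.univ ∧ t.card = n + 1)) h
    · refine Eq.trans (Finset.sum_eq_zero ?_) (hc t ht : c t = 0).symm
      intro s hs
      refine Pi.single_eq_of_ne (fun e => ht ?_) _
      rw [e]; exact (Finset.mem_filter.1 hs).2
  · have hs' := (Finset.mem_filter.1 hs).2
    exact XO_hv x hx X a ha (Finset.card_pos.1 (by omega))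

/-- the augmentation -/
noncomputable def aug : X ⟶ KO x hx X 0 :=
  Cat.mk (LinearMap.codRestrict ((sys x hx X).C 0)
    (LinearMap.pi fun s : Finset J => if s.card = 0 then lin (tl x hx X s) else 0)
    (fun y t ht => by
      change (if t.card = 0 then lin (tl x hx X t) else 0) y = 0
      rw [if_neg ht]; rfl)) (fun g y hy t => by
      change (if t.card = 0 then lin (tl x hx X t) else 0) y ∈ _
      by_cases ht : t.card = 0
      · rw [if_pos ht]; exact isGrHom (tl x hx X t) g y hy
      · rw [if_neg ht]; exact zero_mem _)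

theorem aug_apply (y : X.carrier) {t : Finset J} (ht : t.card = 0) :
    ((lin (aug x hx X) y : (KO x hx X 0).carrier) : (sys x hx X).C 0).1 t = lin (tl x hx X t) y := by
  change (if t.card = 0 then lin (tl x hx X t) else 0) y = _
  rw [if_pos ht]

theorem aug_bijective : Function.Bijective (lin (aug x hx X)) := by
  constructor
  · rw [injective_iff_map_eq_zero]
    intro y hy
    have h1 := aug_apply x hx X y (t := ∅) rfl
    have h2 : lin (tl x hx X ∅) y = 0 := by
      rw [← h1, hy]; rfl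
    obtain ⟨n, hn⟩ := (tl_eq_zero_iff x hx X ∅ y).1 h2
    simpa [xs] using hn
  · rintro ⟨c, hc⟩
    obtain ⟨n, y, hy⟩ := exists_frac x hx X ∅ (c ∅)
    refine ⟨y, Subtype.ext (funext fun t => ?_)⟩
    by_cases ht : t.card = 0
    · refine (aug_apply x hx X y ht).trans ?_
      obtain rfl : t = ∅ := Finset.card_eq_zero.1 ht
      rw [← hy]
      simp [xs]
    · refine Eq.trans ?_ (hc t ht : c t = 0).symm
      change (if t.card = 0 then lin (tl x hx X t) else 0) y = 0
      rw [if_neg ht]; rfl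

variable [IsNoetherianRing R] (a : HomogeneousIdeal 𝒜) (ha : ∀ j, x j ∈ a.toIdeal)
  (har : a.toIdeal ≤ (Ideal.span (Set.range x)).radical)

include har in
theorem pow_smul_mem {M : Type u} [AddCommGroup M] [Module R M] (P : Submodule R M) (k : M)
    (h : ∀ j, ∃ N : ℕ, x j ^ N • k ∈ P) : ∃ n : ℕ, ∀ r ∈ a.toIdeal ^ n, r • k ∈ P := by
  have e : {y | y ∈ (Finset.univ : Finset J).toList.map x} = Set.range x := by
    ext y; simp
  refine Loc.exists_pow_smul_mem' a ((Finset.univ : Finset J).toList.map x) (by rw [e]; exact har) P k ?_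
  intro y hy
  obtain ⟨j, -, rfl⟩ := List.mem_map.1 hy
  exact h j

include har in
theorem tors0 (c : (KO x hx X 0).carrier) (hc : dd x hx X 0 c = 0) :
    c ∈ gam a.toIdeal (KO x hx X 0).carrier := by
  obtain ⟨c, hc0⟩ := c
  change ∀ s, (sys x hx X).X s at c
  have hd : (sys x hx X).d c = 0 := congrArg Subtype.val hc
  refine (pow_smul_mem x a har (⊥ : Submodule R (KO x hx X 0).carrier) ⟨c, hc0⟩ fun j => ?_)
  have h1 : (sys x hx X).d c {j} = 0 := by rw [hd]; rfl
  rw [FSys.Sys.d_apply, Finset.sum_singleton, Finset.erase_singleton,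
    FSys.Sys.tot_of _ (Finset.empty_subset _)] at h1
  have h2 : lin (rr x hx X (Finset.empty_subset {j})) (c ∅) = 0 := by
    have h3 := congrArg (fun z => Groth.Agent.Ega3B.Cube.sgn j {j} • z) h1
    simp only [smul_smul, Groth.Agent.Ega3B.Cube.sgn_mul_self, one_smul, smul_zero] at h3
    exact h3
  obtain ⟨n, hn⟩ := sys_ker x hx X (i := j) (t := ∅) (by simp) (c ∅) h2
  refine ⟨n, (Submodule.mem_bot R).2 (Subtype.ext (funext fun t => ?_))⟩
  change x j ^ n • c t = 0
  by_cases ht : t.card = 0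
  · obtain rfl : t = ∅ := Finset.card_eq_zero.1 ht
    exact hn
  · have : c t = 0 := hc0 t ht
    rw [this, smul_zero]

include har in
theorem tors (n : ℕ) (c : (KO x hx X (n + 1)).carrier) (hc : dd x hx X (n + 1) c = 0) :
    ∃ m, ∀ r ∈ a.toIdeal ^ m, r • c ∈ LinearMap.range (dd x hx X n) := by
  obtain ⟨c, hc0⟩ := c
  have hd : (sys x hx X).d c = 0 := congrArg Subtype.val hc
  refine (pow_smul_mem x a har (LinearMap.range (dd x hx X n)) (⟨c, hc0⟩ : (KO x hx X (n + 1)).carrier)
    fun j => ?_)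
  obtain ⟨m, y, hy, h⟩ := (sys x hx X).torsion j (x j) (fun t ht y hy => sys_ker x hx X ht y hy)
    (fun t ht z => sys_surj x hx X ht z) c hc0 hd
  exact ⟨m, ⟨y, hy⟩, Subtype.ext h.symm⟩

include ha har in
/-- the piece of degree `g` of the graded local cohomology vanishes iff the degree `g` part of the Čech complex is
exact -/
theorem Hcomp_eq_bot_iff' (E : StarInjRes 𝒜 (KO x hx X 0).gr) (q : ℕ) (g : ι) :
    E.Hcomp a (q + 1) g = ⊥ ↔ ∀ c ∈ (sys x hx X).C (q + 1), (∀ s, c s ∈ (XO x hx X s).gr g) →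
      (sys x hx X).d c = 0 → ∃ b ∈ (sys x hx X).C q, (∀ s, b s ∈ (XO x hx X s).gr g) ∧
        (sys x hx X).d b = c := by
  obtain ⟨-, h⟩ := Iface.comparison a (KO x hx X) (dd x hx X) (dd_gr x hx X) (dd_dd x hx X)
    (tors0 x hx X a har) (tors x hx X a har)
    (fun n E q => (KO_hv x hx X a ha n).subsingleton E q) E
  obtain ⟨φ, hφ, hker, hgr, hgr'⟩ := h q
  constructor
  · intro hbot c hc hcg hdc
    have hz : dd x hx X (q + 1) ⟨c, hc⟩ = 0 := Subtype.ext hdc
    have h1 : φ ⟨⟨c, hc⟩, hz⟩ ∈ E.Hcomp a (q + 1) g := hgr _ g hcg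
    rw [hbot, Submodule.mem_bot] at h1
    have h2 : (⟨⟨c, hc⟩, hz⟩ : LinearMap.ker (dd x hx X (q + 1))) ∈ LinearMap.ker φ := h1
    rw [hker] at h2
    obtain ⟨b, hb⟩ := h2
    refine ⟨(Dec.proj (KO x hx X q).gr g b).1, (Dec.proj (KO x hx X q).gr g b).2,
      Dec.proj_mem (KO x hx X q).gr g b, ?_⟩
    have h3 := Dec.map_proj (KO x hx X q).gr (KO x hx X (q + 1)).gr (dd x hx X q) (dd_gr x hx X q) g b
    have h4 : dd x hx X q b = ⟨c, hc⟩ := hb
    have h5 : Dec.proj (KO x hx X (q + 1)).gr g (dd x hx X q b) = ⟨c, hc⟩ := by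
      rw [h4]
      exact Dec.proj_of_mem _ hcg
    exact congrArg Subtype.val (h3.trans h5)
  · intro H
    refine (Submodule.eq_bot_iff _).2 fun y hy => ?_
    obtain ⟨c, hcg, rfl⟩ := hgr' g y hy
    obtain ⟨b, hb, -, hbc⟩ := H c.1.1 c.1.2 hcg (congrArg Subtype.val c.2)
    have : c ∈ LinearMap.ker φ := by
      rw [hker]
      exact ⟨⟨b, hb⟩, Subtype.ext hbc⟩
    exact this

end Cech

section Main

variable {M : Type u} [AddCommGroup M] [Module R M] {τ : Type u} [SetLike τ M] [AddSubgroupClass τ M]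
  (ℳ : ι → τ) [DirectSum.Decomposition ℳ] [SetLike.GradedSMul 𝒜 ℳ]
variable {J : Type} [LinearOrder J] [Fintype J] (x : J → R) {δ : J → ι} (hx : ∀ j, x j ∈ 𝒜 (δ j))
variable [IsNoetherianRing R] (a : HomogeneousIdeal 𝒜) (ha : ∀ j, x j ∈ a.toIdeal)
  (har : a.toIdeal ≤ (Ideal.span (Set.range x)).radical)

include ha har in
theorem Hcomp_eq_bot_iff (E : StarInjRes 𝒜 ℳ) (q : ℕ) (g : ι) :
    E.Hcomp a (q + 1) g = ⊥ ↔ ∀ c ∈ (sys x hx (toGMod 𝒜 ℳ)).C (q + 1),
      (∀ s, c s ∈ (XO x hx (toGMod 𝒜 ℳ) s).gr g) →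
      (sys x hx (toGMod 𝒜 ℳ)).d c = 0 → ∃ b ∈ (sys x hx (toGMod 𝒜 ℳ)).C q,
        (∀ s, b s ∈ (XO x hx (toGMod 𝒜 ℳ) s).gr g) ∧ (sys x hx (toGMod 𝒜 ℳ)).d b = c := by
  obtain ⟨E'⟩ := Iface.nonempty_res 𝒜 (KO x hx (toGMod 𝒜 ℳ) 0).gr
  rw [← Hcomp_eq_bot_iff' x hx (toGMod 𝒜 ℳ) a ha har E' q g]
  let e : M ≃ₗ[R] (KO x hx (toGMod 𝒜 ℳ) 0).carrier :=
    LinearEquiv.ofBijective (lin (aug x hx (toGMod 𝒜 ℳ))) (aug_bijective x hx (toGMod 𝒜 ℳ))
  have he : IsGrHomDeg ℳ (KO x hx (toGMod 𝒜 ℳ) 0).gr e.toLinearMap 0 := by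
    intro g m hm
    rw [add_zero]
    exact isGrHom (aug x hx (toGMod 𝒜 ℳ)) g m hm
  have hiff := fun y => Iface.Hequiv_mem_iff E E' a (q + 1) e he (g := g) y
  simp only [add_zero] at hiff
  rw [Submodule.eq_bot_iff, Submodule.eq_bot_iff]
  constructor
  · intro H y hy
    obtain ⟨z, rfl⟩ := (Iface.Hequiv E E' a (q + 1) e he).surjective y
    rw [H z ((hiff z).1 hy), map_zero]
  · intro H z hz
    apply (Iface.Hequiv E E' a (q + 1) e he).injective
    rw [map_zero]
    exact H _ ((hiff z).2 hz)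

end Main

end K860.LCech
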