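import Groth.Agent.GrSyz.K860.Theta
import Groth.Agent.FormalB.TildeHom
import Groth.Agent.Ega2.H261.TildeQCoh
import Groth.Agent.S4400

/-!
# The non-negative part of a `ℤ`-graded module

`Npos` : the submodule `M_{≥ 0}`, with its `ℕ`-grading `Ngr`; `tildeIso` : `M_{≥0}~(n) ≅ M~(n)`.
-/

set_option autoImplicit false
set_option linter.unusedVariables false
set_option linter.unusedSectionVars false
universe u

open CategoryTheory CategoryTheory.Limits AlgebraicGeometry TopologicalSpace Opposite TopCat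

namespace K860.NPos

open K963 Theta Groth.Agent.FormalB.GrTildeSect Groth.Agent.FormalB.TwistFrac Groth.Agent.FormalB.GlueHom
open Groth.Agent.FormalB.TildeHom GrTilde

variable {R A : Type u} [CommRing R] [CommRing A] [Algebra R A]
variable {M : Type u} [AddCommGroup M] [Module R M] [Module A M] [IsScalarTower R A M]
variable (𝒜 : ℕ → Submodule R A) [GradedAlgebra 𝒜]
variable (ℬ : ℤ → Submodule R A) [GradedRing ℬ] (hneg : ∀ g : ℤ, g < 0 → ℬ g = ⊥)
variable (ℳ : ℤ → Submodule R M) [DirectSum.Decomposition ℳ] [SetLike.GradedSMul ℬ ℳ]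
  [SetLike.GradedSMul 𝒜 (pos ℳ)]

/-- the submodule of elements of non-negative degrees -/
def Npos : Submodule A M where
  carrier := {m | ∀ j < 0, Dec.proj ℳ j m = 0}
  zero_mem' j _ := map_zero _
  add_mem' {m m'} hm hm' j hj := by rw [map_add, hm j hj, hm' j hj, add_zero]
  smul_mem' f m hm j hj := by
    obtain ⟨s, hs, hx⟩ := Dec.sum_proj ℳ m
    obtain ⟨t, ht, hf⟩ := Dec.sum_proj ℬ f
    rw [hx, hf, Finset.smul_sum, map_sum]
    refine Finset.sum_eq_zero fun b _ => ?_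
    by_cases hb : b < 0
    · rw [hm b hb, smul_zero, map_zero]
    · rw [Finset.sum_smul, map_sum]
      refine Finset.sum_eq_zero fun a _ => ?_
      by_cases ha : a < 0
      · have h1 := Dec.proj_mem ℬ a f
        rw [hneg a ha] at h1
        rw [(Submodule.mem_bot R).1 h1, zero_smul, map_zero]
      · have h2 : Dec.proj ℬ a f • Dec.proj ℳ b m ∈ ℳ (a + b) :=
          SetLike.GradedSMul.smul_mem (A := ℬ) (B := ℳ) (Dec.proj_mem ℬ a f) (Dec.proj_mem ℳ b m)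
        exact Dec.proj_of_mem_ne ℳ h2 (by omega)

theorem mem_Npos {m : M} : m ∈ Npos ℬ hneg ℳ ↔ ∀ j < 0, Dec.proj ℳ j m = 0 := Iff.rfl

theorem mem_Npos_of_mem {n : ℕ} {m : M} (hm : m ∈ ℳ n) : m ∈ Npos ℬ hneg ℳ := fun j hj =>
  Dec.proj_of_mem_ne ℳ hm (by omega)

/-- its `ℕ`-grading -/
def Ngr (n : ℕ) : Submodule R (Npos ℬ hneg ℳ) :=
  (ℳ (n : ℤ)).comap ((Npos ℬ hneg ℳ).subtype.restrictScalars R)

theorem mem_Ngr {n : ℕ} {m : Npos ℬ hneg ℳ} : m ∈ Ngr ℬ hneg ℳ n ↔ (m : M) ∈ ℳ n := Iff.rfl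

noncomputable instance decN : DirectSum.Decomposition (Ngr ℬ hneg ℳ) :=
  Dec.ofProj _ (fun n x => ⟨Dec.proj ℳ (n : ℤ) x, mem_Npos_of_mem ℬ hneg ℳ (Dec.proj_mem ℳ _ _)⟩)
    (fun n x => Dec.proj_mem ℳ _ _)
    (fun n x y => Subtype.ext (map_add _ _ _))
    (fun g h x hx hgh => Subtype.ext (Dec.proj_of_mem_ne ℳ hx (by exact_mod_cast hgh)))
    (fun x => by
      classical
      obtain ⟨s, hs, hx⟩ := Dec.sum_proj ℳ (x : M)
      refine ⟨(s.filter fun g => 0 ≤ g).image Int.toNat, fun g hg => Subtype.ext ?_, Subtype.ext ?_⟩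
      · change Dec.proj ℳ (g : ℤ) (x : M) = 0
        refine hs g fun h => hg ?_
        exact Finset.mem_image.2 ⟨g, Finset.mem_filter.2 ⟨h, Int.natCast_nonneg g⟩, Int.toNat_natCast g⟩
      · rw [AddSubmonoidClass.coe_finsetSum, Finset.sum_image]
        · refine hx.trans ?_
          rw [← Finset.sum_filter_add_sum_filter_not s (fun g => 0 ≤ g)]
          have h1 : ∑ g ∈ s.filter (fun g => ¬ 0 ≤ g), Dec.proj ℳ g (x : M) = 0 :=
            Finset.sum_eq_zero fun g hg => x.2 g (not_le.1 (Finset.mem_filter.1 hg).2)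
          rw [h1, add_zero]
          refine Finset.sum_congr rfl fun g hg => ?_
          change _ = Dec.proj ℳ ((g.toNat : ℕ) : ℤ) (x : M)
          rw [Int.toNat_of_nonneg (Finset.mem_filter.1 hg).2]
        · intro g hg g' hg' h
          have h1 := (Finset.mem_filter.1 hg).2
          have h2 := (Finset.mem_filter.1 hg').2
          omega)

instance gsmulN : SetLike.GradedSMul 𝒜 (Ngr ℬ hneg ℳ) :=
  ⟨fun {i j} a m ha hm => by
    have h : a • (m : M) ∈ pos ℳ (i + j) := SetLike.GradedSMul.smul_mem (A := 𝒜) (B := pos ℳ) ha hm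
    exact h⟩

theorem zdegN_iff {k : ℤ} {m : Npos ℬ hneg ℳ} : m ∈ zdeg (Ngr ℬ hneg ℳ) k ↔ (m : M) ∈ zdeg (pos ℳ) k := by
  rw [mem_zdeg_iff, mem_zdeg_iff]
  constructor
  · rintro (⟨i, hi, h⟩ | rfl)
    · exact Or.inl ⟨i, hi, h⟩
    · exact Or.inr rfl
  · rintro (⟨i, hi, h⟩ | h)
    · exact Or.inl ⟨i, hi, h⟩
    · exact Or.inr (Subtype.ext h)

theorem zdeg_le_Npos {k : ℤ} {m : M} (hm : m ∈ zdeg (pos ℳ) k) : m ∈ Npos ℬ hneg ℳ := by
  rcases mem_zdeg_iff.1 hm with ⟨i, rfl, h⟩ | rfl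
  · exact mem_Npos_of_mem ℬ hneg ℳ h
  · exact zero_mem _

/-- `M_{≥0}~(n) ≅ M~(n)` -/
theorem tildeIso (n : ℤ) : Nonempty (tilde 𝒜 (Ngr ℬ hneg ℳ) n ≅ tilde 𝒜 (pos ℳ) n) := by
  obtain ⟨a, ha⟩ := exists_hom_of_frac (𝒜 := 𝒜) (ℳ := Ngr ℬ hneg ℳ) n (tilde 𝒜 (pos ℳ) n)
    (fun U j s hs hU m hm => gfrac n U hs hU ((zdegN_iff ℬ hneg ℳ).1 hm))
    (fun U V h j s hs hU m hm => rfl)
    (fun U j s hs hU m m' hm hm' => (gfrac_add n U hs hU _ _).symm)
    (fun U i j b s hb hbU hs hU m hm => gfrac_congr (by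
      change s • (b • (m : M)) = (b * s) • (m : M)
      rw [smul_smul, mul_comm]))
    (fun U i j a b s ha hb hbU hs hU m hm => ofrac_smul_gfrac n U ha hb hbU hs hU _)
  have : IsIso a := by
    refine isIso_of_local a ?_ ?_
    · intro U t ht x hx
      obtain ⟨V, h, e, g, m, hg, hV, hm, he, hxV, rfl, hres⟩ := exists_gfrac t x hx
      refine ⟨_, h, hxV, ?_⟩
      rw [hres]
      have h1 : a.app _ (gfrac n _ hg hV hm) = 0 := by
        rw [← hres, app_res, ht, res_zero]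
      rw [ha] at h1
      apply gval_ext
      intro y
      have h2 : gval (gfrac (ℳ := pos ℳ) n _ hg hV ((zdegN_iff ℬ hneg ℳ).1 hm)) y = 0 := by rw [h1]; rfl
      rw [gval_gfrac, ← LocalizedModule.zero_mk ⟨g, hV y.1 y.2⟩] at h2
      obtain ⟨c, hc, hc'⟩ := exists_of_mk_eq h2
      rw [gval_gfrac, gval_zero, ← LocalizedModule.zero_mk ⟨g, hV y.1 y.2⟩]
      refine mk_eq_of_smul_eq c hc (Subtype.ext ?_)
      rw [smul_zero, sub_zero] at hc'
      change c • (g • (m : M)) = c • (g • (0 : M))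
      rw [hc', smul_zero, smul_zero]
    · intro U t x hx
      obtain ⟨V, h, e, g, m, hg, hV, hm, -, hxV, -, hres⟩ := exists_gfrac t x hx
      exact ⟨V, h, gfrac n V hg hV (m := (⟨m, zdeg_le_Npos ℬ hneg ℳ hm⟩ : Npos ℬ hneg ℳ))
        ((zdegN_iff ℬ hneg ℳ).2 hm), hxV, by rw [ha, hres]⟩
  exact ⟨asIso a⟩

end K860.NPos
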