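import Groth.Prelude.Def_GrSyz
import Groth.Agent.GrSyz.K860.Basic
import Mathlib.CategoryTheory.Monoidal.Tor
import Mathlib.Algebra.Category.ModuleCat.Monoidal.Closed
import Mathlib.Algebra.Category.ModuleCat.Projective
import Mathlib.CategoryTheory.Abelian.LeftDerived
import Mathlib.Algebra.Homology.ShortComplex.ModuleCat
import Mathlib.Algebra.Homology.SingleHomology
import Mathlib.Algebra.Homology.Additive
import Mathlib.LinearAlgebra.TensorProduct.Pi
import Mathlib.RingTheory.SimpleModule.Basic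
import Mathlib.RingTheory.Length
import Mathlib.Algebra.Module.FinitePresentation

/-!
# The projective resolution underlying a graded free resolution, and Tor

* `res F` : `ProjectiveResolution (ModuleCat.of R M)`;
* `length_tor` : for a minimal `F` and a maximal ideal `𝔪`, `length Tor_i(R/𝔪, M) = rk F_i`.
-/

set_option autoImplicit false
universe u v w

open CategoryTheory Limits MonoidalCategory GrSyz TensorProduct

namespace K860.ProjRes

variable {R : Type u} [CommRing R] {σ' : Type u} [SetLike σ' R] [AddSubgroupClass σ' R] {𝒜 : ℤ → σ'}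
  {M : Type u} [AddCommGroup M] [Module R M] {τ : Type u} [SetLike τ M] [AddSubgroupClass τ M]
  {ℳ : ℤ → τ} [DirectSum.Decomposition ℳ] [SetLike.GradedSMul 𝒜 ℳ] (F : FreeRes 𝒜 ℳ)

set_option linter.unusedSectionVars false

/-- the terms -/
noncomputable def X (n : ℕ) : ModuleCat.{u} R := ModuleCat.of R (Fin (F.rk n) → R)

/-- the differential as a morphism -/
noncomputable def dd (n : ℕ) : X F (n + 1) ⟶ X F n :=
  ModuleCat.ofHom (F.dLin n)

theorem exact_dd (n : ℕ) : Function.Exact (dd F (n + 1)).hom (dd F n).hom := by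
  rw [LinearMap.exact_iff]
  exact F.exact_succ n

theorem dd_comp_dd (n : ℕ) : dd F (n + 1) ≫ dd F n = 0 := by
  ext1
  exact LinearMap.ext fun x => (exact_dd F n).apply_apply_eq_zero x

/-- the complex -/
noncomputable def complex : ChainComplex (ModuleCat.{u} R) ℕ :=
  ChainComplex.of (X F) (dd F) (dd_comp_dd F)

theorem complex_d (n : ℕ) : (complex F).d (n + 1) n = dd F n := ChainComplex.of_d _ _ _

theorem complex_d_1_0 : (complex F).d 1 0 = dd F 0 := complex_d F 0

theorem complex_exactAt_succ (n : ℕ) : (complex F).ExactAt (n + 1) := by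
  rw [HomologicalComplex.exactAt_iff' _ (n + 1 + 1) (n + 1) n (by simp) (by simp)]
  rw [ShortComplex.ShortExact.moduleCat_exact_iff_function_exact]
  have h1 : ((complex F).sc' (n + 1 + 1) (n + 1) n).f = dd F (n + 1) := ChainComplex.of_d _ _ _
  have h2 : ((complex F).sc' (n + 1 + 1) (n + 1) n).g = dd F n := ChainComplex.of_d _ _ _
  rw [h1, h2]
  exact exact_dd F n

/-- the augmentation -/
noncomputable def π₀ : X F 0 ⟶ ModuleCat.of R M := ModuleCat.ofHom F.augLin

theorem exact_dd_π₀ : Function.Exact (dd F 0).hom (π₀ F).hom := by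
  rw [LinearMap.exact_iff]
  exact F.exact_zero

theorem dd_comp_π₀ : dd F 0 ≫ π₀ F = 0 := by
  ext1
  exact LinearMap.ext fun x => (exact_dd_π₀ F).apply_apply_eq_zero x

theorem d_comp_π₀ : (complex F).d 1 0 ≫ π₀ F = 0 := by
  rw [complex_d_1_0]
  exact dd_comp_π₀ F

set_option backward.defeqAttrib.useBackward true in
set_option backward.isDefEq.respectTransparency false in
/-- the underlying projective resolution -/
noncomputable def res : ProjectiveResolution (ModuleCat.of R M) where
  complex := complex F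
  projective n := by
    change Projective (ModuleCat.of R (Fin (F.rk n) → R))
    exact ModuleCat.projective_of_free (Pi.basisFun R _)
  π := (ChainComplex.toSingle₀Equiv _ _).symm ⟨π₀ F, d_comp_π₀ F⟩
  quasiIso := ⟨fun n => by
    cases n
    · rw [ChainComplex.quasiIsoAt₀_iff, ShortComplex.quasiIso_iff_of_zeros']
      · refine (ShortComplex.exact_and_epi_g_iff_of_iso
          (S₂ := ShortComplex.mk (dd F 0) (π₀ F) (dd_comp_π₀ F)) ?_).2
          ⟨?_, ?_⟩
        · exact ShortComplex.isoMk (Iso.refl _) (Iso.refl _) (Iso.refl _)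
            (by simp [complex_d_1_0]) (by simp)
        · rw [ShortComplex.ShortExact.moduleCat_exact_iff_function_exact]
          exact exact_dd_π₀ F
        · rw [ModuleCat.epi_iff_surjective]
          exact F.aug_surjective
      all_goals rfl
    · rw [quasiIsoAt_iff_exactAt']
      · apply complex_exactAt_succ
      · apply ChainComplex.exactAt_succ_single_obj⟩

theorem res_X (n : ℕ) : (res F).complex.X n = X F n := rfl

theorem res_d (n : ℕ) : (res F).complex.d (n + 1) n = dd F n := complex_d F n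

/-- tensoring a matrix with entries in `𝔪` with `R/𝔪` gives zero -/
theorem lTensor_eq_zero {𝔪 : Ideal R} {n m : ℕ} (A : Matrix (Fin n) (Fin m) R) (hA : ∀ a b, A a b ∈ 𝔪) :
    LinearMap.lTensor (R ⧸ 𝔪) (Matrix.mulVecLin A) = 0 := by
  classical
  refine TensorProduct.ext' fun q v => ?_
  rw [LinearMap.lTensor_tmul, LinearMap.zero_apply, Matrix.mulVecLin_apply]
  have h : ∀ w : Fin n → R, (∀ a, w a ∈ 𝔪) → q ⊗ₜ[R] w = 0 := by
    intro w hw
    rw [← Finset.univ_sum_single w, TensorProduct.tmul_sum]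
    refine Finset.sum_eq_zero fun a _ => ?_
    have : (Pi.single a (w a) : Fin n → R) = w a • Pi.single a 1 := by
      rw [← Pi.single_smul, smul_eq_mul, mul_one]
    rw [this, TensorProduct.tmul_smul, TensorProduct.smul_tmul']
    have h2 : w a • q = 0 := by
      obtain ⟨r, rfl⟩ := Ideal.Quotient.mk_surjective q
      rw [Algebra.smul_def, Ideal.Quotient.algebraMap_eq, ← map_mul, Ideal.Quotient.eq_zero_iff_mem]
      exact Ideal.mul_mem_right _ _ (hw a)
    rw [h2, TensorProduct.zero_tmul]
  refine h _ fun a => ?_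
  rw [Matrix.mulVec, dotProduct]
  exact sum_mem fun b _ => Ideal.mul_mem_right _ _ (hA a b)

/-- the homology of a chain complex with zero differentials -/
theorem homology_of_zero {C : Type*} [Category C] [Abelian C] (K : ChainComplex C ℕ)
    (hK : ∀ n, K.d (n + 1) n = 0) (i : ℕ) : Nonempty (K.homology i ≅ K.X i) := by
  have hf : (K.sc i).f = 0 := by
    change K.d ((ComplexShape.down ℕ).prev i) i = 0
    rw [ChainComplex.prev]
    exact hK i
  have hg : (K.sc i).g = 0 := by
    change K.d i ((ComplexShape.down ℕ).next i) = 0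
    rcases i with _ | i
    · exact K.shape _ _ (by simp)
    · rw [ChainComplex.next_nat_succ]
      exact hK i
  exact ⟨(ShortComplex.LeftHomologyData.ofZeros (K.sc i) hf hg).homologyIso⟩

theorem tor_iso {𝔪 : Ideal R} (hF : F.IsMinimal 𝔪) (i : ℕ) :
    Nonempty (((Tor (ModuleCat.{u} R) i).obj (ModuleCat.of R (R ⧸ 𝔪))).obj (ModuleCat.of R M) ≅
      ModuleCat.of R ((R ⧸ 𝔪) ⊗[R] (Fin (F.rk i) → R))) := by
  let G := (tensoringLeft (ModuleCat.{u} R)).obj (ModuleCat.of R (R ⧸ 𝔪))
  let K := (G.mapHomologicalComplex (ComplexShape.down ℕ)).obj (res F).complex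
  have e1 : ((Tor (ModuleCat.{u} R) i).obj (ModuleCat.of R (R ⧸ 𝔪))).obj (ModuleCat.of R M) ≅ K.homology i :=
    (res F).isoLeftDerivedObj G i
  have hK : ∀ n, K.d (n + 1) n = 0 := by
    intro n
    change G.map ((res F).complex.d (n + 1) n) = 0
    rw [res_d]
    exact ModuleCat.hom_ext (lTensor_eq_zero (F.d n) (hF n))
  obtain ⟨e2⟩ := homology_of_zero K hK i
  exact ⟨e1 ≪≫ e2⟩

theorem length_tor {𝔪 : Ideal R} [𝔪.IsMaximal] (hF : F.IsMinimal 𝔪) (i : ℕ) :
    Module.length R (((Tor (ModuleCat.{u} R) i).obj (ModuleCat.of R (R ⧸ 𝔪))).obj (ModuleCat.of R M)) =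
      (F.rk i : ℕ∞) := by
  obtain ⟨e⟩ := tor_iso F hF i
  have e' := e.toLinearEquiv
  rw [e'.length_eq]
  have e3 : ((R ⧸ 𝔪) ⊗[R] (Fin (F.rk i) → R)) ≃ₗ[R] (Fin (F.rk i) → (R ⧸ 𝔪)) :=
    TensorProduct.piScalarRight R R (R ⧸ 𝔪) (Fin (F.rk i))
  change Module.length R ((R ⧸ 𝔪) ⊗[R] (Fin (F.rk i) → R)) = _
  rw [e3.length_eq, Module.length_pi_of_fintype]
  have h1 : Module.length R (R ⧸ 𝔪) = 1 := by
    rw [Module.length_eq_one_iff, isSimpleModule_iff_isCoatom]
    exact Ideal.isMaximal_def.1 inferInstance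
  rw [Finset.sum_congr rfl fun _ _ => h1]
  simp

end K860.ProjRes
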