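import Groth.Agent.GrSyz.K860.Comp
import Groth.Agent.GrSyz.K860.KosMul
import Mathlib.RingTheory.Regular.RegularSequence

/-!
# Gradings on quotients

`decOf` : a decomposition from a family of projections; `qgr ℳ P` : the pieces of `M ⧸ P`; `qdec` : the decomposition
of `M ⧸ P` when `P` is homogeneous; `qsmul` : graded scalar multiplication; `gr_smul_top` : `f M` is homogeneous for
homogeneous `f`.
-/

set_option autoImplicit false
set_option linter.unusedSectionVars false
universe u v w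

namespace K860.QuotGr

open DirectSum _root_.K860.Comp Pointwise Kos

section OfProj

variable {k : Type u} [CommRing k] {N : Type v} [AddCommGroup N] [Module k N]

/-- a decomposition from a family of projections -/
@[reducible] noncomputable def decOf (𝒩 : ℤ → Submodule k N) (q : ℤ → N →+ N) (hmem : ∀ j x, q j x ∈ 𝒩 j)
    (hself : ∀ j x, x ∈ 𝒩 j → q j x = x) (hne : ∀ i j x, x ∈ 𝒩 i → i ≠ j → q j x = 0)
    (hsum : ∀ x, ∃ s : Finset ℤ, ∑ j ∈ s, q j x = x) : Decomposition 𝒩 := by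
  refine IsInternal.chooseDecomposition 𝒩 ⟨?_, ?_⟩
  · rw [injective_iff_map_eq_zero]
    intro x hx
    classical
    apply DFinsupp.ext
    intro g
    apply Subtype.ext
    have key : ∀ y : ⨁ i, 𝒩 i, q g (DirectSum.coeAddMonoidHom 𝒩 y) = (y g : N) := by
      intro y
      induction y using DirectSum.induction_on with
      | zero => simp
      | of i z =>
        rw [DirectSum.coeAddMonoidHom_of]
        by_cases hi : i = g
        · subst hi
          rw [hself _ _ z.2, DirectSum.of_eq_same]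
        · rw [hne _ _ _ z.2 hi, DirectSum.of_eq_of_ne _ _ _ (Ne.symm hi)]; rfl
      | add a b ha hb => rw [map_add, map_add, ha, hb]; rfl
    have := key x
    rw [hx, map_zero] at this
    exact this.symm
  · intro m
    obtain ⟨s, hs⟩ := hsum m
    refine ⟨∑ g ∈ s, DirectSum.of (fun i => 𝒩 i) g ⟨q g m, hmem g m⟩, ?_⟩
    rw [map_sum]
    conv_rhs => rw [← hs]
    apply Finset.sum_congr rfl
    intro g _
    rw [DirectSum.coeAddMonoidHom_of]

end OfProj

section Quot

variable {k : Type u} [CommRing k] {R : Type w} [CommRing R] [Algebra k R]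
  {M : Type v} [AddCommGroup M] [Module k M] [Module R M] [IsScalarTower k R M]
  (ℳ : ℤ → Submodule k M)

/-- pieces of a quotient -/
def qgr (P : Submodule R M) (j : ℤ) : Submodule k (M ⧸ P) := (ℳ j).map (P.mkQ.restrictScalars k)

variable {ℳ}

theorem mem_qgr {P : Submodule R M} {j : ℤ} {x : M ⧸ P} : x ∈ qgr ℳ P j ↔ ∃ m ∈ ℳ j, P.mkQ m = x := Iff.rfl

theorem mkQ_mem {P : Submodule R M} {j : ℤ} {m : M} (hm : m ∈ ℳ j) : P.mkQ m ∈ qgr ℳ P j := ⟨m, hm, rfl⟩

variable (ℳ) [DirectSum.Decomposition ℳ]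

/-- a submodule is homogeneous -/
def Hom (P : Submodule R M) : Prop := ∀ j m, m ∈ P → Comp.cmp ℳ j m ∈ P

variable {ℳ}

/-- components of a quotient -/
noncomputable def qpr {P : Submodule R M} (hP : Hom ℳ P) (j : ℤ) : (M ⧸ P) →+ (M ⧸ P) :=
  (Submodule.mapQ (P.restrictScalars k) (P.restrictScalars k) (Comp.cmp ℳ j)
    (fun m hm => hP j m hm)).toAddMonoidHom

theorem qpr_mk {P : Submodule R M} (hP : Hom ℳ P) (j : ℤ) (m : M) :
    qpr hP j (P.mkQ m) = P.mkQ (Comp.cmp ℳ j m) := rfl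

/-- the decomposition of the quotient -/
@[reducible] noncomputable def qdec {P : Submodule R M} (hP : Hom ℳ P) : Decomposition (qgr ℳ P) :=
  decOf (qgr ℳ P) (qpr hP)
    (fun j x => by
      obtain ⟨m, rfl⟩ := P.mkQ_surjective x
      rw [qpr_mk]
      exact mkQ_mem (cmp_mem ℳ j m))
    (fun j x hx => by
      obtain ⟨m, hm, rfl⟩ := mem_qgr.1 hx
      rw [qpr_mk, cmp_of_mem hm])
    (fun i j x hx hij => by
      obtain ⟨m, hm, rfl⟩ := mem_qgr.1 hx
      rw [qpr_mk, cmp_of_mem_ne hm hij, map_zero])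
    (fun x => by
      obtain ⟨m, rfl⟩ := P.mkQ_surjective x
      obtain ⟨J, -, hJ⟩ := exists_sum_cmp ℳ m
      refine ⟨J, ?_⟩
      simp only [qpr_mk]
      rw [← map_sum, hJ J subset_rfl])

variable {𝒜 : ℤ → Submodule k R} [GradedAlgebra 𝒜] [SetLike.GradedSMul 𝒜 ℳ]

theorem qsmul (P : Submodule R M) : SetLike.GradedSMul 𝒜 (qgr ℳ P) where
  smul_mem {i j} a x ha hx := by
    obtain ⟨m, hm, rfl⟩ := mem_qgr.1 hx
    rw [← map_smul]
    exact mkQ_mem (SetLike.GradedSMul.smul_mem ha hm)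

/-- `f M` is homogeneous -/
theorem hom_smul_top {a : ℤ} {f : R} (hf : f ∈ 𝒜 a) : Hom ℳ (f • (⊤ : Submodule R M)) := by
  intro j m hm
  obtain ⟨m', -, rfl⟩ := Submodule.mem_smul_pointwise_iff_exists _ _ _ |>.1 hm
  have h1 : Comp.cmp ℳ j (f • m') = f • Comp.cmp ℳ (j - a) m' :=
    cmp_smul_of_eq ℳ hf (show a + (j - a) = j by abel) m'
  rw [h1]
  exact Submodule.smul_mem_pointwise_smul _ _ _ trivial

/-- the sequence `0 → M(-a) → M → M / f M → 0` for a regular element `f` of degree `a` -/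
theorem mses_qgr {a : ℤ} {f : R} (hf : f ∈ 𝒜 a) (hreg : IsSMulRegular M f) :
    MSES (fun j => ℳ (j - a)) ℳ (qgr ℳ (f • (⊤ : Submodule R M))) (f • (LinearMap.id : M →ₗ[R] M))
      (Submodule.mkQ (f • (⊤ : Submodule R M))) where
  φ_mem j z hz := by
    have := SetLike.GradedSMul.smul_mem hf hz
    rwa [vadd_eq_add, add_sub_cancel] at this
  ψ_mem j z hz := mkQ_mem hz
  inj _ z _ h := hreg (by simpa using h)
  zero z := by
    rw [Submodule.mkQ_apply, Submodule.Quotient.mk_eq_zero]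
    exact Submodule.smul_mem_pointwise_smul z f ⊤ Submodule.mem_top
  exact j z hz h := by
    rw [Submodule.mkQ_apply, Submodule.Quotient.mk_eq_zero] at h
    obtain ⟨w, -, e⟩ := h
    refine ⟨Comp.cmp ℳ (j - a) w, cmp_mem ℳ _ w, ?_⟩
    change f • Comp.cmp ℳ (j - a) w = z
    have h1 : Comp.cmp ℳ j (f • w) = f • Comp.cmp ℳ (j - a) w :=
      cmp_smul_of_eq ℳ hf (show a + (j - a) = j by abel) w
    have e' : f • w = z := e
    rw [← h1, e', cmp_of_mem hz]
  surj j z hz := by
    obtain ⟨y, hy, rfl⟩ := mem_qgr.1 hz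
    exact ⟨y, hy, rfl⟩

end Quot

end K860.QuotGr
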