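import Groth.Agent.GrSyz.K860.Star0
import Groth.Agent.GrSyz.K860.NPos
import Groth.Agent.GrSyz.K860.Basic
import Groth.Agent.Fga.TensorList
import Groth.Prelude.Def_Curv2
import Groth.Prelude.Def_GrSyz

/-!
# Local cohomology of a graded module over a polynomial ring and cohomology of the twists of the sheaf

* `subsingleton_iff` : `H^{n+1}(P^r, M~ ⊗ O(e)) = 0 ↔ H^{n+2}_𝔪(M)_e = 0`;
* `surjective_iff` : `M_d → Γ(P^r, M~(d))` is surjective iff `H^1_𝔪(M)_d = 0` (`d ≥ 0`).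
-/

set_option autoImplicit false
set_option linter.unusedVariables false
set_option linter.unusedSectionVars false
universe u

open CategoryTheory CategoryTheory.Limits AlgebraicGeometry TopologicalSpace Opposite TopCat MvPolynomial
open GrLC K963 K963.Cat K963.Loc GrSyz
open scoped K963.Cat

namespace K860.RegSh

open GLoc Theta StarQ Star0 NPos GrTilde Basic

theorem subsingleton_of_iso {X : Scheme.{u}} {M N : X.Modules} (e : M ≅ N) (p : ℕ)
    (h : Subsingleton (Coh.HH X M p)) : Subsingleton (Coh.HH X N p) := by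
  let e' : Coh.toAb M ≅ Coh.toAb N := (SheafOfModules.toSheaf X.ringCatSheaf).mapIso e
  refine subsingleton_of_forall_eq 0 fun x ↦ ?_
  have h1 : x = Sheaf.H.map e'.hom p (Sheaf.H.map e'.inv p x) := by
    rw [← Sheaf.H.map_comp_apply, e'.inv_hom_id, Sheaf.H.map_id_apply]
  rw [h1, h.elim (Sheaf.H.map e'.inv p x) 0, map_zero]

variable {k : Type u} [Field k] {r : ℕ}

theorem hAB (n : ℕ) : stdGr k (Fin (r + 1)) (n : ℤ) = CohB1.polyGrading r k n := stdGr_nat n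

theorem irrelevant_le : (HomogeneousIdeal.irrelevant (CohB1.polyGrading r k)).toIdeal ≤
    Ideal.span (Set.range (X : Fin (r + 1) → MvPolynomial (Fin (r + 1)) k)) := by
  intro p hp
  rw [mem_span_X_iff]
  have h0 : (DirectSum.decompose (CohB1.polyGrading r k) p 0 : MvPolynomial (Fin (r + 1)) k) =
      homogeneousComponent 0 p := MvPolynomial.decomposition.decompose'_apply p 0
  have h1 := (HomogeneousIdeal.mem_irrelevant_iff _ _).mp hp
  rw [GradedRing.proj_apply, h0, homogeneousComponent_zero] at h1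
  rw [constantCoeff_eq]
  exact MvPolynomial.C_eq_zero.1 h1

theorem irrelevant_eq : (HomogeneousIdeal.irrelevant (CohB1.polyGrading r k)).toIdeal =
    Ideal.span (CohB1.polyGrading r k 1 : Set (MvPolynomial (Fin (r + 1)) k)) := by
  apply le_antisymm
  · refine irrelevant_le.trans (Ideal.span_mono ?_)
    rintro _ ⟨i, rfl⟩
    exact MvPolynomial.isHomogeneous_X _ i
  · rw [Ideal.span_le]
    intro a ha
    change a ∈ HomogeneousIdeal.irrelevant (CohB1.polyGrading r k)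
    rw [HomogeneousIdeal.mem_irrelevant_iff, GradedRing.proj_apply]
    exact DirectSum.decompose_of_mem_ne (CohB1.polyGrading r k) ha one_ne_zero

variable {M : Type u} [AddCommGroup M] [Module k M] [Module (MvPolynomial (Fin (r + 1)) k) M]
    [IsScalarTower k (MvPolynomial (Fin (r + 1)) k) M]
    (ℳ : ℤ → Submodule k M) [DirectSum.Decomposition ℳ] [SetLike.GradedSMul (GrSyz.stdGr k (Fin (r + 1))) ℳ]
    [SetLike.GradedSMul (CohB1.polyGrading r k) (pos ℳ)]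

theorem isQCoh (e : ℤ) : Coh.IsQCoh (tilde (CohB1.polyGrading r k) (pos ℳ) e) := by
  obtain ⟨φ⟩ := tildeIso (CohB1.polyGrading r k) (stdGr k (Fin (r + 1))) (fun g hg => stdGr_neg hg) ℳ e
  have h := Groth.Agent.Ega2.H261.TildeQCoh.isQCoh_tilde (𝒜 := CohB1.polyGrading r k)
    (ℳ := Ngr (stdGr k (Fin (r + 1))) (fun g hg => stdGr_neg hg) ℳ) e
  exact Groth.Agent.Ega1.QCohLoc.isQCoh_of_iso φ h

theorem iso_twist (e : ℤ) : Nonempty (tilde (CohB1.polyGrading r k) (pos ℳ) e ≅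
    CohB1.tensorMod (tilde (CohB1.polyGrading r k) (pos ℳ) 0) (Twist.twistProjSpace r k e)) := by
  obtain ⟨φ⟩ := tildeIso (CohB1.polyGrading r k) (stdGr k (Fin (r + 1))) (fun g hg => stdGr_neg hg) ℳ e
  obtain ⟨φ0⟩ := tildeIso (CohB1.polyGrading r k) (stdGr k (Fin (r + 1))) (fun g hg => stdGr_neg hg) ℳ 0
  obtain ⟨ψ⟩ := Groth.Agent.S4400.result (CohB1.polyGrading r k) irrelevant_eq
    (Ngr (stdGr k (Fin (r + 1))) (fun g hg => stdGr_neg hg) ℳ) e
  exact ⟨φ.symm ≪≫ ψ ≪≫ Groth.Agent.Fga.TensorList.tensorModCongr φ0 (Iso.refl _)⟩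

theorem subsingleton_iff (E : StarInjRes (stdGr k (Fin (r + 1))) ℳ) (e : ℤ) (n : ℕ) :
    Subsingleton (Coh.HH (CohB1.ProjSpace r k) (CohB1.tensorMod (tilde (CohB1.polyGrading r k) (pos ℳ) 0)
      (Twist.twistProjSpace r k e)) (n + 1)) ↔ E.Hcomp (irrel (stdGr k (Fin (r + 1)))) (n + 2) e = ⊥ := by
  obtain ⟨φ⟩ := iso_twist (r := r) ℳ e
  have h1 : Subsingleton (Coh.HH (CohB1.ProjSpace r k) (CohB1.tensorMod (tilde (CohB1.polyGrading r k) (pos ℳ) 0)
      (Twist.twistProjSpace r k e)) (n + 1)) ↔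
      Subsingleton (Coh.HH (Proj (CohB1.polyGrading r k)) (tilde (CohB1.polyGrading r k) (pos ℳ) e) (n + 1)) :=
    ⟨subsingleton_of_iso φ.symm _, subsingleton_of_iso φ _⟩
  rw [h1]
  have : (tilde (CohB1.polyGrading r k) (pos ℳ) e).IsQuasicoherent := isQCoh ℳ e
  rw [StarQ.subsingleton_iff (hAB (k := k) (r := r)) (v := fun j => (X j : MvPolynomial (Fin (r + 1)) k))
    (fun j => X_mem j) irrelevant_le ℳ e n]
  exact (LCech.Hcomp_eq_bot_iff ℳ (fun j => (X j : MvPolynomial (Fin (r + 1)) k)) (δ := fun _ => (1 : ℤ))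
    (fun j => X_mem j) (irrel (stdGr k (Fin (r + 1)))) (fun j => span_X_le (Ideal.subset_span ⟨j, rfl⟩))
    (by rw [irrel_eq_span]; exact Ideal.le_radical) E (n + 1) e).symm

theorem surjective_iff (E : StarInjRes (stdGr k (Fin (r + 1))) ℳ) (d : ℕ) :
    Function.Surjective (fun m : ↥(ℳ (d : ℤ)) => globalOf (CohB1.polyGrading r k) (pos ℳ) (i := d) m) ↔
      E.Hcomp (irrel (stdGr k (Fin (r + 1)))) 1 (d : ℤ) = ⊥ := by
  rw [Star0.surjective_iff (hAB (k := k) (r := r)) (v := fun j => (X j : MvPolynomial (Fin (r + 1)) k))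
    (fun j => X_mem j) irrelevant_le ℳ d]
  exact (LCech.Hcomp_eq_bot_iff ℳ (fun j => (X j : MvPolynomial (Fin (r + 1)) k)) (δ := fun _ => (1 : ℤ))
    (fun j => X_mem j) (irrel (stdGr k (Fin (r + 1)))) (fun j => span_X_le (Ideal.subset_span ⟨j, rfl⟩))
    (by rw [irrel_eq_span]; exact Ideal.le_radical) E 0 d).symm

theorem Hcomp_eq_bot_of_lt (E : StarInjRes (stdGr k (Fin (r + 1))) ℳ) (i : ℕ) (hi : r + 1 < i) (g : ℤ) :
    E.Hcomp (irrel (stdGr k (Fin (r + 1)))) i g = ⊥ := by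
  have e : {y | y ∈ (Finset.univ : Finset (Fin (r + 1))).toList.map
      fun j => (X j : MvPolynomial (Fin (r + 1)) k)} = Set.range X := by
    ext y; simp
  refine Iface.Hcomp_eq_bot_of_subsingleton E _ i (Iface.H_subsingleton_of_radical E
    (irrel (stdGr k (Fin (r + 1)))) ((Finset.univ : Finset (Fin (r + 1))).toList.map
      fun j => (X j : MvPolynomial (Fin (r + 1)) k)) ?_ ?_ ?_ i (by simpa using hi)) g
  · intro y hy
    obtain ⟨j, -, rfl⟩ := List.mem_map.1 hy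
    exact ⟨1, X_mem j⟩
  · intro y hy
    obtain ⟨j, -, rfl⟩ := List.mem_map.1 hy
    exact span_X_le (Ideal.subset_span ⟨j, rfl⟩)
  · rw [e, irrel_eq_span]
    exact Ideal.le_radical

theorem endDeg_le_iff {N : Type u} [AddCommGroup N] (𝒩 : ℤ → AddSubgroup N) (d : ℤ) :
    endDeg 𝒩 ≤ (((d : ℤ) : WithTop ℤ) : WithBot (WithTop ℤ)) ↔ ∀ e, d < e → 𝒩 e = ⊥ := by
  unfold endDeg
  rw [iSup₂_le_iff]
  constructor
  · intro h e he
    by_contra hne
    have h1 := h e hne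
    have h2 : e ≤ d := by exact_mod_cast h1
    omega
  · intro h e hne
    by_contra hcon
    apply hne
    apply h
    by_contra h3
    apply hcon
    exact_mod_cast not_lt.1 h3

theorem Hgr_eq_bot_iff (E : StarInjRes (stdGr k (Fin (r + 1))) ℳ) (a : HomogeneousIdeal (stdGr k (Fin (r + 1))))
    (i : ℕ) (e : ℤ) : E.Hgr a i e = ⊥ ↔ E.Hcomp a i e = ⊥ := by
  rw [AddSubgroup.eq_bot_iff_forall, Submodule.eq_bot_iff]
  rfl

theorem main (E : StarInjRes (stdGr k (Fin (r + 1))) ℳ) (d : ℕ) :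
    (endDeg (E.Hgr (irrel (stdGr k (Fin (r + 1)))) 0) ≤ (((d : ℤ) : WithTop ℤ) : WithBot (WithTop ℤ)) ∧
        ∀ i : ℕ, 0 < i → E.Hcomp (irrel (stdGr k (Fin (r + 1)))) i ((d : ℤ) - (i : ℤ) + 1) = ⊥) ↔
      (Curv2.IsMRegular k r (tilde (CohB1.polyGrading r k) (pos ℳ) 0) (d : ℤ) ∧
        (∀ e : ℤ, (d : ℤ) < e → E.Hcomp (irrel (stdGr k (Fin (r + 1)))) 0 e = ⊥) ∧
        Function.Surjective (fun m : ↥(ℳ ((d : ℕ) : ℤ)) => globalOf (CohB1.polyGrading r k) (pos ℳ) (i := d) m)) := by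
  rw [endDeg_le_iff, surjective_iff ℳ E d]
  simp only [Hgr_eq_bot_iff]
  constructor
  · rintro ⟨h0, h1⟩
    refine ⟨fun i hi hir => ?_, h0, ?_⟩
    · obtain ⟨n, rfl⟩ : ∃ n, i = n + 1 := ⟨i - 1, by omega⟩
      have e1 : (d : ℤ) - ((n + 2 : ℕ) : ℤ) + 1 = (d : ℤ) - ((n + 1 : ℕ) : ℤ) := by push_cast; ring
      have h2 : E.Hcomp (irrel (stdGr k (Fin (r + 1)))) (n + 2) ((d : ℤ) - ((n + 1 : ℕ) : ℤ)) = ⊥ := by
        rw [← e1]; exact h1 (n + 2) (by omega)
      exact (subsingleton_iff ℳ E ((d : ℤ) - ((n + 1 : ℕ) : ℤ)) n).2 h2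
    · have h2 := h1 1 one_pos
      simpa using h2
  · rintro ⟨h1, h0, h2⟩
    refine ⟨h0, fun i hi => ?_⟩
    rcases Nat.lt_or_ge (r + 1) i with hr | hr
    · exact Hcomp_eq_bot_of_lt ℳ E i hr _
    · by_cases hi1 : i = 1
      · subst hi1
        simpa using h2
      · obtain ⟨n, rfl⟩ : ∃ n, i = n + 2 := ⟨i - 2, by omega⟩
        have h3 := (subsingleton_iff ℳ E ((d : ℤ) - ((n + 1 : ℕ) : ℤ)) n).1 (h1 (n + 1) (by omega) (by omega))
        have e1 : (d : ℤ) - ((n + 2 : ℕ) : ℤ) + 1 = (d : ℤ) - ((n + 1 : ℕ) : ℤ) := by push_cast; ring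
        exact (congrArg (fun z => E.Hcomp (irrel (stdGr k (Fin (r + 1)))) (n + 2) z = ⊥) e1).mpr h3

end K860.RegSh
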