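import Groth.Agent.FormalB.GrTildeSect

/-!
# Sections of `M~(n)` over basic opens, for families `ℳ : ℕ → Submodule R M` which need not decompose `M`

The decomposition is replaced by: if `m` is homogeneous and `a • m = 0` then `a_j • m = 0` for the components of `a`.
This holds for the non-negative part of a `ℤ`-graded module.
-/

set_option autoImplicit false
set_option linter.unusedSectionVars false

universe u

open CategoryTheory CategoryTheory.Limits AlgebraicGeometry TopologicalSpace Opposite TopCat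

namespace K860.SectP

open Groth.Agent.FormalB.GrTildeSect

section Algebra

variable {R A : Type u} [CommRing R] [CommRing A] [Algebra R A] (𝒜 : ℕ → Submodule R A) [GradedAlgebra 𝒜]
variable {M : Type u} [AddCommGroup M] [Module R M] [Module A M] {ℳ : ℕ → Submodule R M}

/-- If a homogeneous element `m` vanishes in every localization `M_x`, `x ∈ D_+(f)`, then it is killed by a power
of `f`. -/
theorem exists_pow_smul_eq_zero' [SetLike.GradedSMul 𝒜 ℳ]
    (hP : ∀ {a : A} {i : ℕ} {m : M}, m ∈ ℳ i → a • m = 0 → ∀ j : ℕ, (DirectSum.decompose 𝒜 a j : A) • m = 0)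
    {d : ℕ} (hd : 0 < d) {f : A}
    (hf : f ∈ 𝒜 d) {k : ℤ} {m : M} (hm : m ∈ zdeg ℳ k)
    (H : ∀ x : ProjectiveSpectrum 𝒜, f ∉ x.asHomogeneousIdeal → ∃ a : A, a ∉ x.asHomogeneousIdeal ∧ a • m = 0) :
    ∃ N : ℕ, f ^ N • m = 0 := by
  rcases mem_zdeg_iff.mp hm with ⟨i, -, hi⟩ | rfl
  · let I : Ideal A := LinearMap.ker (LinearMap.toSpanSingleton A M m)
    have memI : ∀ a : A, a ∈ I ↔ a • m = 0 := fun a => by
      simp only [I, LinearMap.mem_ker, LinearMap.toSpanSingleton_apply]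
    have hI : I.IsHomogeneous 𝒜 := by
      intro j a ha
      rw [memI] at ha ⊢
      exact hP hi ha j
    obtain ⟨N, hN⟩ := mem_radical_of_forall 𝒜 hI hd hf (fun x hx => by
      obtain ⟨a, hax, ha⟩ := H x hx
      exact ⟨a, (memI a).mpr ha, hax⟩)
    exact ⟨N, (memI _).mp hN⟩
  · exact ⟨0, by simp⟩

end Algebra

section Sections

variable {R A : Type u} [CommRing R] [CommRing A] [Algebra R A] {𝒜 : ℕ → Submodule R A} [GradedAlgebra 𝒜]
variable {M : Type u} [AddCommGroup M] [Module R M] [Module A M] {ℳ : ℕ → Submodule R M}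
variable [SetLike.GradedSMul 𝒜 ℳ]

/-- Every section of `M(n)~` over `D_+(f)` (with `f` homogeneous of positive degree) is a fraction `m / f^k`. -/
theorem exists_frac_basicOpen'
    (hP : ∀ {a : A} {i : ℕ} {m : M}, m ∈ ℳ i → a • m = 0 → ∀ j : ℕ, (DirectSum.decompose 𝒜 a j : A) • m = 0)
    (n : ℤ) {d : ℕ} (hd : 0 < d) {f : A} (hf : f ∈ 𝒜 d)
    (s : GrTilde.sect 𝒜 ℳ n (op (ProjectiveSpectrum.basicOpen 𝒜 f))) :
    ∃ (k : ℕ) (m : M) (_ : m ∈ zdeg ℳ (((k * d : ℕ) : ℤ) + n)),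
      ∀ x : ProjectiveSpectrum.basicOpen 𝒜 f, (s.1 x).1 = LocalizedModule.mk m ⟨f ^ k, pow_notMem x.2 k⟩ := by
  classical
  choose e g m he hg hgx hm hs using exists_frac_at n s
  -- finite subcover
  have hcpt : IsCompact (ProjectiveSpectrum.basicOpen 𝒜 f : Set (ProjectiveSpectrum 𝒜)) :=
    (Proj.isAffineOpen_basicOpen 𝒜 f hf hd).isCompact
  obtain ⟨t, ht⟩ := hcpt.elim_finite_subcover
    (fun x : ProjectiveSpectrum.basicOpen 𝒜 f => (ProjectiveSpectrum.basicOpen 𝒜 (g x) : Set (ProjectiveSpectrum 𝒜)))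
    (fun x => (ProjectiveSpectrum.basicOpen 𝒜 (g x)).2)
    (fun x hx => Set.mem_iUnion.mpr ⟨⟨x, hx⟩, hgx ⟨x, hx⟩⟩)
  have ht' : ∀ x : ProjectiveSpectrum 𝒜, f ∉ x.asHomogeneousIdeal → ∃ z ∈ t, g z ∉ x.asHomogeneousIdeal := by
    intro x hx
    obtain ⟨z, hz⟩ := Set.mem_iUnion.mp (ht hx)
    obtain ⟨hzt, hz⟩ := Set.mem_iUnion.mp hz
    exact ⟨z, hzt, hz⟩
  -- pairwise compatibility
  have key : ∀ x y : ProjectiveSpectrum.basicOpen 𝒜 f, ∃ N : ℕ, (g x * g y) ^ N • (g y • m x - g x • m y) = 0 := by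
    intro x y
    refine exists_pow_smul_eq_zero' 𝒜 (ℳ := ℳ) hP (k := (e x : ℤ) + e y + n) (Nat.add_pos_left (he x) (e y))
      (SetLike.mul_mem_graded (hg x) (hg y)) (sub_mem ?_ ?_) ?_
    · exact smul_mem_zdeg_of_eq 𝒜 (hg y) (hm x) (by ring)
    · exact smul_mem_zdeg_of_eq 𝒜 (hg x) (hm y) (by ring)
    · intro z hz
      have hzx : g x ∉ z.asHomogeneousIdeal := fun h => hz (Ideal.mul_mem_right _ _ h)
      have hzy : g y ∉ z.asHomogeneousIdeal := fun h => hz (Ideal.mul_mem_left _ _ h)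
      obtain ⟨h1, h2⟩ := hs x z hzx
      obtain ⟨h3, h4⟩ := hs y z hzy
      exact exists_of_mk_eq (h2.symm.trans h4)
  choose N₀ hN₀ using key
  obtain ⟨N, hN⟩ : ∃ N : ℕ, ∀ x ∈ t, ∀ y ∈ t, (g x * g y) ^ N • (g y • m x - g x • m y) = 0 := by
    refine ⟨t.sup (fun x => t.sup (fun y => N₀ x y)), fun x hx y hy => ?_⟩
    have hle : N₀ x y ≤ t.sup (fun x => t.sup (fun y => N₀ x y)) :=
      (Finset.le_sup (f := fun y => N₀ x y) hy).trans (Finset.le_sup (f := fun x => t.sup (fun y => N₀ x y)) hx)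
    obtain ⟨c, hc⟩ := Nat.exists_eq_add_of_le' hle
    rw [hc, pow_add, mul_smul, hN₀, smul_zero]
  let G : ProjectiveSpectrum.basicOpen 𝒜 f → A := fun x => g x ^ (N + 1)
  let E : ProjectiveSpectrum.basicOpen 𝒜 f → ℕ := fun x => (N + 1) * e x
  let m' : ProjectiveSpectrum.basicOpen 𝒜 f → M := fun x => g x ^ N • m x
  have hGE : ∀ x, G x ∈ 𝒜 (E x) := fun x => by
    simpa [E, G, smul_eq_mul] using SetLike.pow_mem_graded (N + 1) (hg x)
  have hm' : ∀ x, m' x ∈ zdeg ℳ (E x + n) := fun x => by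
    refine smul_mem_zdeg_of_eq 𝒜 (SetLike.pow_mem_graded N (hg x)) (hm x) ?_
    simp only [E, smul_eq_mul]
    push_cast
    ring
  have hcomp : ∀ x ∈ t, ∀ y ∈ t, G y • m' x = G x • m' y := by
    intro x hx y hy
    have := hN x hx y hy
    rw [smul_sub, sub_eq_zero] at this
    simp only [G, m', smul_smul] at this ⊢
    calc (g y ^ (N + 1) * g x ^ N) • m x = ((g x * g y) ^ N * g y) • m x := by congr 1; ring
      _ = ((g x * g y) ^ N * g x) • m y := this
      _ = _ := by congr 1; ring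
  -- partition
  have hrad : f ∈ (Ideal.span (G '' (t : Set _))).radical := by
    refine mem_radical_of_forall 𝒜 (Ideal.homogeneous_span 𝒜 _ ?_) hd hf ?_
    · rintro _ ⟨x, -, rfl⟩
      exact ⟨E x, hGE x⟩
    · intro x hx
      obtain ⟨z, hz, hzx⟩ := ht' x hx
      exact ⟨G z, Ideal.subset_span ⟨z, hz, rfl⟩, pow_notMem hzx _⟩
  obtain ⟨K, hK⟩ := hrad
  obtain ⟨c, hc⟩ : ∃ c : ProjectiveSpectrum.basicOpen 𝒜 f → A, ∑ x ∈ t, c x * G x = f ^ K := by
    rw [Ideal.span, Submodule.mem_span_image_finset_iff_exists_fun'] at hK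
    obtain ⟨c, hc⟩ := hK
    exact ⟨c, hc⟩
  let c' : ProjectiveSpectrum.basicOpen 𝒜 f → A := fun x =>
    if E x ≤ K * d then (DirectSum.decompose 𝒜 (c x) (K * d - E x) : A) else 0
  have hfK : f ^ K ∈ 𝒜 (K * d) := by simpa [smul_eq_mul] using SetLike.pow_mem_graded K hf
  have hc' : ∑ x ∈ t, c' x * G x = f ^ K := by
    have h1 := DirectSum.decompose_of_mem_same 𝒜 hfK
    rw [← hc, DirectSum.decompose_sum, DFinsupp.finsetSum_apply, AddSubmonoidClass.coe_finsetSum] at h1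
    rw [← hc, ← h1]
    refine Finset.sum_congr rfl fun x _ => ?_
    rw [DirectSum.coe_decompose_mul_of_right_mem 𝒜 _ (hGE x)]
    simp only [c']
    split_ifs
    · rfl
    · rw [zero_mul]
  refine ⟨K, ∑ x ∈ t, c' x • m' x, sum_mem fun x _ => ?_, fun y => ?_⟩
  · by_cases h : E x ≤ K * d
    · simp only [c', if_pos h]
      exact smul_mem_zdeg_of_eq 𝒜 (SetLike.coe_mem _) (hm' x) (by push_cast [Nat.cast_sub h]; ring)
    · simp only [c', if_neg h, zero_smul]
      exact zero_mem _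
  · obtain ⟨z, hz, hzy⟩ := ht' y.1 y.2
    obtain ⟨h1, h2⟩ := hs z y.1 hzy
    refine h2.trans (mk_eq_of_smul_eq (g z ^ N) (pow_notMem hzy N) ?_)
    have h3 : G z • ∑ x ∈ t, c' x • m' x = f ^ K • m' z := by
      rw [Finset.smul_sum, ← hc', Finset.sum_smul]
      refine Finset.sum_congr rfl fun x hx => ?_
      rw [smul_comm, hcomp x hx z hz, smul_smul]
    calc g z ^ N • f ^ K • m z = f ^ K • m' z := smul_comm _ _ _
      _ = G z • ∑ x ∈ t, c' x • m' x := h3.symm
      _ = g z ^ N • g z • ∑ x ∈ t, c' x • m' x := by rw [smul_smul, ← pow_succ]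

end Sections

end K860.SectP
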