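import Groth.Agent.GrSyz.K860.Hilb
import Groth.Agent.GrSyz.K859.HilbPoly
import Mathlib.Algebra.Polynomial.Roots

/-!
# The difference between the Hilbert polynomial and the Hilbert function at `d = ρ + ℓ - r - 1`
-/

set_option autoImplicit false
set_option linter.unusedSectionVars false
universe u

open GrSyz

namespace K860.Sharp

open Basic Hilb

theorem Q_eval_neg (r : ℕ) : (K859.HilbPoly.Q r).eval ((-(r : ℤ) - 1 : ℤ) : ℚ) = (-1) ^ r := by
  rw [K859.HilbPoly.Q, Polynomial.eval_mul, Polynomial.eval_C, Polynomial.eval_comp, Polynomial.eval_add,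
    Polynomial.eval_X, Polynomial.eval_one]
  have h1 : (((-(r : ℤ) - 1 : ℤ) : ℚ) + 1) = -(r : ℚ) := by push_cast; ring
  rw [h1, ascPochhammer_eval_neg_eq_descPochhammer, descPochhammer_eval_eq_descFactorial, Nat.descFactorial_self]
  have : (r.factorial : ℚ) ≠ 0 := by exact_mod_cast Nat.factorial_ne_zero r
  field_simp

variable {k : Type u} [Field k] {r : ℕ}
  {M : Type u} [AddCommGroup M] [Module k M] [Module (MvPolynomial (Fin (r + 1)) k) M]
  [IsScalarTower k (MvPolynomial (Fin (r + 1)) k) M]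
  {ℳ : ℤ → Submodule k M} [DirectSum.Decomposition ℳ] [SetLike.GradedSMul (stdGr k (Fin (r + 1))) ℳ]
  (F : FreeRes (stdGr k (Fin (r + 1))) ℳ)

/-- the Hilbert polynomial -/
noncomputable def HP (m : ℕ) : Polynomial ℚ :=
  ∑ i ∈ Finset.range (m + 1), (-1) ^ i * ∑ b : Fin (F.rk i),
    (K859.HilbPoly.Q r).comp (Polynomial.X - Polynomial.C ((F.deg i b : ℤ) : ℚ))

theorem HP_eval (m : ℕ) (d : ℤ) : (HP F m).eval (d : ℚ) =
    ∑ i ∈ Finset.range (m + 1), (-1) ^ i * ∑ b : Fin (F.rk i),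
      (K859.HilbPoly.Q r).eval ((d - F.deg i b : ℤ) : ℚ) := by
  rw [HP, Polynomial.eval_finsetSum]
  refine Finset.sum_congr rfl fun i _ => ?_
  rw [Polynomial.eval_mul, Polynomial.eval_pow, Polynomial.eval_neg, Polynomial.eval_one,
    Polynomial.eval_finsetSum]
  congr 1
  refine Finset.sum_congr rfl fun b _ => ?_
  rw [Polynomial.eval_comp, Polynomial.eval_sub, Polynomial.eval_X, Polynomial.eval_C]
  push_cast
  rfl

theorem cast_finrank (m : ℕ) (hF : F.HasLengthLE m) (d : ℤ) :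
    ((Module.finrank k ↥(ℳ d) : ℤ) : ℚ) =
      ∑ i ∈ Finset.range (m + 1), (-1) ^ i * ∑ b : Fin (F.rk i),
        ((if 0 ≤ d - F.deg i b then ((Nat.choose (r + (d - F.deg i b).toNat) r : ℕ) : ℤ) else 0 : ℤ) : ℚ) := by
  rw [finrank_piece_eq_choose F m hF d]
  push_cast
  refine Finset.sum_congr rfl fun i _ => ?_
  congr 1
  refine Finset.sum_congr rfl fun b _ => ?_
  by_cases h : F.deg i b ≤ d
  · rw [if_pos h, if_pos (by omega)]
  · rw [if_neg h, if_neg (by omega)]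

/-- the Hilbert function agrees with the Hilbert polynomial in degrees `≥ D - r` -/
theorem finrank_eq_HP (m : ℕ) (hF : F.HasLengthLE m) (d : ℤ)
    (hd : ∀ i ≤ m, ∀ b : Fin (F.rk i), -(r : ℤ) ≤ d - F.deg i b) :
    ((Module.finrank k ↥(ℳ d) : ℤ) : ℚ) = (HP F m).eval (d : ℚ) := by
  rw [cast_finrank F m hF, HP_eval]
  refine Finset.sum_congr rfl fun i hi => ?_
  congr 1
  refine Finset.sum_congr rfl fun b _ => ?_
  rw [K859.HilbPoly.Q_eval r _ (hd i (by simpa [Nat.lt_succ_iff] using Finset.mem_range.1 hi) b)]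

theorem eq_HP (m : ℕ) (hF : F.HasLengthLE m) (P : Polynomial ℚ)
    (hP : ∃ d₁ : ℤ, ∀ d : ℤ, d₁ ≤ d → ((Module.finrank k ↥(ℳ d) : ℤ) : ℚ) = P.eval (d : ℚ)) : P = HP F m := by
  obtain ⟨d₁, hd₁⟩ := hP
  obtain ⟨D, hD⟩ : ∃ D : ℤ, ∀ i ≤ m, ∀ b : Fin (F.rk i), F.deg i b ≤ D := by
    obtain ⟨J, hJ⟩ := exists_degs F m
    obtain ⟨D, hD⟩ := J.bddAbove
    exact ⟨D, fun i hi b => hD (hJ i hi b)⟩
  refine Polynomial.eq_of_infinite_eval_eq _ _ ?_
  have h1 : ∀ d : ℤ, max d₁ D ≤ d → P.eval (d : ℚ) = (HP F m).eval (d : ℚ) := by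
    intro d hd
    rw [← hd₁ d (le_trans (le_max_left _ _) hd)]
    refine finrank_eq_HP F m hF d fun i hi b => ?_
    have := hD i hi b
    have := le_trans (le_max_right d₁ D) hd
    omega
  refine Set.infinite_of_injective_forall_mem (f := fun n : ℕ => (((max d₁ D + n : ℤ)) : ℚ)) ?_ ?_
  · intro a b hab
    have hab' : (((max d₁ D + a : ℤ)) : ℚ) = (((max d₁ D + b : ℤ)) : ℚ) := hab
    have : (max d₁ D + a : ℤ) = max d₁ D + b := by exact_mod_cast hab'
    omega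
  · intro n
    exact h1 _ (by omega)

/-- the key difference -/
theorem finrank_sub_HP (ℓ : ℕ) (hF : F.HasLengthLE ℓ) (ρ : ℤ) (hρ : F.IsGenLE ρ) :
    (HP F ℓ).eval ((ρ + ℓ - r - 1 : ℤ) : ℚ) - ((Module.finrank k ↥(ℳ (ρ + ℓ - r - 1)) : ℤ) : ℚ) =
      (-1) ^ ℓ * ((-1) ^ r * (F.betti ℓ (ρ + ℓ) : ℚ)) := by
  rw [cast_finrank F ℓ hF, HP_eval, ← Finset.sum_sub_distrib, Finset.sum_range_succ, Finset.sum_eq_zero, zero_add,
    ← mul_sub, ← Finset.sum_sub_distrib]
  · congr 1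
    have h1 : ∀ b : Fin (F.rk ℓ), (K859.HilbPoly.Q r).eval (((ρ + ℓ - r - 1) - F.deg ℓ b : ℤ) : ℚ) -
        ((if 0 ≤ (ρ + ℓ - r - 1) - F.deg ℓ b then
          ((Nat.choose (r + ((ρ + ℓ - r - 1) - F.deg ℓ b).toNat) r : ℕ) : ℤ) else 0 : ℤ) : ℚ) =
        if F.deg ℓ b = ρ + ℓ then (-1) ^ r else 0 := by
      intro b
      have h2 := hρ ℓ b
      split_ifs with h3 h4 h5
      · omega
      · rw [K859.HilbPoly.Q_eval r _ (by omega), if_pos h3]
        simp
      · rw [h5, show (ρ + ℓ - r - 1) - (ρ + ℓ) = -(r : ℤ) - 1 by ring, Q_eval_neg]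
        simp
      · rw [K859.HilbPoly.Q_eval r _ (by omega), if_neg h3]
        simp
    rw [Finset.sum_congr rfl fun b _ => h1 b, ← Finset.sum_filter, Finset.sum_const, FreeRes.betti]
    simp [mul_comm]
  · intro i hi
    rw [← mul_sub, ← Finset.sum_sub_distrib, Finset.sum_eq_zero, mul_zero]
    intro b _
    have h2 := hρ i b
    have h3 := Finset.mem_range.1 hi
    rw [K859.HilbPoly.Q_eval r _ (by omega), sub_self]

end K860.Sharp
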