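import Groth.Agent.GrSyz.K860.StarQ

/-!
# Global sections of `M~(d)` and the first step of the Čech complex
-/

set_option autoImplicit false
set_option linter.unusedVariables false
set_option linter.unusedSectionVars false
universe u

open CategoryTheory CategoryTheory.Limits AlgebraicGeometry TopologicalSpace Opposite TopCat
open GrLC K963 K963.Cat K963.Loc
open scoped K963.Cat

namespace K860.Star0

open GLoc SectP Theta ExCmp StarQ Groth.Agent.FormalB.GrTildeSect GrTilde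
open Groth.Agent.Ega3B.Cube FSys

variable {R A : Type u} [CommRing R] [CommRing A] [Algebra R A]
variable {M : Type u} [AddCommGroup M] [Module R M] [Module A M]
variable {𝒜 : ℕ → Submodule R A} [GradedAlgebra 𝒜]
variable {ℬ : ℤ → Submodule R A} [GradedRing ℬ] (hAB : ∀ n : ℕ, ℬ (n : ℤ) = 𝒜 n)
variable {J : Type} [LinearOrder J] [Fintype J] {v : J → A} (hv : ∀ j, v j ∈ ℬ 1)
  (hirr : (HomogeneousIdeal.irrelevant 𝒜).toIdeal ≤ Ideal.span (Set.range v))
variable (ℳ : ℤ → Submodule R M) [DirectSum.Decomposition ℳ] [SetLike.GradedSMul ℬ ℳ]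
  [SetLike.GradedSMul 𝒜 (pos ℳ)]

theorem sgn_singleton (i : J) : sgn i {i} = 1 := by
  unfold sgn
  rw [Finset.filter_eq_empty_iff.2]
  · simp
  · intro x hx
    rw [Finset.mem_singleton] at hx
    subst hx
    exact lt_irrefl _

theorem sgn_pair {i j : J} (h : i ≠ j) : sgn i {i, j} + sgn j {i, j} = 0 := by
  have h1 := sgn_swap h (t := {i, j}) (by simp) (by simp)
  have e1 : ({i, j} : Finset J).erase i = {j} := by
    rw [Finset.erase_insert]; simpa using h
  have e2 : ({i, j} : Finset J).erase j = {i} := by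
    rw [Finset.pair_comm, Finset.erase_insert]; simpa using h.symm
  rw [e1, e2, sgn_singleton, sgn_singleton, mul_one, mul_one] at h1
  rw [h1, neg_add_cancel]

/-- the system of localizations -/
noncomputable abbrev SY : Sys.{u, u} A J := sys (δ := fun _ => (1 : ℤ)) v hv (toGMod ℬ ℳ)

theorem xs_singleton (i : J) : xs v {i} = v i := by rw [xs, Finset.prod_singleton]

theorem mu_congr {s t : Finset J} (e : s = t) (x : ProjectiveSpectrum 𝒜) (h : xs v s ∉ x.asHomogeneousIdeal)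
    (h' : xs v t ∉ x.asHomogeneousIdeal) (c : ∀ s, (XL hv ℳ s).carrier) :
    mu hv ℳ s x h (c s) = mu hv ℳ t x h' (c t) := by
  subst e; rfl

theorem xs_notMem_of_subset {s t : Finset J} (h : s ⊆ t) {x : ProjectiveSpectrum 𝒜}
    (hx : xs v t ∉ x.asHomogeneousIdeal) : xs v s ∉ x.asHomogeneousIdeal := by
  classical
  intro h'
  apply hx
  have e : xs v t = xs v (t \ s) * xs v s := by
    rw [xs, xs, xs, Finset.prod_sdiff h]
  rw [e]
  exact Ideal.mul_mem_left _ _ h'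

/-- the germ of a coboundary -/
theorem mu_d (c : ∀ s, (XL hv ℳ s).carrier) (t : Finset J) (x : ProjectiveSpectrum 𝒜)
    (h : xs v t ∉ x.asHomogeneousIdeal) :
    mu hv ℳ t x h ((SY hv ℳ).d c t) =
      ∑ i ∈ t, sgn i t • mu hv ℳ (t.erase i) x (xs_notMem_of_subset (Finset.erase_subset i t) h)
        (c (t.erase i)) := by
  have h0 : (SY hv ℳ).d c t = ∑ i ∈ t, sgn i t • (rrL hv ℳ (Finset.erase_subset i t) (c (t.erase i))) := by
    refine ((SY hv ℳ).d_apply c t).trans (Finset.sum_congr rfl fun i _ => ?_)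
    exact congrArg (fun z => sgn i t • z) (Sys.tot_of (SY hv ℳ) (c := c) (Finset.erase_subset i t))
  refine (congrArg (mu hv ℳ t x h) h0).trans ?_
  rw [map_sum]
  refine Finset.sum_congr rfl fun i _ => ?_
  rw [map_zsmul, mu_rr]

include hirr in
theorem exists_notMem (x : ProjectiveSpectrum 𝒜) : ∃ i, v i ∉ x.asHomogeneousIdeal := by
  by_contra! H
  apply x.not_irrelevant_le
  intro a ha
  have : Ideal.span (Set.range v) ≤ x.asHomogeneousIdeal.toIdeal := by
    rw [Ideal.span_le]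
    rintro _ ⟨i, rfl⟩
    exact H i
  exact this (hirr ha)

theorem eq_zero_card {d : ℤ} {b : ∀ s, (XL hv ℳ s).carrier} (hb : b ∅ ∈ (XL hv ℳ ∅).gr d) :
    ∃ m ∈ ℳ d, b ∅ = tlL hv ℳ ∅ m := by
  obtain ⟨n, m, hm, h⟩ := exists_frac_deg hv ℳ hb
  refine ⟨m, by simpa using hm, ?_⟩
  rw [← h]
  simp [xs]

theorem d_zero (b : ∀ s, (XL hv ℳ s).carrier) (i : J) :
    (SY hv ℳ).d b {i} = rrL hv ℳ (Finset.empty_subset {i}) (b ∅) := by
  refine ((SY hv ℳ).d_apply b {i}).trans ?_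
  rw [Finset.sum_singleton, sgn_singleton, one_smul]
  have key : ∀ t : Finset J, t = ∅ → (SY hv ℳ).tot b {i} t = rrL hv ℳ (Finset.empty_subset {i}) (b ∅) := by
    rintro t rfl
    exact Sys.tot_of (SY hv ℳ) (Finset.empty_subset {i})
  exact key _ (Finset.erase_singleton i)

include hAB hirr in
theorem surj_of_exact (d : ℕ)
    (H : ∀ c ∈ (SY hv ℳ).C 1, (∀ s, c s ∈ (XL hv ℳ s).gr d) → (SY hv ℳ).d c = 0 →
      ∃ b ∈ (SY hv ℳ).C 0, (∀ s, b s ∈ (XL hv ℳ s).gr d) ∧ (SY hv ℳ).d b = c) :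
    Function.Surjective (fun m : ↥(ℳ (d : ℤ)) => globalOf 𝒜 (pos ℳ) (i := d) m) := by
  classical
  intro σ
  have h1 : ∀ t : Finset J, ∃ y : (XL hv ℳ t).carrier, y ∈ (XL hv ℳ t).gr d ∧ (t.Nonempty →
      ∀ (x : ProjectiveSpectrum 𝒜) (hx : xs v t ∉ x.asHomogeneousIdeal),
        mu hv ℳ t x hx y = (σ.1 ⟨x, trivial⟩).1) := by
    intro t
    by_cases ht : t.Nonempty
    · obtain ⟨y, hy, h⟩ := exists_of_sect hAB hv ℳ ht (ProjectiveSpectrum.basicOpen 𝒜 (xs v t))
        (fun x => Iff.rfl) (res 𝒜 (pos ℳ) d (homOfLE le_top).op σ)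
      refine ⟨y, hy, fun _ x hx => ?_⟩
      have h2 := thetaFun_val hAB hv ℳ (Or.inl ht) (ProjectiveSpectrum.basicOpen 𝒜 (xs v t))
        (fun x h => h) y hy ⟨x, hx⟩
      exact h2.symm.trans (congrArg (fun t : sect 𝒜 (pos ℳ) d (op (ProjectiveSpectrum.basicOpen 𝒜 (xs v t))) =>
        (t.1 ⟨x, hx⟩).1) h)
    · exact ⟨0, zero_mem _, fun h => absurd h ht⟩
  choose y hy hyσ using h1
  let c : ∀ s, (XL hv ℳ s).carrier := fun t => if t.card = 1 then y t else 0
  have hc : ∀ t : Finset J, t.card = 1 → c t = y t := fun t ht => if_pos ht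
  have hcd : ∀ s, c s ∈ (XL hv ℳ s).gr d := by
    intro s
    by_cases hs : s.card = 1
    · rw [hc s hs]; exact hy s
    · rw [show c s = 0 from if_neg hs]; exact zero_mem _
  have hcC : c ∈ (SY hv ℳ).C 1 := fun s hs => if_neg hs
  have hdc : (SY hv ℳ).d c = 0 := by
    funext t
    by_cases ht : t.card = 2
    · refine eq_zero_of_mu hAB hv ℳ (Finset.card_pos.1 (by omega)) (e := d)
        (LCech.d_gr v hv (toGMod ℬ ℳ) hcd t) fun x hx => ?_
      rw [mu_d]
      obtain ⟨i, j, hij, rfl⟩ := Finset.card_eq_two.1 ht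
      have h2 : ∀ k ∈ ({i, j} : Finset J), mu hv ℳ (({i, j} : Finset J).erase k) x
          (xs_notMem_of_subset (Finset.erase_subset k _) hx) (c (({i, j} : Finset J).erase k)) =
          (σ.1 ⟨x, trivial⟩).1 := by
        intro k hk
        have hk1 : (({i, j} : Finset J).erase k).card = 1 := by
          rw [Finset.card_erase_of_mem hk, ht]
        rw [hc _ hk1]
        exact hyσ _ (Finset.card_pos.1 (by omega)) x _
      rw [Finset.sum_congr rfl fun k hk => by rw [h2 k hk], ← Finset.sum_smul, Finset.sum_pair hij,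
        sgn_pair hij, zero_smul]
    · exact (SY hv ℳ).d_mem hcC t ht
  obtain ⟨b, -, hbd, hbc⟩ := H c hcC hcd hdc
  obtain ⟨m, hm, hbm⟩ := eq_zero_card hv ℳ (hbd ∅)
  refine ⟨⟨m, hm⟩, sect_ext fun x => ?_⟩
  obtain ⟨i, hi⟩ := exists_notMem hirr x.1
  have hi' : xs v {i} ∉ x.1.asHomogeneousIdeal := by rw [xs_singleton]; exact hi
  have h3 : c {i} = tlL hv ℳ {i} m := by
    rw [← hbc]
    refine (d_zero hv ℳ b i).trans ?_
    rw [hbm]
    exact rr_tl (δ := fun _ => (1 : ℤ)) v hv (toGMod ℬ ℳ) (Finset.empty_subset {i}) m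
  have h4 : mu hv ℳ {i} x.1 hi' (c {i}) = (σ.1 ⟨x.1, trivial⟩).1 := by
    rw [hc {i} (Finset.card_singleton i)]
    exact hyσ {i} (Finset.singleton_nonempty i) x.1 hi'
  exact (mu_tl hv ℳ {i} x.1 hi' m).symm.trans ((congrArg (mu hv ℳ {i} x.1 hi') h3.symm).trans h4)

include hAB hirr in
theorem exact_of_surj (d : ℕ)
    (H : Function.Surjective (fun m : ↥(ℳ (d : ℤ)) => globalOf 𝒜 (pos ℳ) (i := d) m)) :
    ∀ c ∈ (SY hv ℳ).C 1, (∀ s, c s ∈ (XL hv ℳ s).gr d) → (SY hv ℳ).d c = 0 →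
      ∃ b ∈ (SY hv ℳ).C 0, (∀ s, b s ∈ (XL hv ℳ s).gr d) ∧ (SY hv ℳ).d b = c := by
  classical
  intro c
  change ∀ s, (XL hv ℳ s).carrier at c
  intro hcC hcd hdc
  -- compatibility
  have hcomp : ∀ (i j : J) (x : ProjectiveSpectrum 𝒜) (hi : xs v {i} ∉ x.asHomogeneousIdeal)
      (hj : xs v {j} ∉ x.asHomogeneousIdeal), mu hv ℳ {i} x hi (c {i}) = mu hv ℳ {j} x hj (c {j}) := by
    intro i j x hi hj
    by_cases hij : i = j
    · subst hij; rfl
    · have hx : xs v {i, j} ∉ x.asHomogeneousIdeal := by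
        rw [xs, Finset.prod_pair hij]
        rw [xs_singleton] at hi hj
        exact fun h => (x.isPrime.mem_or_mem h).elim hi hj
      have h1 := mu_d hv ℳ c {i, j} x hx
      have h2 : mu hv ℳ {i, j} x hx ((SY hv ℳ).d c {i, j}) = 0 := by
        rw [hdc]; exact map_zero _
      rw [h2, Finset.sum_pair hij] at h1
      have e1 : ({i, j} : Finset J).erase i = {j} := by
        rw [Finset.erase_insert]; simpa using hij
      have e2 : ({i, j} : Finset J).erase j = {i} := by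
        rw [Finset.pair_comm, Finset.erase_insert]; simpa using Ne.symm hij
      rw [mu_congr hv ℳ e1 x _ hj c, mu_congr hv ℳ e2 x _ hi c] at h1
      have h3 : sgn i {i, j} = - sgn j {i, j} := eq_neg_of_add_eq_zero_left (sgn_pair hij)
      rw [h3, neg_smul] at h1
      have h4 : sgn j {i, j} • mu hv ℳ {i} x hi (c {i}) = sgn j {i, j} • mu hv ℳ {j} x hj (c {j}) := by
        rw [← sub_eq_zero, sub_eq_neg_add]
        exact h1.symm
      have h5 := congrArg (fun z => sgn j {i, j} • z) h4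
      simp only [smul_smul, sgn_mul_self, one_smul] at h5
      exact h5
  -- the global section
  choose ix hix using fun x : ProjectiveSpectrum 𝒜 => exists_notMem hirr x
  have hix' : ∀ x : ProjectiveSpectrum 𝒜, xs v {ix x} ∉ x.asHomogeneousIdeal := fun x => by
    rw [xs_singleton]; exact hix x
  have hUi : ∀ i (x : ProjectiveSpectrum 𝒜), x ∈ (ProjectiveSpectrum.basicOpen 𝒜 (xs v {i}) :
    Opens (ProjectiveSpectrum.top 𝒜)) → xs v {i} ∉ x.asHomogeneousIdeal := fun i x hx => hx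
  let T : ∀ i, sect 𝒜 (pos ℳ) d (op (ProjectiveSpectrum.basicOpen 𝒜 (xs v {i}) :
      Opens (ProjectiveSpectrum.top 𝒜))) := fun i =>
    thetaFun hAB hv ℳ (Or.inl (Finset.singleton_nonempty i)) _ (hUi i) (c {i}) (hcd {i})
  have hT : ∀ i (x : ProjectiveSpectrum 𝒜) (hx : xs v {i} ∉ x.asHomogeneousIdeal),
      ((T i).1 ⟨x, hx⟩).1 = mu hv ℳ {i} x hx (c {i}) := fun i x hx => rfl
  let σ : sect 𝒜 (pos ℳ) d (op ⊤) := ⟨fun x => (T (ix x.1)).1 ⟨x.1, hix' x.1⟩, by
    intro x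
    obtain ⟨V, hxV, inc, hfrac⟩ := (T (ix x.1)).2 ⟨x.1, hix' x.1⟩
    refine ⟨V, hxV, homOfLE le_top, ?_⟩
    have e1 : (fun y : V => (T (ix y.1)).1 ⟨y.1, hix' y.1⟩) = fun y : V => (T (ix x.1)).1 (inc y) := by
      funext y
      apply Subtype.ext
      exact hcomp _ _ y.1 _ (hUi _ y.1 (inc.le y.2))
    change IsFrac (d : ℤ) (fun y : V => (T (ix y.1)).1 ⟨y.1, hix' y.1⟩)
    rw [e1]
    exact hfrac⟩
  have hσ : ∀ i (x : ProjectiveSpectrum 𝒜) (hx : xs v {i} ∉ x.asHomogeneousIdeal),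
      (σ.1 ⟨x, trivial⟩).1 = mu hv ℳ {i} x hx (c {i}) := fun i x hx => hcomp _ _ x _ hx
  obtain ⟨m, hm⟩ := H σ
  let b : ∀ s, (XL hv ℳ s).carrier := fun t => if t.card = 0 then tlL hv ℳ t m.1 else 0
  have hb0 : b ∅ = tlL hv ℳ ∅ m.1 := if_pos rfl
  have hbd : ∀ s, b s ∈ (XL hv ℳ s).gr d := by
    intro s
    by_cases hs : s.card = 0
    · rw [show b s = tlL hv ℳ s m.1 from if_pos hs]; exact tlL_mem hv ℳ s m.2
    · rw [show b s = 0 from if_neg hs]; exact zero_mem _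
  have hbC : b ∈ (SY hv ℳ).C 0 := fun s hs => if_neg hs
  refine ⟨b, hbC, hbd, ?_⟩
  funext t
  by_cases ht : t.card = 1
  · obtain ⟨i, rfl⟩ := Finset.card_eq_one.1 ht
    refine (d_zero hv ℳ b i).trans ?_
    rw [hb0]
    refine (rr_tl (δ := fun _ => (1 : ℤ)) v hv (toGMod ℬ ℳ) (Finset.empty_subset {i}) m.1).trans ?_
    have h6 : tlL hv ℳ {i} m.1 - c {i} = 0 := by
      refine eq_zero_of_mu hAB hv ℳ (Finset.singleton_nonempty i) (e := d)
        (sub_mem (tlL_mem hv ℳ {i} m.2) (hcd {i})) fun x hx => ?_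
      rw [map_sub, mu_tl, ← hσ i x hx, ← hm, sub_eq_zero]
      rfl
    exact sub_eq_zero.1 h6
  · exact ((SY hv ℳ).d_mem hbC t ht).trans (hcC t ht).symm

include hAB hirr in
theorem surjective_iff (d : ℕ) :
    Function.Surjective (fun m : ↥(ℳ (d : ℤ)) => globalOf 𝒜 (pos ℳ) (i := d) m) ↔
    ∀ c ∈ (SY hv ℳ).C 1, (∀ s, c s ∈ (XL hv ℳ s).gr d) → (SY hv ℳ).d c = 0 →
      ∃ b ∈ (SY hv ℳ).C 0, (∀ s, b s ∈ (XL hv ℳ s).gr d) ∧ (SY hv ℳ).d b = c :=
  ⟨exact_of_surj hAB hv hirr ℳ d, surj_of_exact hAB hv hirr ℳ d⟩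

end K860.Star0
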