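import Groth.Agent.GrSyz.K860.Theta
import Groth.Agent.GrSyz.K860.ExCmp
import Groth.Agent.CohqA.CechK

/-!
# `H^{q+1}(Proj, M~(e))` and the homogeneous part of the Čech complex of localizations
-/

set_option autoImplicit false
set_option linter.unusedVariables false
set_option linter.unusedSectionVars false
universe u

open CategoryTheory CategoryTheory.Limits AlgebraicGeometry TopologicalSpace Opposite TopCat
open GrLC K963 K963.Cat K963.Loc
open scoped K963.Cat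

namespace K860.StarQ

open GLoc SectP Theta ExCmp Groth.Agent.FormalB.GrTildeSect GrTilde Groth.Agent.CohqA.CechK
open Groth.Agent.CohqA.FlatCpx Groth.Agent.Ega3B.CubeData

variable {R A : Type u} [CommRing R] [CommRing A] [Algebra R A]
variable {M : Type u} [AddCommGroup M] [Module R M] [Module A M]
variable {𝒜 : ℕ → Submodule R A} [GradedAlgebra 𝒜]
variable {ℬ : ℤ → Submodule R A} [GradedRing ℬ] (hAB : ∀ n : ℕ, ℬ (n : ℤ) = 𝒜 n)
variable {J : Type} [LinearOrder J] [Fintype J] {v : J → A} (hv : ∀ j, v j ∈ ℬ 1)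
  (hirr : (HomogeneousIdeal.irrelevant 𝒜).toIdeal ≤ Ideal.span (Set.range v))
variable (ℳ : ℤ → Submodule R M) [DirectSum.Decomposition ℳ] [SetLike.GradedSMul ℬ ℳ]
  [SetLike.GradedSMul 𝒜 (pos ℳ)]

variable (𝒜) (v) in
/-- the standard cover -/
noncomputable def UU (j : J) : (Proj 𝒜).Opens := Proj.basicOpen 𝒜 (v j)

theorem inf_UU (s : Finset J) : s.inf (UU 𝒜 v) = Proj.basicOpen 𝒜 (xs v s) := by
  classical
  induction s using Finset.induction_on with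
  | empty => simp [xs]
  | insert i s hi ih =>
    rw [Finset.inf_insert, ih, xs_insert v hi, Proj.basicOpen_mul]
    rfl

theorem mem_inf_UU (s : Finset J) (x : ProjectiveSpectrum 𝒜) :
    x ∈ (s.inf (UU 𝒜 v) : Opens (ProjectiveSpectrum.top 𝒜)) ↔ xs v s ∉ x.asHomogeneousIdeal := by
  rw [show (s.inf (UU 𝒜 v) : Opens (ProjectiveSpectrum.top 𝒜)) = Proj.basicOpen 𝒜 (xs v s) from inf_UU s]
  rfl

include hAB hv in
theorem isAffCov (hirr : (HomogeneousIdeal.irrelevant 𝒜).toIdeal ≤ Ideal.span (Set.range v)) :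
    IsAffCov (X := Proj 𝒜) (UU 𝒜 v) where
  cov := Proj.iSup_basicOpen_eq_top 𝒜 v hirr
  aff s hs := by
    rw [inf_UU]
    exact Proj.isAffineOpen_basicOpen 𝒜 (xs v s) (by simpa using xs_pow_mem hAB hv s 1) (Finset.card_pos.2 hs)

/-- the presheaf of sections -/
noncomputable abbrev GT (e : ℤ) : (Opens (Proj 𝒜).toTopCat)ᵒᵖ ⥤ AddCommGrpCat.{u} :=
  (Coh.toAb (X := Proj 𝒜) (tilde 𝒜 (pos ℳ) e)).obj

/-- homogeneous elements of the localization as sections -/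
noncomputable def thH (e : ℤ) (s : Finset J) (hs : s.Nonempty) :
    ((XL hv ℳ s).gr e) →+ sect 𝒜 (pos ℳ) e (op (s.inf (UU 𝒜 v) : Opens (ProjectiveSpectrum.top 𝒜))) where
  toFun y := thetaFun hAB hv ℳ (Or.inl hs) (s.inf (UU 𝒜 v)) (fun x => (mem_inf_UU s x).1) y.1 y.2
  map_zero' := sect_ext fun x => by
    change mu hv ℳ s x.1 ((mem_inf_UU s x.1).1 x.2) 0 = 0
    exact map_zero _
  map_add' y z := sect_ext fun x => by
    change mu hv ℳ s x.1 ((mem_inf_UU s x.1).1 x.2) (y.1 + z.1) =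
      mu hv ℳ s x.1 ((mem_inf_UU s x.1).1 x.2) y.1 + mu hv ℳ s x.1 ((mem_inf_UU s x.1).1 x.2) z.1
    exact map_add _ _ _

theorem thH_val (e : ℤ) (s : Finset J) (hs : s.Nonempty) (y : (XL hv ℳ s).gr e)
    (x : (s.inf (UU 𝒜 v) : Opens (ProjectiveSpectrum.top 𝒜))) :
    ((thH hAB hv ℳ e s hs y).1 x).1 = mu hv ℳ s x.1 ((mem_inf_UU s x.1).1 x.2) y.1 := rfl

theorem thH_bijective (e : ℤ) (s : Finset J) (hs : s.Nonempty) : Function.Bijective (thH hAB hv ℳ e s hs) := by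
  constructor
  · rw [injective_iff_map_eq_zero]
    intro y hy
    refine Subtype.ext (eq_zero_of_mu hAB hv ℳ hs y.2 fun x hx => ?_)
    have h1 := thH_val hAB hv ℳ e s hs y ⟨x, (mem_inf_UU s x).2 hx⟩
    rw [hy] at h1
    exact h1.symm
  · intro σ
    obtain ⟨y, hy, h⟩ := exists_of_sect hAB hv ℳ hs (s.inf (UU 𝒜 v)) (fun x => mem_inf_UU s x) σ
    exact ⟨⟨y, hy⟩, h⟩

/-- homogeneous elements of the localization are the sections -/
noncomputable def thE (e : ℤ) (s : Finset J) (hs : s.Nonempty) :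
    ((XL hv ℳ s).gr e) ≃+ (GT (𝒜 := 𝒜) ℳ e).obj (op (s.inf (UU 𝒜 v))) :=
  (AddEquiv.ofBijective (thH hAB hv ℳ e s hs) (thH_bijective hAB hv ℳ e s hs) :
    ((XL hv ℳ s).gr e) ≃+ sect 𝒜 (pos ℳ) e (op (s.inf (UU 𝒜 v) : Opens (ProjectiveSpectrum.top 𝒜))))

include hAB hirr in
/-- the cohomology of `M~(e)` in positive degree -/
theorem subsingleton_iff (e : ℤ) [(tilde 𝒜 (pos ℳ) e).IsQuasicoherent] (n : ℕ) :
    Subsingleton (Coh.HH (Proj 𝒜) (tilde 𝒜 (pos ℳ) e) (n + 1)) ↔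
      ∀ c ∈ (sys (δ := fun _ => (1 : ℤ)) v hv (toGMod ℬ ℳ)).C (n + 2),
        (∀ s, c s ∈ (XL hv ℳ s).gr e) → (sys (δ := fun _ => (1 : ℤ)) v hv (toGMod ℬ ℳ)).d c = 0 →
        ∃ b ∈ (sys (δ := fun _ => (1 : ℤ)) v hv (toGMod ℬ ℳ)).C (n + 1),
          (∀ s, b s ∈ (XL hv ℳ s).gr e) ∧ (sys (δ := fun _ => (1 : ℤ)) v hv (toGMod ℬ ℳ)).d b = c := by
  rw [subsingleton_HH_iff (isAffCov hAB hv hirr)]
  exact exAt_iff (X := (Proj 𝒜).toTopCat) (UU 𝒜 v) (GT (𝒜 := 𝒜) ℳ e)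
    (sys (δ := fun _ => (1 : ℤ)) v hv (toGMod ℬ ℳ)) (fun s => (XL hv ℳ s).gr e)
    (fun h y hy => rrL_mem hv ℳ h hy) (thE hAB hv ℳ e)
    (fun {s t} hs ht h y => by
      refine sect_ext (U := t.inf (UU 𝒜 v)) fun x => ?_
      exact mu_rr hv ℳ h x.1 _ _ y.1) n

end K860.StarQ
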