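import Groth.Agent.GrSyz.K860.KosT
import Groth.Agent.GrSyz.K860.Betti

/-!
# The modules `T^i(R)` of iterated linear relations and vanishing of Koszul homology
-/

set_option autoImplicit false
set_option linter.unusedSectionVars false
universe u v w

open GrSyz MvPolynomial

namespace K860.TMod

open Kos _root_.K860.Comp Basic KosPoly

/-- homogeneous polynomials of positive degree as linear combinations of the variables -/
theorem exists_eq_sum_X {k : Type u} [CommRing k] {N : ℕ} {a : ℤ} (ha : 0 < a) {g : MvPolynomial (Fin N) k}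
    (hg : g ∈ stdGr k (Fin N) a) :
    ∃ h : Fin N → MvPolynomial (Fin N) k, (∀ t, h t ∈ stdGr k (Fin N) (a - 1)) ∧ ∑ t, X t * h t = g := by
  have h1 : g ∈ Ideal.span (Set.range (X : Fin N → MvPolynomial (Fin N) k)) := by
    rw [← irrel_eq_span, mem_irrel_iff]
    exact constantCoeff_eq_zero ha.ne' hg
  obtain ⟨c, hc⟩ := (Ideal.mem_span_range_iff_exists_fun).1 h1
  refine ⟨fun t => Comp.cmp (stdGr k (Fin N)) (a - 1) (c t), fun t => cmp_mem _ _ _, ?_⟩
  have h2 : Comp.cmp (stdGr k (Fin N)) a g = g := cmp_of_mem hg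
  rw [← hc, map_sum] at h2
  rw [← hc, ← h2]
  refine Finset.sum_congr rfl fun t _ => ?_
  have h3 : Comp.cmp (stdGr k (Fin N)) a ((X t : MvPolynomial (Fin N) k) • c t) =
      (X t : MvPolynomial (Fin N) k) • Comp.cmp (stdGr k (Fin N)) (a - 1) (c t) :=
    cmp_smul_of_eq (stdGr k (Fin N)) (X_mem t) (by abel) (c t)
  rw [mul_comm (c t), ← smul_eq_mul, ← smul_eq_mul, h3]

/-- transport of vanishing along a retraction -/
theorem van_of_retract {k : Type u} {S : Type w} [CommRing k] [CommRing S] [Algebra k S]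
    {M : Type v} [AddCommGroup M] [Module k M] [Module S M] [IsScalarTower k S M]
    {P : Type v} [AddCommGroup P] [Module k P] [Module S P] [IsScalarTower k S P]
    (x : ℕ → S) {ℳ : ℤ → Submodule k M} {𝒬 : ℤ → Submodule k P} (φ : M →ₗ[S] P) (ψ : P →ₗ[S] M)
    (hψφ : ψ ∘ₗ φ = LinearMap.id) (hφ : ∀ j m, m ∈ ℳ j → φ m ∈ 𝒬 j) (hψ : ∀ j m, m ∈ 𝒬 j → ψ m ∈ ℳ j)
    (s : ℕ) (i j : ℤ) (h : (kos x 𝒬 s).Van i j) : (kos x ℳ s).Van i j := by
  intro z hz hD
  have h1 := kmap_mem (ℳ := ℳ) (𝒩 := 𝒬) (x := x) (φ := φ) (a := 0) (fun j m hm => by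
    rw [add_zero]; exact hφ j m hm) s i j z hz
  rw [add_zero] at h1
  obtain ⟨y, hy, e⟩ := h _ h1 (by rw [← kmap_D, hD, map_zero])
  have h2 := kmap_mem (ℳ := 𝒬) (𝒩 := ℳ) (x := x) (φ := ψ) (a := 0) (fun j m hm => by
    rw [add_zero]; exact hψ j m hm) s (i + 1) j y hy
  rw [add_zero] at h2
  refine ⟨_, h2, ?_⟩
  rw [← kmap_D, e, kmap_comp, hψφ, kmap_id]

variable {k : Type u} [CommRing k] {N : ℕ} {R : Type u} [AddCommGroup R] [Module k R]
  [Module (MvPolynomial (Fin N) k) R] [IsScalarTower k (MvPolynomial (Fin N) k) R]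

variable (k N R) in
/-- `T^i(R)` -/
noncomputable def Tm (i : ℕ) : Submodule (MvPolynomial (Fin N) k) ((Fin i → Fin N) → R) where
  carrier := {m | ∀ (s : Fin i) (c : Fin i → Fin N),
    ∑ v : Fin N, (X v : MvPolynomial (Fin N) k) • m (Function.update c s v) = 0}
  zero_mem' s c := by simp
  add_mem' {m m'} hm hm' s c := by
    simp only [Pi.add_apply, smul_add, Finset.sum_add_distrib]
    rw [hm s c, hm' s c, add_zero]
  smul_mem' f m hm s c := by
    simp only [Pi.smul_apply, smul_comm _ f]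
    rw [← Finset.smul_sum, hm s c, smul_zero]

theorem mem_Tm {i : ℕ} {m : (Fin i → Fin N) → R} : m ∈ Tm k N R i ↔ ∀ (s : Fin i) (c : Fin i → Fin N),
    ∑ v : Fin N, (X v : MvPolynomial (Fin N) k) • m (Function.update c s v) = 0 := Iff.rfl

variable (ℛ : ℤ → Submodule k R)

/-- functions with values in the piece of degree `e - i` -/
noncomputable def Tq (i : ℕ) (e : ℤ) : Submodule k ((Fin i → Fin N) → R) := Submodule.pi Set.univ fun _ => ℛ (e - i)

variable {ℛ} in
theorem mem_Tq {i : ℕ} {e : ℤ} {m : (Fin i → Fin N) → R} : m ∈ Tq (N := N) ℛ i e ↔ ∀ c, m c ∈ ℛ (e - i) := by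
  simp [Tq, Submodule.mem_pi]

/-- the pieces of `T^i(R)` -/
noncomputable def Tp (i : ℕ) (e : ℤ) : Submodule k ↥(Tm k N R i) :=
  (Tq ℛ i e).comap ((Tm k N R i).subtype.restrictScalars k)

variable {ℛ} in
theorem mem_Tp {i : ℕ} {e : ℤ} {m : ↥(Tm k N R i)} : m ∈ Tp ℛ i e ↔ ∀ c, m.1 c ∈ ℛ (e - i) := mem_Tq

variable (k N R) in
/-- the map `T^{i+1}(R) → T^i(R)^N` -/
noncomputable def slot (i : ℕ) : ↥(Tm k N R (i + 1)) →ₗ[MvPolynomial (Fin N) k] (Fin N → ↥(Tm k N R i)) where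
  toFun m v := ⟨fun c => m.1 (Fin.cons v c), fun s c => by
    have := m.2 s.succ (Fin.cons v c)
    simp only [← Fin.cons_update] at this
    exact this⟩
  map_add' _ _ := rfl
  map_smul' _ _ := rfl

theorem slot_apply (i : ℕ) (m : ↥(Tm k N R (i + 1))) (v : Fin N) (c : Fin i → Fin N) :
    (slot k N R i m v).1 c = m.1 (Fin.cons v c) := rfl

theorem slot_injective (i : ℕ) : Function.Injective (slot k N R i) := by
  intro m m' h
  apply Subtype.ext
  funext c
  have := congrArg (fun f => (f (c 0)).1 (Fin.tail c)) h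
  simp only [slot_apply, Fin.cons_self_tail] at this
  exact this

theorem slot_zero (i : ℕ) (m : ↥(Tm k N R (i + 1))) : ∑ t : Fin N, xs k N t • slot k N R i m t = 0 := by
  apply Subtype.ext
  funext c
  rw [Submodule.coe_sum, Finset.sum_apply]
  by_cases hN : N = 0
  · subst hN; simp
  have : NeZero N := ⟨hN⟩
  have h := m.2 0 (Fin.cons 0 c)
  simp only [Fin.update_cons_zero] at h
  refine Eq.trans (Finset.sum_congr rfl fun t _ => ?_) h
  rw [xs_of_lt t.2]
  rfl

theorem slot_exists (i : ℕ) (w : Fin N → ↥(Tm k N R i)) (hw : ∑ t : Fin N, xs k N t • w t = 0) :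
    ∃ m : ↥(Tm k N R (i + 1)), slot k N R i m = w := by
  refine ⟨⟨fun c => (w (c 0)).1 (Fin.tail c), fun s c => ?_⟩, ?_⟩
  · induction s using Fin.cases with
    | zero =>
      have h1 := congrArg (fun f : ↥(Tm k N R i) => f.1 (Fin.tail c)) hw
      simp only [Submodule.coe_sum, Finset.sum_apply] at h1
      rw [Submodule.coe_zero, Pi.zero_apply] at h1
      rw [← h1]
      refine Finset.sum_congr rfl fun t _ => ?_
      change (X t : MvPolynomial (Fin N) k) • (w (Function.update c 0 t 0)).1 (Fin.tail (Function.update c 0 t)) = _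
      rw [xs_of_lt t.2, Function.update_self, Fin.tail_update_zero]
      rfl
    | succ s =>
      have h1 := (w (c 0)).2 s (Fin.tail c)
      rw [← h1]
      refine Finset.sum_congr rfl fun t _ => ?_
      change (X t : MvPolynomial (Fin N) k) • (w (Function.update c s.succ t 0)).1
        (Fin.tail (Function.update c s.succ t)) = _
      rw [Fin.tail_update_succ, Function.update_of_ne (Fin.succ_ne_zero s).symm]
  · funext v
    apply Subtype.ext
    funext c
    rw [slot_apply]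
    simp

variable [SetLike.GradedSMul (stdGr k (Fin N)) ℛ]

theorem xs_smul_mem_Tp (i : ℕ) (t : ℕ) (j : ℤ) (m : ↥(Tm k N R i)) (hm : m ∈ Tp (N := N) ℛ i j) :
    xs k N t • m ∈ Tp (N := N) ℛ i (j + 1) := by
  rw [mem_Tp] at hm ⊢
  intro c
  have := xs_smul_mem (N := N) ℛ t _ _ (hm c)
  rwa [show j - i + 1 = j + 1 - (i : ℤ) by ring] at this

variable [DirectSum.Decomposition ℛ]

/-- the generation hypothesis on `T^i(R)` gives the decomposition of the piece of degree `D` -/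
theorem exists_of_gen (i : ℕ) (D : ℤ) (hgen : ∀ m : (Fin i → Fin N) → R, m ∈ Tm k N R i →
      m ∈ Submodule.span (MvPolynomial (Fin N) k)
        {m' : (Fin i → Fin N) → R | m' ∈ Tm k N R i ∧ ∃ e : ℤ, e ≤ D - 1 ∧ m' ∈ Tq ℛ i e})
    (a : ↥(Tm k N R i)) (ha : a ∈ Tp ℛ i D) :
    ∃ w : Fin N → ↥(Tm k N R i), (∀ t, w t ∈ Tp ℛ i (D - 1)) ∧ ∑ t : Fin N, xs k N t • w t = a := by
  let W : Submodule k ((Fin i → Fin N) → R) :=
    { carrier := {m | ∃ w : Fin N → ↥(Tm k N R i), (∀ t, w t ∈ Tp ℛ i (D - 1)) ∧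
        ((∑ t : Fin N, xs k N t • w t : ↥(Tm k N R i)) : (Fin i → Fin N) → R) = m}
      zero_mem' := ⟨0, fun _ => zero_mem _, by simp⟩
      add_mem' := by
        rintro m m' ⟨w, hw, rfl⟩ ⟨w', hw', rfl⟩
        refine ⟨w + w', fun t => add_mem (hw t) (hw' t), ?_⟩
        rw [← Submodule.coe_add, ← Finset.sum_add_distrib]
        congr 1
        exact Finset.sum_congr rfl fun t _ => smul_add _ _ _
      smul_mem' := by
        rintro c m ⟨w, hw, rfl⟩
        refine ⟨c • w, fun t => Submodule.smul_mem _ c (hw t), ?_⟩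
        rw [← Submodule.coe_smul_of_tower, Finset.smul_sum]
        congr 1
        exact Finset.sum_congr rfl fun t _ => Subtype.ext (funext fun c' => smul_comm (xs k N t) c ((w t).1 c')) }
  let C : ((Fin i → Fin N) → R) →ₗ[k] ((Fin i → Fin N) → R) :=
    LinearMap.pi fun c => Comp.cmp ℛ (D - i) ∘ₗ LinearMap.proj c
  have key : ∀ m ∈ Submodule.span (MvPolynomial (Fin N) k)
        {m' : (Fin i → Fin N) → R | m' ∈ Tm k N R i ∧ ∃ e : ℤ, e ≤ D - 1 ∧ m' ∈ Tq ℛ i e},
      ∀ f : MvPolynomial (Fin N) k, C (f • m) ∈ W := by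
    intro m hm
    induction hm using Submodule.span_induction with
    | mem m hm =>
      intro f
      obtain ⟨hmT, e, he, hme⟩ := hm
      obtain ⟨h, hh, hh'⟩ := exists_eq_sum_X (k := k) (N := N) (a := D - e) (by omega)
        (cmp_mem (stdGr k (Fin N)) (D - e) f)
      refine ⟨fun t => h t • ⟨m, hmT⟩, fun t => ?_, ?_⟩
      · rw [mem_Tp]
        intro c
        have h1 : (h t • m c) ∈ ℛ ((D - e - 1) + (e - i)) := SetLike.GradedSMul.smul_mem (hh t) (mem_Tq.1 hme c)
        rwa [show (D - e - 1) + (e - (i : ℤ)) = D - 1 - i by ring] at h1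
      · funext c
        change _ = Comp.cmp ℛ (D - i) (f • m c)
        have h2 : Comp.cmp ℛ (D - i) (f • m c) = Comp.cmp (stdGr k (Fin N)) (D - e) f • m c :=
          cmp_smul_of_eq' (stdGr k (Fin N)) (mem_Tq.1 hme c) (by ring) f
        rw [h2, ← hh', Finset.sum_smul, Submodule.coe_sum, Finset.sum_apply]
        refine Finset.sum_congr rfl fun t _ => ?_
        rw [xs_of_lt t.2, mul_smul]
        rfl
    | zero => intro f; rw [smul_zero, map_zero]; exact zero_mem _
    | add m m' _ _ h1 h2 => intro f; rw [smul_add, map_add]; exact add_mem (h1 f) (h2 f)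
    | smul c m _ h1 => intro f; rw [smul_smul]; exact h1 _
  obtain ⟨w, hw, e⟩ := key a.1 (hgen a.1 a.2) 1
  refine ⟨w, hw, Subtype.ext ?_⟩
  rw [e, one_smul]
  funext c
  exact cmp_of_mem (mem_Tp.1 ha c)

theorem van_of_gen (p : ℕ) (j : ℤ) (hgen : ∀ i : ℕ, i ≤ p → ∀ m : (Fin i → Fin N) → R, m ∈ Tm k N R i →
      m ∈ Submodule.span (MvPolynomial (Fin N) k)
        {m' : (Fin i → Fin N) → R | m' ∈ Tm k N R i ∧ ∃ e : ℤ, e ≤ j - (p : ℤ) + (i : ℤ) - 1 ∧ m' ∈ Tq ℛ i e}) :
    ∀ (q i : ℕ) (_ : q + i = p), (kos (xs k N) (Tp (N := N) ℛ i) N).Van q j := by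
  intro q
  induction q with
  | zero =>
    intro i hi
    refine van_of_T (xs k N) (φ := slot k N R i) (slot_injective i) (ℬ := Tp ℛ (i + 1)) (fun j b hb t => ?_)
      (slot_zero i) (fun j w hw h => ?_) (xs_smul_mem_Tp ℛ i) (xs_smul_mem_Tp ℛ (i + 1)) (fun a ha => ?_) le_rfl
      (van_of_neg _ _ _ (by simp))
    · rw [mem_Tp]; intro c
      have := mem_Tp.1 hb (Fin.cons t c)
      rwa [show j - ((i + 1 : ℕ) : ℤ) = j - 1 - i by push_cast; ring] at this
    · obtain ⟨b, rfl⟩ := slot_exists i w h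
      refine ⟨b, ?_, rfl⟩
      rw [mem_Tp]; intro c
      have := mem_Tp.1 (hw (c 0)) (Fin.tail c)
      rw [slot_apply, Fin.cons_self_tail] at this
      rwa [show j - ((i + 1 : ℕ) : ℤ) = j - 1 - i by push_cast; ring]
    · obtain rfl : i = p := by omega
      refine exists_of_gen ℛ i _ (fun m hm => ?_) a ha
      have e1 : j - ((0 : ℕ) : ℤ) - 1 = j - (i : ℤ) + (i : ℤ) - 1 := by push_cast; ring
      rw [e1]
      exact hgen i le_rfl m hm
  | succ q ih =>
    intro i hi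
    refine van_of_T (xs k N) (φ := slot k N R i) (slot_injective i) (ℬ := Tp ℛ (i + 1)) (fun j b hb t => ?_)
      (slot_zero i) (fun j w hw h => ?_) (xs_smul_mem_Tp ℛ i) (xs_smul_mem_Tp ℛ (i + 1)) (fun a ha => ?_) le_rfl
      (by simpa using ih (i + 1) (by omega))
    · rw [mem_Tp]; intro c
      have := mem_Tp.1 hb (Fin.cons t c)
      rwa [show j - ((i + 1 : ℕ) : ℤ) = j - 1 - i by push_cast; ring] at this
    · obtain ⟨b, rfl⟩ := slot_exists i w h
      refine ⟨b, ?_, rfl⟩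
      rw [mem_Tp]; intro c
      have := mem_Tp.1 (hw (c 0)) (Fin.tail c)
      rw [slot_apply, Fin.cons_self_tail] at this
      rwa [show j - ((i + 1 : ℕ) : ℤ) = j - 1 - i by push_cast; ring]
    · refine exists_of_gen ℛ i _ (fun m hm => ?_) a ha
      have e1 : j - ((q + 1 : ℕ) : ℤ) - 1 = j - (p : ℤ) + (i : ℤ) - 1 := by rw [← hi]; push_cast; ring
      rw [e1]
      exact hgen i (by omega) m hm

theorem van_R_of_gen (p : ℕ) (j : ℤ) (hgen : ∀ i : ℕ, i ≤ p → ∀ m : (Fin i → Fin N) → R, m ∈ Tm k N R i →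
      m ∈ Submodule.span (MvPolynomial (Fin N) k)
        {m' : (Fin i → Fin N) → R | m' ∈ Tm k N R i ∧ ∃ e : ℤ, e ≤ j - (p : ℤ) + (i : ℤ) - 1 ∧ m' ∈ Tq ℛ i e}) :
    (kos (xs k N) ℛ N).Van p j := by
  let φ : R →ₗ[MvPolynomial (Fin N) k] ↥(Tm k N R 0) :=
    { toFun := fun a => ⟨fun _ => a, fun s => s.elim0⟩
      map_add' := fun _ _ => rfl
      map_smul' := fun _ _ => rfl }
  let ψ : ↥(Tm k N R 0) →ₗ[MvPolynomial (Fin N) k] R :=
    { toFun := fun m => m.1 Fin.elim0
      map_add' := fun _ _ => rfl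
      map_smul' := fun _ _ => rfl }
  refine van_of_retract (xs k N) φ ψ rfl (𝒬 := Tp ℛ 0) (fun j m hm => ?_) (fun j m hm => ?_) N p j
    (van_of_gen ℛ p j hgen p 0 rfl)
  · rw [mem_Tp]; intro c
    change m ∈ ℛ (j - ((0 : ℕ) : ℤ))
    simpa using hm
  · have := mem_Tp.1 hm Fin.elim0
    change m.1 Fin.elim0 ∈ ℛ j
    simpa using this

end K860.TMod
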