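import Groth.Agent.GrSyz.K860.LCech
import Groth.Agent.GrSyz.K860.SectP

/-!
# Homogeneous pieces of localizations as sections of `M~(e)` over the basic opens
-/

set_option autoImplicit false
set_option linter.unusedVariables false
set_option linter.unusedSectionVars false
universe u

open CategoryTheory CategoryTheory.Limits AlgebraicGeometry TopologicalSpace Opposite TopCat
open GrLC K963 K963.Cat K963.Loc
open scoped K963.Cat

namespace K860.Theta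

open GLoc SectP Groth.Agent.FormalB.GrTildeSect GrTilde

variable {R A : Type u} [CommRing R] [CommRing A] [Algebra R A]
variable {M : Type u} [AddCommGroup M] [Module R M] [Module A M]

/-- the non-negative part -/
abbrev pos (ℳ : ℤ → Submodule R M) : ℕ → Submodule R M := fun n => ℳ (n : ℤ)

theorem mem_of_zdeg {ℳ : ℤ → Submodule R M} {k : ℤ} {m : M} (h : m ∈ zdeg (pos ℳ) k) : m ∈ ℳ k := by
  rcases mem_zdeg_iff.1 h with ⟨i, rfl, hi⟩ | rfl
  · exact hi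
  · exact zero_mem _

theorem zdeg_of_mem {ℳ : ℤ → Submodule R M} {k : ℤ} (hk : 0 ≤ k) {m : M} (h : m ∈ ℳ k) : m ∈ zdeg (pos ℳ) k := by
  obtain ⟨i, rfl⟩ := Int.eq_ofNat_of_zero_le hk
  exact mem_zdeg_of_eq (ℳ := pos ℳ) rfl h

section HP

variable (𝒜 : ℕ → Submodule R A) [GradedAlgebra 𝒜] (ℬ : ℤ → Submodule R A) [GradedRing ℬ]
  (hAB : ∀ n : ℕ, ℬ (n : ℤ) = 𝒜 n)
  {ℳ : ℤ → Submodule R M} [DirectSum.Decomposition ℳ] [SetLike.GradedSMul ℬ ℳ]

include hAB in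
theorem hP {a : A} {i : ℕ} {m : M} (hm : m ∈ pos ℳ i) (h : a • m = 0) (j : ℕ) :
    (DirectSum.decompose 𝒜 a j : A) • m = 0 := by
  classical
  have hmem : ∀ l : ℕ, (DirectSum.decompose 𝒜 a l : A) • m ∈ ℳ ((l : ℤ) + i) := fun l => by
    have h1 : (DirectSum.decompose 𝒜 a l : A) ∈ ℬ (l : ℤ) := by rw [hAB]; exact SetLike.coe_mem _
    exact SetLike.GradedSMul.smul_mem (A := ℬ) (B := ℳ) h1 hm
  have h2 : Dec.proj ℳ ((j : ℤ) + i) (a • m) = (DirectSum.decompose 𝒜 a j : A) • m := by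
    conv_lhs => rw [← DirectSum.sum_support_decompose 𝒜 a, Finset.sum_smul, map_sum]
    rw [Finset.sum_eq_single j]
    · exact Dec.proj_of_mem ℳ (hmem j)
    · intro l _ hl
      exact Dec.proj_of_mem_ne ℳ (hmem l) (by omega)
    · intro hj
      rw [DFinsupp.notMem_support_iff.mp hj]
      simp
  rw [← h2, h, map_zero]

end HP

section Mu

variable {𝒜 : ℕ → Submodule R A} [GradedAlgebra 𝒜]
variable {ℬ : ℤ → Submodule R A} [GradedRing ℬ]
variable {J : Type} {v : J → A} (hv : ∀ j, v j ∈ ℬ 1)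
variable (ℳ : ℤ → Submodule R M) [DirectSum.Decomposition ℳ] [SetLike.GradedSMul ℬ ℳ]

theorem loc_bij (x : ProjectiveSpectrum 𝒜) {f : A} (hf : f ∉ x.asHomogeneousIdeal) :
    Function.Bijective fun q : LocMod 𝒜 (M := M) x => f • q := by
  have h := IsLocalizedModule.map_units (LocalizedModule.mkLinearMap x.asHomogeneousIdeal.toIdeal.primeCompl M)
    (⟨f, hf⟩ : x.asHomogeneousIdeal.toIdeal.primeCompl)
  rw [Module.End.isUnit_iff] at h
  exact h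

/-- the localization of `M` at the product of `s` -/
noncomputable abbrev XL (s : Finset J) : GMod.{u} ℬ := XO (δ := fun _ => (1 : ℤ)) v hv (toGMod ℬ ℳ) s

/-- the localization map -/
noncomputable abbrev tlL (s : Finset J) : M →ₗ[A] (XL hv ℳ s).carrier :=
  lin (tl (δ := fun _ => (1 : ℤ)) v hv (toGMod ℬ ℳ) s)

/-- the transition map -/
noncomputable abbrev rrL {s t : Finset J} (h : s ⊆ t) : (XL hv ℳ s).carrier →ₗ[A] (XL hv ℳ t).carrier :=
  lin (rr (δ := fun _ => (1 : ℤ)) v hv (toGMod ℬ ℳ) h)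

/-- the germ map -/
noncomputable def mu (s : Finset J) (x : ProjectiveSpectrum 𝒜) (h : xs v s ∉ x.asHomogeneousIdeal) :
    (XL hv ℳ s).carrier →ₗ[A] LocMod 𝒜 (M := M) x :=
  liftL (toGMod ℬ ℳ) (xs_mem v hv s)
    (LocalizedModule.mkLinearMap x.asHomogeneousIdeal.toIdeal.primeCompl M) (loc_bij x h)

theorem mu_tl (s : Finset J) (x : ProjectiveSpectrum 𝒜) (h : xs v s ∉ x.asHomogeneousIdeal) (m : M) :
    mu hv ℳ s x h (tlL hv ℳ s m) = LocalizedModule.mk m 1 :=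
  liftL_toLoc (toGMod ℬ ℳ) (xs_mem v hv s)
    (LocalizedModule.mkLinearMap x.asHomogeneousIdeal.toIdeal.primeCompl M) (loc_bij x h) m

theorem mu_rr {s t : Finset J} (hst : s ⊆ t) (x : ProjectiveSpectrum 𝒜) (h : xs v s ∉ x.asHomogeneousIdeal)
    (h' : xs v t ∉ x.asHomogeneousIdeal) (y : (XL hv ℳ s).carrier) :
    mu hv ℳ t x h' (rrL hv ℳ hst y) = mu hv ℳ s x h y := by
  have e : mu hv ℳ t x h' ∘ₗ rrL hv ℳ hst = mu hv ℳ s x h := by
    refine hom_unique v hv (toGMod ℬ ℳ) (loc_bij x h).1 fun m => ?_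
    refine Eq.trans ?_ (mu_tl hv ℳ s x h m).symm
    refine Eq.trans ?_ (mu_tl hv ℳ t x h' m)
    exact congrArg (mu hv ℳ t x h') (rr_tl v hv (toGMod ℬ ℳ) hst m)
  exact LinearMap.congr_fun e y

theorem mu_frac {s : Finset J} (x : ProjectiveSpectrum 𝒜) (h : xs v s ∉ x.asHomogeneousIdeal)
    {y : (XL hv ℳ s).carrier} {n : ℕ} {m : M} (hy : xs v s ^ n • y = tlL hv ℳ s m) :
    mu hv ℳ s x h y = LocalizedModule.mk m ⟨xs v s ^ n, pow_notMem h n⟩ := by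
  apply (loc_bij x (pow_notMem h n)).1
  change xs v s ^ n • _ = xs v s ^ n • _
  rw [← map_smul, hy, mu_tl]
  have h1 := LocalizedModule.mk_cancel (S := x.asHomogeneousIdeal.toIdeal.primeCompl)
    ⟨xs v s ^ n, pow_notMem h n⟩ m
  rw [← h1, LocalizedModule.smul'_mk]
  rfl

theorem tlL_mem (s : Finset J) {g : ℤ} {m : M} (hm : m ∈ ℳ g) : tlL hv ℳ s m ∈ (XL hv ℳ s).gr g :=
  isGrHom (tl (δ := fun _ => (1 : ℤ)) v hv (toGMod ℬ ℳ) s) g m hm

theorem rrL_mem {s t : Finset J} (h : s ⊆ t) {g : ℤ} {y : (XL hv ℳ s).carrier} (hy : y ∈ (XL hv ℳ s).gr g) :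
    rrL hv ℳ h y ∈ (XL hv ℳ t).gr g :=
  isGrHom (rr (δ := fun _ => (1 : ℤ)) v hv (toGMod ℬ ℳ) h) g y hy

theorem exists_frac_deg {s : Finset J} {e : ℤ} {y : (XL hv ℳ s).carrier} (hy : y ∈ (XL hv ℳ s).gr e) :
    ∃ (n : ℕ) (m : M), m ∈ ℳ (((n * s.card : ℕ) : ℤ) + e) ∧ xs v s ^ n • y = tlL hv ℳ s m := by
  obtain ⟨n, m, hm, h⟩ := exists_frac_homog v hv (toGMod ℬ ℳ) hy
  refine ⟨n, m, ?_, h⟩
  have e1 : n • (∑ j ∈ s, (1 : ℤ)) + e = ((n * s.card : ℕ) : ℤ) + e := by simp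
  have h2 : (show M from m) ∈ ℳ (n • (∑ j ∈ s, (1 : ℤ)) + e) := hm
  rw [e1] at h2
  exact h2

theorem exists_frac_nonneg {s : Finset J} {e : ℤ} (hs : s.Nonempty ∨ 0 ≤ e) {y : (XL hv ℳ s).carrier}
    (hy : y ∈ (XL hv ℳ s).gr e) :
    ∃ (n : ℕ) (m : M), m ∈ zdeg (pos ℳ) (((n * s.card : ℕ) : ℤ) + e) ∧ xs v s ^ n • y = tlL hv ℳ s m := by
  obtain ⟨n, m, hm', h⟩ := exists_frac_deg hv ℳ hy
  rcases le_or_gt 0 (((n * s.card : ℕ) : ℤ) + e) with h0 | h0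
  · exact ⟨n, m, zdeg_of_mem h0 hm', h⟩
  · have hne : s.Nonempty := by
      rcases hs with hs | hs
      · exact hs
      · omega
    have hc : 1 ≤ s.card := Finset.card_pos.2 hne
    refine ⟨e.natAbs + n, xs v s ^ e.natAbs • m, ?_, ?_⟩
    · refine zdeg_of_mem ?_ ?_
      · have : (e.natAbs : ℤ) * 1 ≤ e.natAbs * s.card := by gcongr; exact_mod_cast hc
        push_cast
        push_cast at h0
        have h2 : (0 : ℤ) ≤ n * s.card := by positivity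
        nlinarith [Int.natCast_natAbs e, neg_abs_le e]
      · have hx : xs v s ∈ ℬ (s.card : ℤ) := by
          have := xs_mem (δ := fun _ => (1 : ℤ)) v hv s
          simpa using this
        have h3 := SetLike.GradedSMul.smul_mem (A := ℬ) (B := ℳ) (SetLike.pow_mem_graded e.natAbs hx) hm'
        have e1 : (e.natAbs • (s.card : ℤ)) +ᵥ (((n * s.card : ℕ) : ℤ) + e) =
            (((e.natAbs + n) * s.card : ℕ) : ℤ) + e := by
          rw [vadd_eq_add, nsmul_eq_mul]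
          push_cast
          ring
        rwa [e1] at h3
    · rw [pow_add, mul_smul, h, map_smul]

end Mu

section Theta

variable {𝒜 : ℕ → Submodule R A} [GradedAlgebra 𝒜]
variable {ℬ : ℤ → Submodule R A} [GradedRing ℬ] (hAB : ∀ n : ℕ, ℬ (n : ℤ) = 𝒜 n)
variable {J : Type} {v : J → A} (hv : ∀ j, v j ∈ ℬ 1)
variable (ℳ : ℤ → Submodule R M) [DirectSum.Decomposition ℳ] [SetLike.GradedSMul ℬ ℳ]
  [SetLike.GradedSMul 𝒜 (pos ℳ)]

include hv hAB in
theorem xs_pow_mem (s : Finset J) (n : ℕ) : xs v s ^ n ∈ 𝒜 (n * s.card) := by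
  have h := SetLike.pow_mem_graded n (xs_mem (δ := fun _ => (1 : ℤ)) v hv s)
  rw [← hAB]
  simpa using h

/-- the section defined by a homogeneous element of the localization -/
noncomputable def thetaFun {s : Finset J} {e : ℤ} (hs : s.Nonempty ∨ 0 ≤ e)
    (U : Opens (ProjectiveSpectrum.top 𝒜))
    (hU : ∀ x : ProjectiveSpectrum 𝒜, x ∈ U → xs v s ∉ x.asHomogeneousIdeal) (y : (XL hv ℳ s).carrier)
    (hy : y ∈ (XL hv ℳ s).gr e) : sect 𝒜 (pos ℳ) e (op U) :=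
  ⟨fun x => ⟨mu hv ℳ s x.1 (hU x.1 x.2) y, by
    obtain ⟨n, m, hm, h⟩ := exists_frac_nonneg hv ℳ hs hy
    rw [mu_frac hv ℳ x.1 (hU x.1 x.2) h]
    exact locMk_mem_tildeAt (xs_pow_mem hAB hv s n) (pow_notMem (hU x.1 x.2) n) hm⟩, by
    obtain ⟨n, m, hm, h⟩ := exists_frac_nonneg hv ℳ hs hy
    have e1 : (fun x : U => (⟨mu hv ℳ s x.1 (hU x.1 x.2) y, by
        rw [mu_frac hv ℳ x.1 (hU x.1 x.2) h]
        exact locMk_mem_tildeAt (xs_pow_mem hAB hv s n) (pow_notMem (hU x.1 x.2) n) hm⟩ :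
          tildeAt 𝒜 (pos ℳ) e x.1)) =
        (frac (ℳ := pos ℳ) e U (xs_pow_mem hAB hv s n) (fun x hx => pow_notMem (hU x hx) n) hm).1 := by
      funext x
      exact Subtype.ext (mu_frac hv ℳ x.1 (hU x.1 x.2) h)
    rw [e1]
    exact (frac (ℳ := pos ℳ) e U (xs_pow_mem hAB hv s n) (fun x hx => pow_notMem (hU x hx) n) hm).2⟩

theorem thetaFun_val {s : Finset J} {e : ℤ} (hs : s.Nonempty ∨ 0 ≤ e)
    (U : Opens (ProjectiveSpectrum.top 𝒜))
    (hU : ∀ x : ProjectiveSpectrum 𝒜, x ∈ U → xs v s ∉ x.asHomogeneousIdeal) (y : (XL hv ℳ s).carrier)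
    (hy : y ∈ (XL hv ℳ s).gr e) (x : U) :
    ((thetaFun hAB hv ℳ hs U hU y hy).1 x).1 = mu hv ℳ s x.1 (hU x.1 x.2) y := rfl

include hAB in
theorem eq_zero_of_mu {s : Finset J} (hs : s.Nonempty) {e : ℤ} {y : (XL hv ℳ s).carrier}
    (hy : y ∈ (XL hv ℳ s).gr e)
    (h : ∀ (x : ProjectiveSpectrum 𝒜) (hx : xs v s ∉ x.asHomogeneousIdeal), mu hv ℳ s x hx y = 0) : y = 0 := by
  obtain ⟨n, m, hm, h1⟩ := exists_frac_nonneg hv ℳ (Or.inl hs) hy
  have hxs : xs v s ∈ 𝒜 s.card := by simpa using xs_pow_mem hAB hv s 1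
  obtain ⟨N, hN⟩ := exists_pow_smul_eq_zero' 𝒜 (ℳ := pos ℳ) (hP 𝒜 ℬ hAB) (Finset.card_pos.2 hs) hxs hm
    (fun x hx => by
      have h2 := h x hx
      rw [mu_frac hv ℳ x hx h1] at h2
      have h3 : (LocalizedModule.mk m ⟨xs v s ^ n, pow_notMem hx n⟩ : LocMod 𝒜 (M := M) x) =
          LocalizedModule.mk 0 ⟨1, one_notMem x⟩ := by rw [h2, LocalizedModule.zero_mk]
      obtain ⟨a, ha, h4⟩ := exists_of_mk_eq h3
      refine ⟨a, ha, ?_⟩
      simpa using h4)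
  have h5 : xs v s ^ (N + n) • y = 0 := by
    rw [pow_add, mul_smul, h1, ← map_smul, hN, map_zero]
  apply (pow_bij (XO_bij (δ := fun _ => (1 : ℤ)) v hv (toGMod ℬ ℳ) (Finset.Subset.refl s)) (N + n)).1
  exact h5.trans (smul_zero _).symm

theorem exists_of_sect {s : Finset J} (hs : s.Nonempty) {e : ℤ} (U : Opens (ProjectiveSpectrum.top 𝒜))
    (hU : ∀ x : ProjectiveSpectrum 𝒜, x ∈ U ↔ xs v s ∉ x.asHomogeneousIdeal) (σ : sect 𝒜 (pos ℳ) e (op U)) :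
    ∃ (y : (XL hv ℳ s).carrier) (hy : y ∈ (XL hv ℳ s).gr e),
      thetaFun hAB hv ℳ (Or.inl hs) U (fun x => (hU x).1) y hy = σ := by
  have hxs : xs v s ∈ 𝒜 s.card := by simpa using xs_pow_mem hAB hv s 1
  have hUeq : U = ProjectiveSpectrum.basicOpen 𝒜 (xs v s) := by
    ext x
    exact hU x
  subst hUeq
  obtain ⟨K, m, hm, hσ⟩ := exists_frac_basicOpen' (ℳ := pos ℳ) (hP 𝒜 ℬ hAB) e (Finset.card_pos.2 hs) hxs σ
  obtain ⟨y, hy⟩ := (pow_bij (XO_bij (δ := fun _ => (1 : ℤ)) v hv (toGMod ℬ ℳ) (Finset.Subset.refl s)) K).2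
    (tlL hv ℳ s m)
  have hy' : xs v s ^ K • y = tlL hv ℳ s m := hy
  have hy2 : y ∈ (XL hv ℳ s).gr e := by
    refine Dec.mem_of_proj_eq_zero (XL hv ℳ s).gr fun h' hh' => ?_
    apply (pow_bij (XO_bij (δ := fun _ => (1 : ℤ)) v hv (toGMod ℬ ℳ) (Finset.Subset.refl s)) K).1
    change xs v s ^ K • _ = xs v s ^ K • (0 : (XL hv ℳ s).carrier)
    have hx2 : xs v s ^ K ∈ ℬ ((K * s.card : ℕ) : ℤ) := by
      rw [hAB]; exact xs_pow_mem hAB hv s K
    rw [smul_zero, Cat.smul_proj_of_mem (XL hv ℳ s) hx2, hy']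
    refine Dec.proj_of_mem_ne _ (tlL_mem hv ℳ s (mem_of_zdeg hm)) fun h => hh' ?_
    omega
  refine ⟨y, hy2, sect_ext fun x => ?_⟩
  exact (mu_frac hv ℳ x.1 x.2 hy').trans (hσ x).symm

end Theta

end K860.Theta
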