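import Groth.Agent.GrSyz.K860.KosMul
import Groth.Agent.GrSyz.K860.Comp

/-!
# Graded and ungraded Koszul homology

`tp M` : the constant family of pieces.  For a graded module, all bigraded pieces of the Koszul homology in
homological degree `i` vanish iff the ungraded Koszul homology vanishes in degree `i` (`van_tp_iff`).
-/

set_option autoImplicit false
set_option linter.unusedSectionVars false
universe u v v₁ v₂ v₃ w

namespace K860.Kos

open DC _root_.K860.Comp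

/-- the constant family of pieces -/
def tp (k : Type u) (M : Type v) [CommRing k] [AddCommGroup M] [Module k M] : ℤ → Submodule k M := fun _ => ⊤

section

variable {k : Type u} {R : Type v} [CommRing k] [CommRing R] [Algebra k R] {𝒜 : ℤ → Submodule k R} [GradedAlgebra 𝒜]
  {M : Type w} [AddCommGroup M] [Module k M] [Module R M] [IsScalarTower k R M]
  (x : ℕ → R) (ℳ : ℤ → Submodule k M) [DirectSum.Decomposition ℳ] [SetLike.GradedSMul 𝒜 ℳ]

/-- the component maps of the ungraded Koszul complex -/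
def kpr : ∀ (s : ℕ) (_ : ℤ), (kos x (tp k M) s).C →ₗ[k] (kos x ℳ s).C
  | 0, j => (Comp.cmp ℳ j : M →ₗ[k] M)
  | s + 1, j => (kpr s (j - 1)).prodMap (kpr s j)

variable {x}

theorem kpr_smul {f : R} (hf : f ∈ 𝒜 1) : ∀ (s : ℕ) (j : ℤ) (z : (kos x (tp k M) s).C),
    kpr x ℳ s j (f • z) = f • kpr x ℳ s (j - 1) z
  | 0, j, z => cmp_smul_of_eq (j := j - 1) (l := j) ℳ hf (by ring) (z : M)
  | s + 1, j, (u, v) => Prod.ext (kpr_smul hf s (j - 1) u) (kpr_smul hf s j v)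

theorem kpr_D (hx : ∀ t, x t ∈ 𝒜 1) : ∀ (s : ℕ) (j : ℤ) (z : (kos x (tp k M) s).C),
    kpr x ℳ s j ((kos x (tp k M) s).D z) = (kos x ℳ s).D (kpr x ℳ s j z)
  | 0, j, _ => map_zero (Comp.cmp ℳ j : M →ₗ[k] M)
  | s + 1, j, (u, v) => by
    change (kpr x ℳ s (j - 1) (-((kos x (tp k M) s).D u)),
      kpr x ℳ s j (x s • u + (kos x (tp k M) s).D v)) =
      (-((kos x ℳ s).D (kpr x ℳ s (j - 1) u)), x s • kpr x ℳ s (j - 1) u + (kos x ℳ s).D (kpr x ℳ s j v))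
    rw [map_neg, map_add, kpr_D hx s, kpr_D hx s, kpr_smul ℳ (hx s)]

theorem kpr_mem : ∀ (s : ℕ) (i j j' : ℤ) (z : (kos x (tp k M) s).C), z ∈ (kos x (tp k M) s).P i j' →
    kpr x ℳ s j z ∈ (kos x ℳ s).P i j
  | 0, i, j, j', z, hz => by
    have hz' := (mem_base_P (tp k M) i j' z).1 hz
    refine (mem_base_P (S := R) ℳ i j (Comp.cmp ℳ j (z : M))).2 ⟨cmp_mem _ _ _, fun h => ?_⟩
    rw [hz'.2 h]
    exact map_zero (Comp.cmp ℳ j : M →ₗ[k] M)
  | s + 1, i, j, j', (u, v), hz => ⟨kpr_mem s _ _ _ _ hz.1, kpr_mem s _ _ _ _ hz.2⟩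

theorem kpr_kmap : ∀ (s : ℕ) (i j : ℤ) (z : (kos x ℳ s).C), z ∈ (kos x ℳ s).P i j →
    kpr x ℳ s j (kmap x ℳ (tp k M) LinearMap.id s z) = z
  | 0, i, j, z, hz => by
    have hz' := (mem_base_P (S := R) ℳ i j (z : M)).1 hz
    exact cmp_of_mem (ℳ := ℳ) (m := (z : M)) hz'.1
  | s + 1, i, j, (u, v), hz => Prod.ext (kpr_kmap s _ _ _ hz.1) (kpr_kmap s _ _ _ hz.2)

theorem exists_sum_kpr : ∀ (s : ℕ) (z : (kos x (tp k M) s).C), ∃ J : Finset ℤ, ∀ J' : Finset ℤ, J ⊆ J' →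
    ∑ j ∈ J', kmap x ℳ (tp k M) LinearMap.id s (kpr x ℳ s j z) = z
  | 0, z => by
    obtain ⟨J, -, hJ⟩ := exists_sum_cmp ℳ (z : M)
    exact ⟨J, hJ⟩
  | s + 1, (u, v) => by
    classical
    obtain ⟨J₁, h₁⟩ := exists_sum_kpr s u
    obtain ⟨J₂, h₂⟩ := exists_sum_kpr s v
    refine ⟨J₁.image (· + 1) ∪ J₂, fun J' hJ' => ?_⟩
    have e : ∑ j ∈ J', kmap x ℳ (tp k M) LinearMap.id (s + 1) (kpr x ℳ (s + 1) j (u, v)) =
        (∑ j ∈ J', kmap x ℳ (tp k M) LinearMap.id s (kpr x ℳ s (j - 1) u),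
          ∑ j ∈ J', kmap x ℳ (tp k M) LinearMap.id s (kpr x ℳ s j v)) :=
      Prod.ext (map_sum (AddMonoidHom.fst (kos x (tp k M) s).C (kos x (tp k M) s).C) _ _)
        (map_sum (AddMonoidHom.snd (kos x (tp k M) s).C (kos x (tp k M) s).C) _ _)
    rw [e]
    refine Prod.ext ?_ (h₂ J' ((Finset.subset_union_right).trans hJ'))
    change ∑ j ∈ J', kmap x ℳ (tp k M) LinearMap.id s (kpr x ℳ s (j - 1) u) = u
    rw [← Finset.sum_image (s := J') (g := fun j : ℤ => j - 1)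
      (f := fun j => kmap x ℳ (tp k M) LinearMap.id s (kpr x ℳ s j u)) (fun a _ b _ h => by simpa using h)]
    refine h₁ _ fun a ha => ?_
    rw [Finset.mem_image]
    exact ⟨a + 1, hJ' (Finset.mem_union_left _ (Finset.mem_image_of_mem _ ha)), by ring⟩

include 𝒜 in
/-- graded and ungraded vanishing -/
theorem van_tp_iff (hx : ∀ t, x t ∈ 𝒜 1) (s : ℕ) (i j₀ : ℤ) :
    (kos x (tp k M) s).Van i j₀ ↔ ∀ j, (kos x ℳ s).Van i j := by
  constructor
  · intro h j z hz hD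
    have h1 : kmap x ℳ (tp k M) LinearMap.id s z ∈ (kos x (tp k M) s).P i (j + (j₀ - j)) :=
      kmap_mem x (fun _ _ _ => Submodule.mem_top) s i j z hz
    rw [add_sub_cancel] at h1
    obtain ⟨y, hy, e⟩ := h _ h1 (by rw [← kmap_D, hD, map_zero])
    refine ⟨kpr x ℳ s j y, kpr_mem ℳ s _ _ _ _ hy, ?_⟩
    rw [← kpr_D ℳ hx, e, kpr_kmap ℳ s i j z hz]
  · intro h z hz hD
    obtain ⟨J, hJ⟩ := exists_sum_kpr (x := x) ℳ s z
    choose y hy e using fun j => h j (kpr x ℳ s j z) (kpr_mem ℳ s i j j₀ z hz)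
      (by rw [← kpr_D ℳ hx, hD, map_zero])
    refine ⟨∑ j ∈ J, kmap x ℳ (tp k M) LinearMap.id s (y j), sum_mem fun j _ => ?_, ?_⟩
    · have := kmap_mem (𝒩 := tp k M) x (φ := LinearMap.id) (a := j₀ - j) (fun _ _ _ => Submodule.mem_top) s (i + 1) j (y j) (hy j)
      rwa [add_sub_cancel] at this
    · rw [map_sum, ← hJ J subset_rfl]
      exact Finset.sum_congr rfl fun j _ => by rw [← kmap_D, e]

end

end K860.Kos
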